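import Mathlib

/-!
# A checker for pairs of vectors fixed only by trivial elements of a monomial normaliser
-/

set_option autoImplicit false

namespace Cfsg.Agent.BT62.Check

/-- Arithmetic on codes of field elements. -/
structure Arith where
  /-- the number of codes -/
  q : ℕ
  /-- addition -/
  add : ℕ → ℕ → ℕ
  /-- multiplication -/
  mul : ℕ → ℕ → ℕ
  /-- the field automorphism of order at most two -/
  frob : ℕ → ℕ
  /-- minus one -/
  neg1 : ℕ

/-- The integers modulo `p`. -/
def arithP (p : ℕ) : Arith where
  q := p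
  add a b := (a + b) % p
  mul a b := (a * b) % p
  frob a := a
  neg1 := p - 1

/-- The field with nine elements, the code of `a + b i` being `a + 3 b`. -/
def arith9 : Arith where
  q := 9
  add a b := (a % 3 + b % 3) % 3 + 3 * ((a / 3 + b / 3) % 3)
  mul a b := ((a % 3) * (b % 3) + 2 * (a / 3) * (b / 3)) % 3 +
    3 * (((a % 3) * (b / 3) + (a / 3) * (b % 3)) % 3)
  frob a := a % 3 + 3 * ((3 - a / 3) % 3)
  neg1 := 2

/-- The parity of the number of binary ones. -/
def par : ℕ → ℕ → ℕ
  | 0, _ => 0
  | k + 1, n => (n + par k (n / 2)) % 2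

/-- A model: the arithmetic, the number of factors and the first factor. -/
structure Model where
  /-- arithmetic -/
  A : Arith
  /-- number of factors -/
  k : ℕ
  /-- the rows of the four basic operators on the first factor -/
  m0 : ℕ → ℕ → List (ℕ × ℕ)

/-- The first factor of split type. -/
def split0 (neg1 : ℕ) : ℕ → ℕ → List (ℕ × ℕ)
  | 1, x => if x = 0 then [(0, 1)] else [(1, neg1)]
  | 2, x => if x = 0 then [(1, 1)] else [(0, 1)]
  | 3, x => if x = 0 then [(1, 1)] else [(0, neg1)]
  | _, x => [(x, 1)]

/-- The first factor of nonsplit type in characteristic three. -/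
def quat0 : ℕ → ℕ → List (ℕ × ℕ)
  | 1, x => if x = 0 then [(1, 2)] else [(0, 1)]
  | 2, x => if x = 0 then [(0, 1), (1, 1)] else [(0, 1), (1, 2)]
  | 3, x => if x = 0 then [(0, 2), (1, 1)] else [(0, 1), (1, 1)]
  | _, x => [(x, 1)]

variable (M : Model)

/-- The dimension. -/
def dim : ℕ := 2 ^ M.k

/-- The bits of the sign part of a word. -/
def alpha : ℕ → ℕ → ℕ
  | 0, _ => 0
  | k + 1, t => t % 2 + 2 * alpha k (t / 4)

/-- The bits of the shift part of a word. -/
def beta : ℕ → ℕ → ℕ
  | 0, _ => 0
  | k + 1, t => (t / 2) % 2 + 2 * beta k (t / 4)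

/-- The row `x` of the operator of the word `t`. -/
def row (t x : ℕ) : List (ℕ × ℕ) :=
  let a := alpha (M.k - 1) (t / 4)
  let b := beta (M.k - 1) (t / 4)
  let s := if par M.k (a &&& (x / 2)) = 1 then M.A.neg1 else 1
  (M.m0 (t % 4) (x % 2)).map fun e => (e.1 + 2 * ((x / 2) ^^^ b), M.A.mul s e.2)

/-- The digit of a packed vector. -/
def digit (v x : ℕ) : ℕ := (v >>> (4 * x)) &&& 15

/-- Application of a multiple of the operator of a word. -/
def actAux (c t v : ℕ) : ℕ → ℕ → ℕ
  | 0, _ => 0
  | n + 1, x => M.A.mul c ((row M t x).foldr (fun e acc => M.A.add (M.A.mul e.2 (digit v e.1)) acc) 0)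
      + 16 * actAux c t v n (x + 1)

/-- Application of a multiple of the operator of a word. -/
def act (c t v : ℕ) : ℕ := actAux M c t v (dim M) 0

/-- Whether two words anticommute. -/
def anti (a b : ℕ) : ℕ :=
  (par M.k (alpha M.k a &&& beta M.k b) + par M.k (beta M.k a &&& alpha M.k b)) % 2

/-- A vector of the orbit. -/
def orb (X Y : ℕ) (ims : List (ℕ × ℕ)) (i : ℕ) : ℕ :=
  go ims (i / 2) (if i % 2 = 0 then X else Y)
where
  /-- Application of the selected operators. -/
  go : List (ℕ × ℕ) → ℕ → ℕ → ℕ
  | [], _, v => v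
  | e :: r, j, v => go r (j / 2) (if j % 2 = 1 then act M e.1 e.2 v else v)

/-- A linear combination vanishes in position `x`. -/
def combZero (vs : List (ℕ × ℕ)) : ℕ → Bool
  | 0 => true
  | n + 1 => (vs.foldr (fun e acc => M.A.add (M.A.mul e.1 (digit e.2 n)) acc) 0 == 0) && combZero vs n

/-- A relation holds among orbit vectors. -/
def relHolds (X Y : ℕ) (f : Bool) (ims : List (ℕ × ℕ)) (rel : List (ℕ × ℕ)) : Bool :=
  combZero M (rel.map fun e => (if f then M.A.frob e.2 else e.2, orb M X Y ims e.1)) (dim M)

/-- The candidate images of a generator. -/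
def cands (f : Bool) (s : ℕ) : List (ℕ × ℕ) :=
  let z := digit (act M 1 s (act M 1 s 1)) 0
  let z' := if f then M.A.frob z else z
  ((List.range (4 ^ M.k)).flatMap fun t => (List.range M.A.q).map fun c => (c, t)).filter fun e =>
    (!(e.1 == 0)) && (digit (act M e.1 e.2 (act M e.1 e.2 1)) 0 == z')

/-- The data of a certificate: two vectors and the generators, each with candidates and relations. -/
structure Cert where
  /-- the first vector -/
  X : ℕ
  /-- the second vector -/
  Y : ℕ
  /-- generators and the relations available once they are placed -/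
  steps : List (ℕ × List (List (ℕ × ℕ)))

/-- Exploration of the possible images. -/
def explore (X Y : ℕ) (f : Bool) (leaf : Bool → List (ℕ × ℕ) → Bool) :
    List (ℕ × List (List (ℕ × ℕ)) × List (ℕ × ℕ)) → List ℕ → List (ℕ × ℕ) → Bool
  | [], _, ims => leaf f ims
  | (s, rels, cs) :: r, done, ims => cs.all fun e =>
      (!(((List.zip done ims).all fun d => anti M d.1 s == anti M d.2.2 e.2))) ||
      (!(rels.all fun rel => relHolds M X Y f (ims ++ [e]) rel)) ||
      explore X Y f leaf r (done ++ [s]) (ims ++ [e])

/-- The steps with their candidates. -/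
def withCands (C : Cert) (f : Bool) : List (ℕ × List (List (ℕ × ℕ)) × List (ℕ × ℕ)) :=
  C.steps.map fun st => (st.1, st.2, cands M f st.1)

/-- The relations hold for the generators themselves. -/
def relsOK (C : Cert) : Bool :=
  let gens := C.steps.map fun st => ((1 : ℕ), st.1)
  (List.range C.steps.length).all fun i =>
    (((C.steps[i]?).map Prod.snd).getD []).all fun rel =>
      rel.all (fun e => e.1 < 2 * 2 ^ (i + 1) && e.2 < M.A.q) &&
      relHolds M C.X C.Y false (gens.take (i + 1)) rel

/-- The only possible images are the trivial ones. -/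
def trivialLeaf (C : Cert) (f : Bool) (ims : List (ℕ × ℕ)) : Bool :=
  (!f) && (ims == C.steps.map fun st => ((1 : ℕ), st.1))

end Cfsg.Agent.BT62.Check
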