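import Mathlib
import Cfsg.Agent.BT62.Check

/-!
# Interpretation of the codes used by the checker
-/

set_option autoImplicit false

namespace Cfsg.Agent.BT62.Check

/-- The codes are the elements of a field. -/
structure Hom (A : Arith) (K : Type) [Field K] where
  /-- the element with a given code -/
  emb : ℕ → K
  q_le : A.q ≤ 16
  one_lt : 1 < A.q
  zero : emb 0 = 0
  one : emb 1 = 1
  neg_lt : A.neg1 < A.q
  neg : emb A.neg1 = -1
  add_lt : ∀ a < A.q, ∀ b < A.q, A.add a b < A.q
  add_eq : ∀ a < A.q, ∀ b < A.q, emb (A.add a b) = emb a + emb b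
  mul_lt : ∀ a < A.q, ∀ b < A.q, A.mul a b < A.q
  mul_eq : ∀ a < A.q, ∀ b < A.q, emb (A.mul a b) = emb a * emb b
  frob_lt : ∀ a < A.q, A.frob a < A.q
  inj : ∀ a < A.q, emb a = 0 → a = 0
  code_unique : ∀ a < A.q, ∀ b < A.q, emb a = emb b → a = b
  surj : ∀ x : K, ∃ a < A.q, emb a = x

variable {M : Model} {K : Type} [Field K] (E : Hom M.A K)

/-- All digits of a packed vector are codes. -/
def Valid (M : Model) (v : ℕ) : Prop := ∀ x < dim M, digit v x < M.A.q

theorem Hom.fold_spec {E : Hom M.A K} (l : List (ℕ × ℕ)) (h : ∀ e ∈ l, e.1 < M.A.q ∧ e.2 < M.A.q) :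
    (l.foldr (fun e acc => M.A.add (M.A.mul e.1 e.2) acc) 0) < M.A.q ∧
      E.emb (l.foldr (fun e acc => M.A.add (M.A.mul e.1 e.2) acc) 0) =
        (l.map fun e => E.emb e.1 * E.emb e.2).sum := by
  induction l with
  | nil => exact ⟨by have := E.one_lt; simp; omega, by simp [E.zero]⟩
  | cons a l ih =>
    obtain ⟨ha1, ha2⟩ := h a List.mem_cons_self
    obtain ⟨i1, i2⟩ := ih fun e he => h e (List.mem_cons_of_mem _ he)
    simp only [List.foldr_cons, List.map_cons, List.sum_cons]
    have hm := E.mul_lt _ ha1 _ ha2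
    exact ⟨E.add_lt _ hm _ i1, by rw [E.add_eq _ hm _ i1, E.mul_eq _ ha1 _ ha2, i2]⟩

/-- The rows only contain codes and positions inside the range. -/
def RowOK (M : Model) : Prop :=
  ∀ t < 4 ^ M.k, ∀ x < dim M, ∀ e ∈ row M t x, e.1 < dim M ∧ e.2 < M.A.q

theorem digit_succ (a r x : ℕ) (ha : a < 16) : digit (a + 16 * r) (x + 1) = digit r x := by
  simp only [digit, Nat.shiftRight_eq_div_pow]
  rw [show 2 ^ (4 * (x + 1)) = 16 * 2 ^ (4 * x) by rw [mul_add, pow_add]; ring,
    ← Nat.div_div_eq_div_mul, Nat.add_mul_div_left _ _ (by norm_num), Nat.div_eq_of_lt ha, zero_add]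

theorem digit_zero' (a r : ℕ) (ha : a < 16) : digit (a + 16 * r) 0 = a := by
  simp only [digit, mul_zero, Nat.shiftRight_zero]
  rw [show (15 : ℕ) = 2 ^ 4 - 1 by norm_num, Nat.and_two_pow_sub_one_eq_mod]
  omega

/-- The entry of an image. -/
def entry (M : Model) (c t v x : ℕ) : ℕ :=
  M.A.mul c ((row M t x).foldr (fun e acc => M.A.add (M.A.mul e.2 (digit v e.1)) acc) 0)

theorem entry_lt (hR : RowOK M) {c t v x : ℕ} (hc : c < M.A.q) (ht : t < 4 ^ M.k) (hv : Valid M v)
    (hx : x < dim M) : entry M c t v x < M.A.q ∧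
      E.emb (entry M c t v x) = E.emb c * E.emb (entry M 1 t v x) := by
  have key : (row M t x).foldr (fun e acc => M.A.add (M.A.mul e.2 (digit v e.1)) acc) 0 =
      ((row M t x).map fun e => (e.2, digit v e.1)).foldr
        (fun e acc => M.A.add (M.A.mul e.1 e.2) acc) 0 := by rw [List.foldr_map]
  have h := (E.fold_spec ((row M t x).map fun e => (e.2, digit v e.1)) (by
    intro e he
    obtain ⟨e', he', rfl⟩ := List.mem_map.mp he
    exact ⟨(hR t ht x hx e' he').2, hv _ (hR t ht x hx e' he').1⟩)).1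
  rw [← key] at h
  refine ⟨E.mul_lt _ hc _ h, ?_⟩
  show E.emb (M.A.mul c _) = E.emb c * E.emb (M.A.mul 1 _)
  rw [E.mul_eq _ hc _ h, E.mul_eq _ E.one_lt _ h, E.one, one_mul]

theorem digit_actAux {c t v : ℕ} (hlt : ∀ x < dim M, entry M c t v x < 16) : ∀ n x0 i, i < n → x0 + n ≤ dim M →
    digit (actAux M c t v n x0) i = entry M c t v (x0 + i) := by
  intro n
  induction n with
  | zero => intro x0 i hi; omega
  | succ n ih =>
    intro x0 i hi hle
    rw [actAux]
    rcases i with _ | i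
    · rw [add_zero]
      exact digit_zero' _ _ (hlt x0 (by omega))
    · rw [show x0 + (i + 1) = x0 + 1 + i by omega, ← ih (x0 + 1) i (by omega) (by omega)]
      exact digit_succ _ _ _ (hlt x0 (by omega))

include E in
theorem act_spec (hR : RowOK M) {c t v : ℕ} (hc : c < M.A.q) (ht : t < 4 ^ M.k) (hv : Valid M v) :
    Valid M (act M c t v) ∧ ∀ x < dim M, digit (act M c t v) x = entry M c t v x := by
  have h1 : ∀ x < dim M, digit (act M c t v) x = entry M c t v x := fun x hx => by
    have := digit_actAux (fun y hy => lt_of_lt_of_le (entry_lt E hR hc ht hv hy).1 E.q_le)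
      (dim M) 0 x hx (by omega)
    rwa [zero_add] at this
  exact ⟨fun x hx => by rw [h1 x hx]; exact (entry_lt E hR hc ht hv hx).1, h1⟩

variable {W : Type} [AddCommGroup W] [Module K W] (b : ℕ → W)

/-- The vector of a code. -/
noncomputable def vec (v : ℕ) : W := ∑ x ∈ Finset.range (dim M), E.emb (digit v x) • b x

theorem vec_act (hR : RowOK M) {c t v : ℕ} (hc : c < M.A.q) (ht : t < 4 ^ M.k) (hv : Valid M v) :
    vec E b (act M c t v) = E.emb c • vec E b (act M 1 t v) := by
  simp only [vec, Finset.smul_sum, smul_smul]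
  refine Finset.sum_congr rfl fun x hx => ?_
  have hx := Finset.mem_range.mp hx
  rw [(act_spec E hR hc ht hv).2 x hx, (act_spec E hR E.one_lt ht hv).2 x hx,
    (entry_lt E hR hc ht hv hx).2]

end Cfsg.Agent.BT62.Check
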