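import Mathlib
import Cfsg.Agent.BT62.Interp

/-!
# The fields with three, five and nine elements as codes
-/

set_option autoImplicit false

namespace Cfsg.Agent.BT62

variable {K : Type} [Field K] [Finite K]

theorem natCast_card_zero {q : ℕ} (hK : Nat.card K = q) : (q : K) = 0 := by
  haveI := Fintype.ofFinite K
  rw [← hK, Nat.card_eq_fintype_card]
  exact Nat.cast_card_eq_zero K

theorem charP_of_card {p m : ℕ} [Fact p.Prime] (hm : 0 < m) (hK : Nat.card K = p ^ m) : CharP K p := by
  have h := natCast_card_zero hK
  rw [Nat.cast_pow, pow_eq_zero_iff hm.ne'] at h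
  exact (CharP.charP_iff_prime_eq_zero (R := K) Fact.out).mpr h

theorem exists_arithP {p : ℕ} [hp : Fact p.Prime] (hp16 : p ≤ 16) (hK : Nat.card K = p) :
    ∃ E : Check.Hom (Check.arithP p) K, ∀ n, E.emb n = (n : K) := by
  classical
  haveI : CharP K p := charP_of_card one_pos (by rw [pow_one, hK])
  have h2 := hp.out.two_le
  have hinj : ∀ a < p, ∀ b < p, (a : K) = b → a = b := fun a ha b hb h =>
    CharP.natCast_injOn_Iio K p ha hb h
  exact ⟨{ emb := fun n => (n : K)
           q_le := hp16
           one_lt := hp.out.one_lt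
           zero := Nat.cast_zero
           one := Nat.cast_one
           neg_lt := by show p - 1 < p; omega
           neg := by
            show ((p - 1 : ℕ) : K) = -1
            rw [Nat.cast_sub (by omega), CharP.cast_eq_zero K p, Nat.cast_one, zero_sub]
           add_lt := fun a _ b _ => Nat.mod_lt _ hp.out.pos
           add_eq := fun a _ b _ => by
            show (((a + b) % p : ℕ) : K) = _
            rw [← CharP.cast_eq_mod K p, Nat.cast_add]
           mul_lt := fun a _ b _ => Nat.mod_lt _ hp.out.pos
           mul_eq := fun a _ b _ => by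
            show (((a * b) % p : ℕ) : K) = _
            rw [← CharP.cast_eq_mod K p, Nat.cast_mul]
           frob_lt := fun a ha => ha
           inj := fun a ha h => hinj a ha 0 hp.out.pos (by rw [h, Nat.cast_zero])
           code_unique := hinj
           surj := fun x => by
            haveI := Fintype.ofFinite K
            have hb : Function.Bijective (fun a : Fin p => ((a : ℕ) : K)) :=
              (Fintype.bijective_iff_injective_and_card _).mpr
                ⟨fun a b h => Fin.ext (hinj _ a.2 _ b.2 h), by
                  rw [Fintype.card_fin, ← Nat.card_eq_fintype_card, hK]⟩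
            obtain ⟨a, ha⟩ := hb.2 x
            exact ⟨a, a.2, ha⟩ }, fun _ => rfl⟩

theorem sigma_id {p : ℕ} [Fact p.Prime] (E : Check.Hom (Check.arithP p) K)
    (hE : ∀ n, E.emb n = (n : K)) (σ : K →+* K) (x : K) : σ x = x := by
  obtain ⟨a, -, rfl⟩ := E.surj x
  rw [hE, map_natCast]

theorem exists_sqrt_neg_one (hK : Nat.card K % 4 ≠ 3) : ∃ i : K, i ^ 2 = -1 := by
  haveI := Fintype.ofFinite K
  obtain ⟨i, hi⟩ := (FiniteField.isSquare_neg_one_iff (F := K)).mpr (by rwa [← Nat.card_eq_fintype_card])
  exact ⟨i, by rw [pow_two, ← hi]⟩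

theorem exists_arith9 (hK : Nat.card K = 9) :
    ∃ E : Check.Hom Check.arith9 K, ∃ i : K, i ^ 2 = -1 ∧
      ∀ n, E.emb n = ((n % 3 : ℕ) : K) + ((n / 3 : ℕ) : K) * i := by
  classical
  haveI : Fact (Nat.Prime 3) := ⟨Nat.prime_three⟩
  haveI : CharP K 3 := charP_of_card two_pos (hK.trans (by norm_num))
  obtain ⟨i, hi⟩ := exists_sqrt_neg_one (K := K) (by rw [hK]; norm_num)
  set f : ℕ → K := fun n => ((n % 3 : ℕ) : K) + ((n / 3 : ℕ) : K) * i with hf
  have hmod : ∀ n : ℕ, ((n % 3 : ℕ) : K) = (n : K) := fun n => (CharP.cast_eq_mod K 3 n).symm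
  have hi3 : ∀ a : ℕ, a < 3 → (a : K) ^ 2 + 1 ≠ 0 := fun a ha h => by
    have h1 : ((a ^ 2 + 1 : ℕ) : K) = 0 := by push_cast; exact h
    rw [CharP.cast_eq_zero_iff K 3] at h1
    interval_cases a <;> norm_num at h1
  have hinj : ∀ a < 9, ∀ b < 9, f a = f b → a = b := by
    intro a ha b hb h
    by_cases hy : ((a / 3 : ℕ) : K) = ((b / 3 : ℕ) : K)
    · have h1 : ((a % 3 : ℕ) : K) = ((b % 3 : ℕ) : K) := by
        simp only [hf, hy] at h
        exact add_right_cancel h
      have e1 := CharP.natCast_injOn_Iio K 3 (show a % 3 < 3 by omega) (show b % 3 < 3 by omega) h1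
      have e2 := CharP.natCast_injOn_Iio K 3 (show a / 3 < 3 by omega) (show b / 3 < 3 by omega) hy
      omega
    · exfalso
      obtain ⟨c, hc, hci⟩ : ∃ c : ℕ, c < 3 ∧ i = (c : K) := by
        set d : K := ((a / 3 : ℕ) : K) - ((b / 3 : ℕ) : K)
        have hd : d ≠ 0 := sub_ne_zero.mpr hy
        have hd2 : d * d = 1 := by
          have : ∀ u : ℕ, u < 3 → ∀ w : ℕ, w < 3 → u ≠ w → ((u : K) - w) * ((u : K) - w) = 1 := by
            intro u hu w hw hne
            have h1 : ((((u + 3 - w) * (u + 3 - w)) % 3 : ℕ) : K) = ((u : K) - w) * ((u : K) - w) := by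
              rw [hmod, Nat.cast_mul, Nat.cast_sub (by omega), Nat.cast_add, CharP.cast_eq_zero K 3,
                add_zero]
            rw [← h1]
            interval_cases u <;> interval_cases w <;> first | exact absurd rfl hne | norm_num
          exact this _ (by omega) _ (by omega) (fun e => hy (by rw [e]))
        refine ⟨((b % 3 + 3 - a % 3) * (a / 3 + 3 - b / 3)) % 3, Nat.mod_lt _ (by norm_num), ?_⟩
        rw [hmod, Nat.cast_mul, Nat.cast_sub (by omega), Nat.cast_sub (by omega), Nat.cast_add,
          Nat.cast_add, CharP.cast_eq_zero K 3, add_zero, add_zero]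
        simp only [hf] at h
        linear_combination (-i) * hd2 + d * h
      exact hi3 c hc (by rw [← hci, hi]; ring)
  refine ⟨{ emb := f
            q_le := by decide
            one_lt := by decide
            zero := by simp [hf]
            one := by simp [hf]
            neg_lt := by decide
            neg := by
              show f 2 = -1
              have h3 : ((3 : ℕ) : K) = 0 := CharP.cast_eq_zero K 3
              simp only [hf]
              norm_num at h3 ⊢
              linear_combination h3
            add_lt := fun a _ b _ => by show (a % 3 + b % 3) % 3 + 3 * ((a / 3 + b / 3) % 3) < 9; omega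
            add_eq := fun a _ b _ => by
              show f ((a % 3 + b % 3) % 3 + 3 * ((a / 3 + b / 3) % 3)) = _
              simp only [hf]
              rw [show ((a % 3 + b % 3) % 3 + 3 * ((a / 3 + b / 3) % 3)) % 3 = (a % 3 + b % 3) % 3 by omega,
                show ((a % 3 + b % 3) % 3 + 3 * ((a / 3 + b / 3) % 3)) / 3 = (a / 3 + b / 3) % 3 by omega]
              generalize a / 3 = u, b / 3 = w, a % 3 = u', b % 3 = w'
              rw [hmod, hmod, Nat.cast_add, Nat.cast_add]
              ring
            mul_lt := fun a _ b _ => by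
              show ((a % 3) * (b % 3) + 2 * (a / 3) * (b / 3)) % 3 +
                3 * (((a % 3) * (b / 3) + (a / 3) * (b % 3)) % 3) < 9
              omega
            mul_eq := fun a _ b _ => by
              show f (((a % 3) * (b % 3) + 2 * (a / 3) * (b / 3)) % 3 +
                3 * (((a % 3) * (b / 3) + (a / 3) * (b % 3)) % 3)) = _
              simp only [hf]
              generalize a / 3 = u, b / 3 = w, a % 3 = u', b % 3 = w'
              generalize hX : u' * w' + 2 * u * w = X, hY : u' * w + u * w' = Y
              rw [show (X % 3 + 3 * (Y % 3)) % 3 = X % 3 by omega,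
                show (X % 3 + 3 * (Y % 3)) / 3 = Y % 3 by omega, hmod, hmod, ← hX, ← hY]
              have h3 : (3 : K) = 0 := by exact_mod_cast CharP.cast_eq_zero K 3
              push_cast
              linear_combination (-(u : K) * w) * hi + (u : K) * w * h3
            frob_lt := fun a _ => by show a % 3 + 3 * ((3 - a / 3) % 3) < 9; omega
            inj := fun a ha h => hinj a ha 0 (by norm_num) (by rw [h]; simp [hf])
            code_unique := hinj
            surj := fun x => by
              haveI := Fintype.ofFinite K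
              have hb : Function.Bijective (fun a : Fin 9 => f a) :=
                (Fintype.bijective_iff_injective_and_card _).mpr
                  ⟨fun a b h => Fin.ext (hinj _ a.2 _ b.2 h), by
                    rw [Fintype.card_fin, ← Nat.card_eq_fintype_card, hK]⟩
              obtain ⟨a, ha⟩ := hb.2 x
              exact ⟨a, a.2, ha⟩ }, i, hi, fun _ => rfl⟩

theorem sigma_nine (E : Check.Hom Check.arith9 K) {i : K} (hi : i ^ 2 = -1)
    (hE : ∀ n, E.emb n = ((n % 3 : ℕ) : K) + ((n / 3 : ℕ) : K) * i) (σ : K →+* K)
    (hK : Nat.card K = 9) : ∃ f : Bool, ∀ a < Check.arith9.q,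
      σ (E.emb a) = E.emb (if f then Check.arith9.frob a else a) := by
  haveI : Fact (Nat.Prime 3) := ⟨Nat.prime_three⟩
  haveI : CharP K 3 := charP_of_card two_pos (hK.trans (by norm_num))
  have hσ : σ i = i ∨ σ i = -i := sq_eq_sq_iff_eq_or_eq_neg.mp (by
    rw [← map_pow, hi, map_neg, map_one])
  rcases hσ with h | h
  · exact ⟨false, fun a _ => by simp [hE, h]⟩
  · refine ⟨true, fun a ha => ?_⟩
    have ha' : a < 9 := ha
    simp only [if_true]
    show _ = E.emb (a % 3 + 3 * ((3 - a / 3) % 3))
    rw [hE, hE, map_add, map_mul, map_natCast, map_natCast, h,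
      show (a % 3 + 3 * ((3 - a / 3) % 3)) % 3 = a % 3 by omega,
      show (a % 3 + 3 * ((3 - a / 3) % 3)) / 3 = (3 - a / 3) % 3 by omega,
      ← CharP.cast_eq_mod K 3 (3 - a / 3), Nat.cast_sub (by omega)]
    rw [CharP.cast_eq_zero K 3]
    ring

end Cfsg.Agent.BT62
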