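import Mathlib
import Cfsg.Agent.BC85.BaseTwo.Basic

/-!
# Two vectors with trivial common stabiliser in coprime actions: elementary reductions
-/

set_option autoImplicit false

namespace Cfsg.Agent.BT62

open BC85.BaseTwo

/-- The induction hypothesis: coprime modules of odd order at most `n` have regular pairs. -/
def LinC (n : ℕ) : Prop :=
  ∀ (V : Type) [AddCommGroup V] [Finite V] (H : Type) [Group H] [Finite H] [DistribMulAction H V],
    Nat.card V ≤ n → Odd (Nat.card V) → Group.IsSolvable H →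
      (Nat.card H).Coprime (Nat.card V) → CR H V → ∃ p : V × V, Reg H V p

/-- It is enough to treat irreducible modules. -/
theorem linC_succ {n : ℕ} (hlin : LinC n)
    (hirr : ∀ (V : Type) [AddCommGroup V] [Finite V] (H : Type) [Group H] [Finite H]
      [DistribMulAction H V], Nat.card V ≤ n + 1 → Odd (Nat.card V) → Group.IsSolvable H →
        (Nat.card H).Coprime (Nat.card V) → Irr H V → ∃ p : V × V, Reg H V p) :
    LinC (n + 1) := by
  intro V _ _ H _ _ _ hn hodd hsol hcop hcr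
  by_cases hV : ∃ v : V, v ≠ 0
  swap
  · push Not at hV
    exact ⟨(0, 0), fun h _ _ v => by rw [hV v, smul_zero]⟩
  by_cases hi : Irr H V
  · exact hirr V H hn hodd hsol hcop hi
  obtain ⟨U, hU, hU0, hU1⟩ : ∃ U, Inv H V U ∧ U ≠ ⊥ ∧ U ≠ ⊤ := by
    by_contra hno
    refine hi ⟨hV, fun U hU => ?_⟩
    by_contra hne
    exact hno ⟨U, hU, fun e => hne (Or.inl e), fun e => hne (Or.inr e)⟩
  obtain ⟨W, hW, hinf, hsup⟩ := hcr U hU
  have hW1 : W ≠ ⊤ := by
    rintro rfl
    exact hU0 (by rw [← hinf, inf_top_eq])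
  letI iU := restrict U hU
  letI iW := restrict W hW
  obtain ⟨p, hp⟩ := hlin U H (by have := card_lt_of_ne_top hU1; omega)
    (Odd.of_dvd_nat hodd (AddSubgroup.card_addSubgroup_dvd_card U)) hsol
    (hcop.coprime_dvd_right (AddSubgroup.card_addSubgroup_dvd_card U)) (cr_restrict hcr U hU)
  obtain ⟨q, hq⟩ := hlin W H (by have := card_lt_of_ne_top hW1; omega)
    (Odd.of_dvd_nat hodd (AddSubgroup.card_addSubgroup_dvd_card W)) hsol
    (hcop.coprime_dvd_right (AddSubgroup.card_addSubgroup_dvd_card W)) (cr_restrict hcr W hW)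
  refine ⟨((p.1 : V) + q.1, (p.2 : V) + q.2), fun h h1 h2 => ?_⟩
  have split : ∀ (u : U) (w : W), h • ((u : V) + w) = u + w → h • u = u ∧ h • w = w := by
    intro u w he
    rw [smul_add] at he
    have hd : (h • u - u : U).1 = (w - h • w : W).1 := by
      show h • (u : V) - u = w - h • (w : V)
      rw [sub_eq_sub_iff_add_eq_add, add_comm (w : V) u]
      exact he
    have hm : (h • u - u : U).1 ∈ U ⊓ W := ⟨SetLike.coe_mem _, hd ▸ SetLike.coe_mem _⟩
    rw [hinf, AddSubgroup.mem_bot] at hm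
    exact ⟨sub_eq_zero.mp (Subtype.ext hm),
      (sub_eq_zero.mp (Subtype.ext (hd.symm.trans hm) : w - h • w = 0)).symm⟩
  obtain ⟨hu1, hw1⟩ := split _ _ h1
  obtain ⟨hu2, hw2⟩ := split _ _ h2
  intro v
  obtain ⟨u, hu, w, hw, rfl⟩ := AddSubgroup.mem_sup.mp (hsup ▸ AddSubgroup.mem_top v : v ∈ U ⊔ W)
  have e1 : h • u = u := congrArg Subtype.val (hp h hu1 hu2 ⟨u, hu⟩)
  have e2 : h • w = w := congrArg Subtype.val (hq h hw1 hw2 ⟨w, hw⟩)
  rw [smul_add, e1, e2]

variable {H V : Type} [Group H] [Finite H] [AddCommGroup V] [Finite V] [DistribMulAction H V]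

/-- An irreducible module has prime exponent, and for coprime actions the prime is prime to the
order of the group. -/
theorem exists_exponent (hirr : Irr H V) :
    ∃ p : ℕ, p.Prime ∧ p ∣ Nat.card V ∧ ∀ v : V, p • v = 0 := by
  obtain ⟨v0, hv0⟩ := hirr.1
  have hne1 : Nat.card V ≠ 1 := fun h => by
    haveI := (Nat.card_eq_one_iff_unique.mp h).1
    exact hv0 (Subsingleton.elim _ _)
  obtain ⟨p, hp, hpd⟩ := Nat.exists_prime_and_dvd hne1
  haveI : Fact p.Prime := ⟨hp⟩
  refine ⟨p, hp, hpd, ?_⟩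
  let P : AddSubgroup V := (DistribSMul.toAddMonoidHom V p).ker
  have hP : Inv H V P := fun h x hx => by
    show p • (h • x) = 0
    exact ((DistribSMul.toAddMonoidHom V h).map_nsmul p x).symm.trans
      (by show h • (p • x) = 0; rw [show p • x = 0 from hx, smul_zero])
  rcases hirr.2 P hP with hb | ht'
  · obtain ⟨w, hw⟩ := exists_prime_addOrderOf_dvd_card' (G := V) p hpd
    have h1 : w ∈ P := by show p • w = 0; rw [← hw]; exact addOrderOf_nsmul_eq_zero w
    rw [hb, AddSubgroup.mem_bot] at h1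
    rw [h1, addOrderOf_zero] at hw
    exact absurd hw.symm hp.ne_one
  · exact fun v => (ht' ▸ AddSubgroup.mem_top v : v ∈ P)

omit [Finite V] in
/-- Coprime actions are completely reducible. -/
theorem cr_of_coprime {p : ℕ} (hp : p.Prime) (hexp : ∀ v : V, p • v = 0)
    (hnp : ¬ p ∣ Nat.card H) : CR H V := by
  classical
  haveI : Fact p.Prime := ⟨hp⟩
  haveI : Module (ZMod p) V := AddCommGroup.zmodModule hexp
  haveI : Fintype H := Fintype.ofFinite H
  intro U hU
  let U' : Submodule (ZMod p) V := AddSubgroup.toZModSubmodule p U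
  have hU' : ∀ x : V, x ∈ U' ↔ x ∈ U := fun x => by
    show x ∈ AddSubgroup.toZModSubmodule p U ↔ x ∈ U
    exact AddSubgroup.mem_toZModSubmodule ..
  obtain ⟨C, hC⟩ := Submodule.exists_isCompl U'
  let π := Submodule.projectionOnto U' C hC
  have hπu : ∀ u : U', π u = u := fun u => Submodule.projectionOnto_apply_left hC u
  let f : V →+ V :=
    { toFun := fun v => (Fintype.card H : ZMod p)⁻¹ • ∑ h : H, h⁻¹ • ((π (h • v) : U') : V)
      map_zero' := by simp
      map_add' := fun a b => by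
        simp [smul_add, Finset.sum_add_distrib] }
  have hc0 : (Fintype.card H : ZMod p) ≠ 0 := by
    rw [Ne, ZMod.natCast_eq_zero_iff, ← Nat.card_eq_fintype_card]
    exact hnp
  have hfU : ∀ v, f v ∈ U := fun v => by
    refine (hU' _).mp ?_
    show (Fintype.card H : ZMod p)⁻¹ • ∑ h : H, h⁻¹ • ((π (h • v) : U') : V) ∈ U'
    exact U'.smul_mem _ ((hU' _).mpr (U.sum_mem fun h _ => hU h⁻¹ _ ((hU' _).mp (π (h • v)).2)))
  have hfid : ∀ u ∈ U, f u = u := fun u hu => by
    show (Fintype.card H : ZMod p)⁻¹ • ∑ h : H, h⁻¹ • ((π (h • u) : U') : V) = u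
    have : ∀ h : H, h⁻¹ • ((π (h • u) : U') : V) = u := fun h => by
      rw [show π (h • u) = (⟨h • u, (hU' _).mpr (hU h u hu)⟩ : U') from hπu ⟨h • u, (hU' _).mpr (hU h u hu)⟩]
      exact inv_smul_smul h u
    rw [Finset.sum_congr rfl (fun h _ => this h), Finset.sum_const, Finset.card_univ,
      ← Nat.cast_smul_eq_nsmul (ZMod p), smul_smul, inv_mul_cancel₀ hc0, one_smul]
  have hfeq : ∀ (g : H) v, f (g • v) = g • f v := fun g v => by
    show (Fintype.card H : ZMod p)⁻¹ • ∑ h : H, h⁻¹ • ((π (h • g • v) : U') : V) =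
      g • ((Fintype.card H : ZMod p)⁻¹ • ∑ h : H, h⁻¹ • ((π (h • v) : U') : V))
    rw [show g • ((Fintype.card H : ZMod p)⁻¹ • ∑ h : H, h⁻¹ • ((π (h • v) : U') : V)) =
      (Fintype.card H : ZMod p)⁻¹ • g • ∑ h : H, h⁻¹ • ((π (h • v) : U') : V) from
        (ZMod.map_smul (DistribSMul.toAddMonoidHom V g : V →+ V) (Fintype.card H : ZMod p)⁻¹
          (∑ h : H, h⁻¹ • ((π (h • v) : U') : V)) :), @Finset.smul_sum H V]
    congr 1
    refine Fintype.sum_equiv (Equiv.mulRight g) _ _ fun h => ?_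
    show h⁻¹ • ((π (h • g • v) : U') : V) = g • (h * g)⁻¹ • ((π ((h * g) • v) : U') : V)
    rw [mul_inv_rev, mul_smul g⁻¹, smul_inv_smul, mul_smul h g]
  refine ⟨f.ker, fun g v hv => ?_, le_bot_iff.mp fun v hv => ?_, eq_top_iff.mpr fun v _ => ?_⟩
  · show f (g • v) = 0
    rw [hfeq, show f v = 0 from hv, smul_zero]
  · have h1 := hfid v hv.1
    rw [show f v = 0 from hv.2] at h1
    exact AddSubgroup.mem_bot.mpr h1.symm
  · refine AddSubgroup.mem_sup.mpr ⟨f v, hfU v, v - f v, ?_, add_sub_cancel _ _⟩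
    show f (v - f v) = 0
    rw [map_sub, hfid _ (hfU v), sub_self]

end Cfsg.Agent.BT62
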