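import Mathlib

/-!
# Rigid colourings of elementary abelian groups
-/

set_option autoImplicit false

namespace Cfsg.Agent.BT62

variable {r D : ℕ}

/-- The coloured nonzero elements. -/
def supp (col : (Fin D → ZMod r) → ℕ) : Set (Fin D → ZMod r) := {x | x ≠ 0 ∧ col x ≠ 0}

/-- Only the identity preserves the colouring. -/
def Rigid (col : (Fin D → ZMod r) → ℕ) : Prop :=
  ∀ T : (Fin D → ZMod r) →+ (Fin D → ZMod r), Function.Injective T →
    (∀ x, x ≠ 0 → col (T x) = col x) → ∀ x, T x = x

/-- Enough coloured triangles to kill every pairing. -/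
def Rich (col : (Fin D → ZMod r) → ℕ) : Prop :=
  ∃ G ⊆ supp col, AddSubgroup.closure G = ⊤ ∧ ∀ a ∈ G,
    AddSubgroup.closure {m | m ∈ supp col ∧ (a + m ∈ supp col ∨ a + m = 0)} = ⊤

/-- A rigid and rich colouring with at most `n` colours. -/
def Colourable (r D n : ℕ) : Prop :=
  ∃ col : (Fin D → ZMod r) → ℕ, (∀ x, col x ≤ n) ∧ Rigid col ∧ Rich col

/-- The coordinate vectors. -/
def ev (k : Fin D) : Fin D → ZMod r := Pi.single k 1

theorem closure_ev : AddSubgroup.closure (Set.range (ev : Fin D → Fin D → ZMod r)) = ⊤ := by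
  rw [eq_top_iff]
  intro x _
  rw [← Finset.univ_sum_single x]
  refine AddSubgroup.sum_mem _ fun k _ => ?_
  obtain ⟨z, hz⟩ := ZMod.intCast_surjective (x k)
  have : (Pi.single k (x k) : Fin D → ZMod r) = z • ev k := by
    funext i
    rcases eq_or_ne i k with rfl | h
    · simp [ev, hz, zsmul_eq_mul]
    · simp [ev, h]
  rw [this]
  exact AddSubgroup.zsmul_mem (AddSubgroup.closure (Set.range ev)) (AddSubgroup.subset_closure (show ev k ∈ Set.range ev from ⟨k, rfl⟩)) z

section Small

theorem colourable_zero (n : ℕ) : Colourable r 0 n :=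
  ⟨fun _ => 0, fun _ => Nat.zero_le n, fun _ _ _ _ => Subsingleton.elim _ _, by
    refine ⟨∅, Set.empty_subset _, ?_, fun _ h => h.elim⟩
    exact eq_top_iff.mpr fun x _ => Subsingleton.elim 0 x ▸ AddSubgroup.zero_mem _⟩

theorem colourable_two_one : Colourable 2 1 1 := by
  have hall : ∀ x : Fin 1 → ZMod 2, x = 0 ∨ x = ev 0 := by decide
  refine ⟨fun _ => 1, fun _ => le_rfl, fun T hT _ x => ?_, Set.range ev, ?_, closure_ev, ?_⟩
  · rcases hall x with rfl | rfl
    · exact map_zero T
    · rcases hall (T (ev 0)) with h | h
      · exact absurd (hT (h.trans (map_zero T).symm)) (by decide)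
      · exact h
  · rintro _ ⟨k, rfl⟩
    exact ⟨by fin_cases k; decide, one_ne_zero⟩
  · rintro _ ⟨k, rfl⟩
    refine eq_top_iff.mpr (le_trans (le_of_eq closure_ev.symm) (AddSubgroup.closure_mono ?_))
    rintro _ ⟨l, rfl⟩
    exact ⟨⟨by fin_cases l; decide, one_ne_zero⟩, Or.inr (by fin_cases k; fin_cases l; decide)⟩

end Small

section Odd

variable [Fact r.Prime]

open Classical in
/-- The colouring for an odd prime. -/
noncomputable def oddCol (x : Fin D → ZMod r) : ℕ :=
  if ∃ k, x = ev k then 1
  else if (∃ i j, i ≤ j ∧ x = ev i + ev j) ∨ ∃ i j, i < j ∧ x = ev i + 2 • ev j then 2 else 0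

theorem colourable_odd (hr : r ≠ 2) (D : ℕ) : Colourable r D 2 := by
  have hp : r.Prime := Fact.out
  have h2 : (2 : ZMod r) ≠ 0 := by
    intro h
    have : ((2 : ℕ) : ZMod r) = 0 := h
    rw [ZMod.natCast_eq_zero_iff] at this
    exact hr ((Nat.prime_dvd_prime_iff_eq hp Nat.prime_two).mp this)
  have h21 : (2 : ZMod r) ≠ 1 := fun h => one_ne_zero (α := ZMod r) (by linear_combination h)
  have es : ∀ k : Fin D, (ev k : Fin D → ZMod r) k = 1 := fun k => Pi.single_eq_same _ _
  have en : ∀ k l : Fin D, l ≠ k → (ev k : Fin D → ZMod r) l = 0 := fun k l h =>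
    Pi.single_eq_of_ne h _
  have evne : ∀ k : Fin D, (ev k : Fin D → ZMod r) ≠ 0 := fun k h => by
    have := congrFun h k
    rw [es, Pi.zero_apply] at this
    exact one_ne_zero this
  have evinj : ∀ k l : Fin D, (ev k : Fin D → ZMod r) = ev l → k = l := fun k l h => by
    by_contra hne
    have := congrFun h k
    rw [es, en l k hne] at this
    exact one_ne_zero this
  have c1 : ∀ k : Fin D, oddCol (r := r) (ev k) = 1 := fun k => if_pos ⟨k, rfl⟩
  have c1' : ∀ x : Fin D → ZMod r, oddCol x = 1 → ∃ k, x = ev k := by
    intro x h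
    by_contra hne
    rw [oddCol, if_neg hne] at h
    split at h <;> omega
  have n2 : ∀ i j : Fin D, i ≤ j → ¬∃ k, (ev i + ev j : Fin D → ZMod r) = ev k := by
    rintro i j - ⟨k, hk⟩
    rcases eq_or_ne i j with rfl | hij
    · rcases eq_or_ne i k with rfl | hik
      · exact evne i (left_eq_add.mp hk.symm)
      · have := congrFun hk i
        rw [Pi.add_apply, es, en k i hik, one_add_one_eq_two] at this
        exact h2 this
    · have h3 := congrFun hk i
      have h4 := congrFun hk j
      rw [Pi.add_apply, es, en j i hij, add_zero] at h3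
      rw [Pi.add_apply, es, en i j hij.symm, zero_add] at h4
      rcases eq_or_ne i k with rfl | hik
      · rw [en i j hij.symm] at h4; exact one_ne_zero h4
      · rw [en k i hik] at h3; exact one_ne_zero h3
  have c2 : ∀ i j : Fin D, i ≤ j → oddCol (r := r) (ev i + ev j) = 2 := fun i j hij => by
    rw [oddCol, if_neg (n2 i j hij), if_pos (Or.inl ⟨i, j, hij, rfl⟩)]
  have c2ne : ∀ i j : Fin D, (ev i + ev j : Fin D → ZMod r) ≠ 0 := by
    intro i j h
    have := congrFun h i
    rw [Pi.add_apply, es, Pi.zero_apply] at this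
    rcases eq_or_ne j i with rfl | hji
    · rw [es, one_add_one_eq_two] at this; exact h2 this
    · rw [en j i hji.symm, add_zero] at this; exact one_ne_zero this
  refine ⟨oddCol, fun x => by rw [oddCol]; split <;> [omega; (split <;> omega)], ?_,
    Set.range ev, ?_, closure_ev, ?_⟩
  · intro T hT hcol
    have hπ : ∀ k, ∃ l, T (ev k) = ev l := fun k => c1' _ (by rw [hcol _ (evne k), c1])
    choose π hπ using hπ
    have hmono : ∀ i j, i < j → π i < π j := by
      intro i j hij
      have hne : π i ≠ π j := fun h => hij.ne (evinj _ _ (hT (by rw [hπ, hπ, h])))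
      have hx0 : (ev i + 2 • ev j : Fin D → ZMod r) ≠ 0 := fun h => by
        have := congrFun h i
        rw [Pi.add_apply, Pi.smul_apply, es, en j i hij.ne, smul_zero, add_zero, Pi.zero_apply] at this
        exact one_ne_zero this
      have hk : ¬∃ k, (ev i + 2 • ev j : Fin D → ZMod r) = ev k := by
        rintro ⟨k, hk⟩
        have h3 := congrFun hk i
        have h4 := congrFun hk j
        rw [Pi.add_apply, Pi.smul_apply, es, en j i hij.ne, smul_zero, add_zero] at h3
        rw [Pi.add_apply, Pi.smul_apply, es, en i j hij.ne', zero_add, nsmul_eq_mul, mul_one] at h4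
        rcases eq_or_ne i k with rfl | hik
        · rw [en i j hij.ne'] at h4; exact h2 h4
        · rw [en k i hik] at h3; exact one_ne_zero h3
      have h5 := hcol _ hx0
      rw [show oddCol (ev i + 2 • ev j : Fin D → ZMod r) = 2 by
        rw [oddCol, if_neg hk, if_pos (Or.inr ⟨i, j, hij, rfl⟩)], map_add, map_nsmul, hπ, hπ,
        oddCol] at h5
      split at h5
      · omega
      split at h5
      swap
      · omega
      rename_i _ h6
      have hw1 : ((ev (π i) + 2 • ev (π j) : Fin D → ZMod r)) (π i) = 1 := by
        rw [Pi.add_apply, Pi.smul_apply, es, en _ _ hne, smul_zero, add_zero]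
      have hw2 : ((ev (π i) + 2 • ev (π j) : Fin D → ZMod r)) (π j) = 2 := by
        rw [Pi.add_apply, Pi.smul_apply, es, en _ _ hne.symm, zero_add, nsmul_eq_mul, mul_one,
          Nat.cast_ofNat]
      rcases h6 with ⟨a, b, -, hab⟩ | ⟨a, b, hab', hab⟩ <;> rw [hab] at hw1 hw2
      · exfalso
        rcases eq_or_ne (π j) a with ha | ha <;> rcases eq_or_ne (π j) b with hb | hb
        · rcases eq_or_ne (π i) a with ha' | ha'
          · exact hne (ha'.trans ha.symm)
          rw [Pi.add_apply, en _ _ ha', en _ _ (fun h => hne (h.trans hb.symm)), add_zero] at hw1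
          exact zero_ne_one hw1
        · rw [Pi.add_apply, ha, es, ← ha, en _ _ hb, add_zero] at hw2
          exact h21 hw2.symm
        · rw [Pi.add_apply, en _ _ ha, hb, es, zero_add] at hw2
          exact h21 hw2.symm
        · rw [Pi.add_apply, en _ _ ha, en _ _ hb, add_zero] at hw2
          exact h2 hw2.symm
      · rcases eq_or_ne (π i) a with ha | ha
        · rcases eq_or_ne (π j) b with hb | hb
          · rwa [ha, hb]
          · exfalso
            rw [Pi.add_apply, Pi.smul_apply, en _ _ hb, smul_zero, add_zero,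
              en _ _ (fun h => hne (ha.trans h.symm))] at hw2
            exact h2 hw2.symm
        · exfalso
          rcases eq_or_ne (π i) b with hb | hb
          · rw [Pi.add_apply, Pi.smul_apply, en _ _ ha, hb, es, zero_add, nsmul_eq_mul, mul_one,
              Nat.cast_ofNat] at hw1
            exact h21 hw1
          · rw [Pi.add_apply, Pi.smul_apply, en _ _ ha, en _ _ hb, smul_zero, add_zero] at hw1
            exact zero_ne_one hw1
    have hid : π = id := by
      have hs : StrictMono π := hmono
      funext k
      exact congrFun (congrArg DFunLike.coe (Subsingleton.elim (α := Fin D ≃o Fin D)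
        (StrictMono.orderIsoOfSurjective π hs (Finite.injective_iff_surjective.mp hs.injective))
        (OrderIso.refl _))) k
    intro x
    have hx : x ∈ AddSubgroup.closure (Set.range ev) := closure_ev.symm ▸ AddSubgroup.mem_top x
    induction hx using AddSubgroup.closure_induction with
    | mem y hy =>
      obtain ⟨k, rfl⟩ := hy
      rw [hπ, hid, id]
    | zero => exact map_zero T
    | add a b _ _ ha hb => rw [map_add, ha, hb]
    | neg a _ ha => rw [map_neg, ha]
  · rintro _ ⟨k, rfl⟩
    exact ⟨evne k, by rw [c1]; omega⟩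
  · rintro _ ⟨k, rfl⟩
    refine eq_top_iff.mpr (le_trans (le_of_eq closure_ev.symm) (AddSubgroup.closure_mono ?_))
    rintro _ ⟨l, rfl⟩
    refine ⟨⟨evne l, by rw [c1]; omega⟩, Or.inl ⟨c2ne k l, ?_⟩⟩
    rcases le_total k l with h | h
    · rw [c2 k l h]; omega
    · rw [add_comm, c2 l k h]; omega

end Odd

section Check

/-- The colour of a vector given by its bits. -/
def digit (code j : ℕ) : ℕ := (code >>> (2 * j)) % 4

/-- The refined colour of a vector given by its bits. -/
def key (kc j : ℕ) : ℕ := (kc >>> (8 * j)) % 256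

/-- Coloured and nonzero. -/
def isOn (code j : ℕ) : Bool := j != 0 && digit code j != 0

/-- The extension of a table of images is admissible. -/
def okExt (kc t : ℕ) : ℕ → List ℕ → Bool
  | _, [] => true
  | j, y :: ys => (t ^^^ y) != 0 && key kc (t ^^^ y) == key kc j && okExt kc t (j + 1) ys

/-- Every admissible table is the identity. -/
def search (N kc : ℕ) : ℕ → List ℕ → Bool
  | 0, tbl => tbl == List.range N
  | i + 1, tbl => (List.range N).all fun t =>
      !(okExt kc t tbl.length tbl) || search N kc i (tbl ++ tbl.map (t ^^^ ·))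

/-- The span of a list of vectors. -/
def spanList : List ℕ → List ℕ
  | [] => [0]
  | v :: vs => if (spanList vs).contains v then spanList vs
      else spanList vs ++ (spanList vs).map (v ^^^ ·)

/-- The span is everything. -/
def full (D : ℕ) (l : List ℕ) : Bool := (List.range (2 ^ D)).all fun v => (spanList l).contains v

/-- The check of a colouring. -/
def checkCol (D n code kc : ℕ) (G : List ℕ) : Bool :=
  ((List.range (2 ^ D)).all fun j => digit code j ≤ n &&
    key kc j == digit code j + 4 * (List.range (2 ^ D)).countP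
      fun m => isOn code m && isOn code (j ^^^ m)) &&
  search (2 ^ D) kc D [0] &&
  (G.all fun a => decide (a < 2 ^ D) && isOn code a && full D ((List.range (2 ^ D)).filter
    fun m => isOn code m && (m == a || isOn code (a ^^^ m)))) &&
  full D G

/-- The vector with given bits. -/
def dec (D j : ℕ) : Fin D → ZMod 2 := fun i => if j.testBit i then 1 else 0

theorem dec_xor (D a b : ℕ) : dec D (a ^^^ b) = dec D a + dec D b := by
  funext i
  simp only [dec, Nat.testBit_xor, Pi.add_apply]
  cases a.testBit i <;> cases b.testBit i <;> decide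

theorem dec_zero (D : ℕ) : dec D 0 = 0 := by
  funext i; simp [dec]

theorem dec_inj {D a b : ℕ} (ha : a < 2 ^ D) (hb : b < 2 ^ D) (h : dec D a = dec D b) : a = b := by
  refine Nat.eq_of_testBit_eq fun i => ?_
  by_cases hi : i < D
  · have := congrFun h ⟨i, hi⟩
    simp only [dec] at this
    revert this
    cases a.testBit i <;> cases b.testBit i <;> decide
  · rw [Nat.testBit_lt_two_pow (ha.trans_le (Nat.pow_le_pow_right two_pos (by omega))),
      Nat.testBit_lt_two_pow (hb.trans_le (Nat.pow_le_pow_right two_pos (by omega)))]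

theorem dec_surj {D : ℕ} (x : Fin D → ZMod 2) : ∃ j < 2 ^ D, dec D j = x := by
  have hinj : Function.Injective fun j : Fin (2 ^ D) => dec D j :=
    fun a b h => Fin.ext (dec_inj a.2 b.2 h)
  have hb := (Fintype.bijective_iff_injective_and_card _).mpr ⟨hinj, by simp⟩
  obtain ⟨j, hj⟩ := hb.2 x
  exact ⟨j, j.2, hj⟩

theorem dec_two_pow_add {D i j : ℕ} (hj : j < 2 ^ i) :
    dec D (2 ^ i + j) = dec D (2 ^ i) + dec D j := by
  rw [← dec_xor]
  congr 1
  refine Nat.eq_of_testBit_eq fun l => ?_
  rw [Nat.testBit_xor]
  rcases lt_trichotomy l i with hl | rfl | hl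
  · rw [Nat.testBit_two_pow_add_gt hl, Nat.testBit_two_pow_of_ne hl.ne', Bool.false_xor]
  · rw [Nat.testBit_two_pow_add_eq, Nat.testBit_two_pow_self, Nat.testBit_lt_two_pow hj]
    rfl
  · rw [Nat.testBit_lt_two_pow, Nat.testBit_two_pow_of_ne hl.ne, Bool.false_xor,
      Nat.testBit_lt_two_pow (hj.trans_le (Nat.pow_le_pow_right two_pos hl.le))]
    calc 2 ^ i + j < 2 ^ (i + 1) := by rw [pow_succ]; omega
      _ ≤ 2 ^ l := Nat.pow_le_pow_right two_pos hl

theorem full_spec {D : ℕ} {l : List ℕ} (h : full D l = true) {S : Set (Fin D → ZMod 2)}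
    (hl : ∀ v ∈ l, dec D v ∈ AddSubgroup.closure S) : AddSubgroup.closure S = ⊤ := by
  have key : ∀ (l : List ℕ), (∀ v ∈ l, dec D v ∈ AddSubgroup.closure S) →
      ∀ v ∈ spanList l, dec D v ∈ AddSubgroup.closure S := by
    intro l
    induction l with
    | nil =>
      intro _ v hv
      rw [spanList, List.mem_singleton] at hv
      rw [hv, dec_zero]
      exact AddSubgroup.zero_mem _
    | cons a l ih =>
      intro hl v hv
      have ih' := ih fun v hv => hl v (List.mem_cons_of_mem _ hv)
      rw [spanList] at hv
      split at hv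
      · exact ih' v hv
      rcases List.mem_append.mp hv with hv | hv
      · exact ih' v hv
      obtain ⟨w, hw, rfl⟩ := List.mem_map.mp hv
      rw [dec_xor]
      exact AddSubgroup.add_mem _ (hl a List.mem_cons_self) (ih' w hw)
  rw [eq_top_iff]
  intro x _
  obtain ⟨j, hj, rfl⟩ := dec_surj x
  exact key l hl j (List.contains_iff_mem.mp (List.all_eq_true.mp h j (List.mem_range.mpr hj)))

theorem colourable_of_check {D n code kc : ℕ} {G : List ℕ} (h : checkCol D n code kc G = true) :
    Colourable 2 D n := by
  classical
  simp only [checkCol, Bool.and_eq_true] at h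
  obtain ⟨⟨⟨hkey, hs⟩, hG⟩, hGf⟩ := h
  simp only [List.all_eq_true, List.mem_range, Bool.and_eq_true, decide_eq_true_eq, beq_iff_eq]
    at hkey
  choose inv hinv1 hinv2 using fun x : Fin D → ZMod 2 => dec_surj x
  let col : (Fin D → ZMod 2) → ℕ := fun x => digit code (inv x)
  have hinv : ∀ j < 2 ^ D, inv (dec D j) = j := fun j hj => dec_inj (hinv1 _) hj (hinv2 _)
  have hcol : ∀ j < 2 ^ D, col (dec D j) = digit code j := fun j hj => by
    show digit code _ = _; rw [hinv j hj]
  have hdec0 : ∀ j < 2 ^ D, (dec D j = 0 ↔ j = 0) := fun j hj =>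
    ⟨fun h => dec_inj hj (by positivity) (h.trans (dec_zero D).symm), fun h => h ▸ dec_zero D⟩
  let on' : (Fin D → ZMod 2) → Bool := fun x => decide (x ∈ supp col)
  have hon : ∀ j < 2 ^ D, isOn code j = on' (dec D j) := by
    intro j hj
    show _ = decide _
    rw [isOn, Bool.eq_iff_iff]
    simp [supp, hcol j hj, hdec0 j hj]
  refine ⟨col, fun x => (hkey _ (hinv1 x)).1, ?_, ?_⟩
  · intro T hT hkeep
    have hT0 : ∀ x, T x = 0 ↔ x = 0 := fun x => map_eq_zero_iff T hT
    have hon' : ∀ x, on' (T x) = on' x := by
      intro x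
      show decide _ = decide _
      rw [decide_eq_decide]
      by_cases hx : x = 0
      · simp [supp, hx]
      · simp [supp, hx, (hT0 x).not.mpr hx, hkeep x hx]
    let L : List (Fin D → ZMod 2) := (List.range (2 ^ D)).map (dec D)
    have hLnd : L.Nodup := List.Nodup.map_on
      (fun a ha b hb h => dec_inj (List.mem_range.mp ha) (List.mem_range.mp hb) h) List.nodup_range
    have hLall : ∀ x, x ∈ L := fun x =>
      List.mem_map.mpr ⟨inv x, List.mem_range.mpr (hinv1 x), hinv2 x⟩
    have hperm : (L.map T).Perm L := by
      refine (List.perm_ext_iff_of_nodup (hLnd.map hT) hLnd).mpr fun x => ⟨fun _ => hLall x, fun _ => ?_⟩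
      obtain ⟨y, rfl⟩ := Finite.surjective_of_injective hT x
      exact List.mem_map.mpr ⟨y, hLall y, rfl⟩
    let k' : (Fin D → ZMod 2) → ℕ := fun x =>
      col x + 4 * L.countP fun m => on' m && on' (x + m)
    have hk' : ∀ x, x ≠ 0 → k' (T x) = k' x := by
      intro x hx
      show _ + _ = _ + _
      rw [hkeep x hx]
      congr 2
      rw [← hperm.countP_eq, List.countP_map]
      refine List.countP_congr fun m _ => ?_
      simp only [Function.comp_apply, ← map_add, hon']
    have hkk : ∀ j < 2 ^ D, key kc j = k' (dec D j) := by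
      intro j hj
      rw [(hkey j hj).2]
      show _ = _ + _
      rw [hcol j hj, List.countP_map]
      congr 2
      refine List.countP_congr fun m hm => ?_
      have hm' := List.mem_range.mp hm
      simp only [Function.comp_apply, hon m hm', hon _ (Nat.xor_lt_two_pow hj hm'), dec_xor]
    have walk : ∀ (i d : ℕ) (tbl : List ℕ), i + d = D → tbl.length = 2 ^ i →
        (∀ j (hj : j < tbl.length), tbl[j] < 2 ^ D ∧ dec D tbl[j] = T (dec D j)) →
        search (2 ^ D) kc d tbl = true → ∀ x, T x = x := by
      intro i d
      induction d generalizing i with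
      | zero =>
        intro tbl hid hlen htbl hs x
        rw [search, beq_iff_eq] at hs
        subst hs
        obtain ⟨j, hj, rfl⟩ := dec_surj x
        have := (htbl j (by rw [List.length_range]; exact hj)).2
        rw [List.getElem_range] at this
        exact this.symm
      | succ d ih =>
        intro tbl hid hlen htbl hs
        rw [search, List.all_eq_true] at hs
        set t := inv (T (dec D (2 ^ i))) with ht
        have hs' := hs t (List.mem_range.mpr (hinv1 _))
        have hi2 : 2 ^ i + 2 ^ i ≤ 2 ^ D := by
          rw [← two_mul, ← pow_succ']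
          exact Nat.pow_le_pow_right two_pos (by omega)
        have himg : ∀ j (hj : j < tbl.length),
            dec D (t ^^^ tbl[j]) = T (dec D (2 ^ i + j)) := fun j hj => by
          rw [dec_xor, (htbl j hj).2, ht, hinv2, dec_two_pow_add (hlen ▸ hj), map_add]
        have hok : okExt kc t tbl.length tbl = true := by
          have : ∀ (b : ℕ) (l : List ℕ), (∀ j (hj : j < l.length),
              (t ^^^ l[j]) ≠ 0 ∧ key kc (t ^^^ l[j]) = key kc (b + j)) →
              okExt kc t b l = true := by
            intro b l
            induction l generalizing b with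
            | nil => intro _; rfl
            | cons y ys ihl =>
              intro hall
              have h0 := hall 0 (by simp)
              simp only [List.getElem_cons_zero, add_zero] at h0
              simp only [okExt, Bool.and_eq_true, bne_iff_ne, beq_iff_eq]
              refine ⟨⟨h0.1, h0.2⟩, ihl (b + 1) fun j hj => ?_⟩
              have h1 := hall (j + 1) (by simpa using hj)
              simp only [List.getElem_cons_succ] at h1
              rwa [add_assoc, add_comm 1 j]
          refine this _ _ fun j hj => ?_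
          have hb : tbl.length + j < 2 ^ D := by omega
          have hne : dec D (2 ^ i + j) ≠ 0 := by
            rw [Ne, hdec0 _ (by omega)]
            have := Nat.two_pow_pos i
            omega
          have hlt : t ^^^ tbl[j] < 2 ^ D := Nat.xor_lt_two_pow (hinv1 _) (htbl j hj).1
          refine ⟨fun h0 => hne ((hT0 _).mp ?_), ?_⟩
          · rw [← himg j hj, h0, dec_zero]
          · rw [hkk _ hlt, hkk _ hb, himg j hj, hlen, hk' _ hne]
        rw [hok] at hs'
        simp only [Bool.not_true, Bool.false_or] at hs'
        refine ih (i + 1) _ (by omega) (by simp [hlen, pow_succ]; omega) ?_ hs'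
        intro j hj
        by_cases hj' : j < tbl.length
        · rw [List.getElem_append_left hj']
          exact htbl j hj'
        · rw [List.getElem_append_right (by omega), List.getElem_map]
          have hjl : j - tbl.length < tbl.length := by
            simp only [List.length_append, List.length_map] at hj; omega
          refine ⟨Nat.xor_lt_two_pow (hinv1 _) (htbl _ hjl).1, ?_⟩
          rw [himg _ hjl, show 2 ^ i + (j - tbl.length) = j by omega]
    refine walk 0 D [0] (by omega) rfl ?_ hs
    intro j hj
    simp only [List.length_singleton, Nat.lt_one_iff] at hj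
    subst hj
    exact ⟨by simp, by simp [dec_zero]⟩
  · simp only [List.all_eq_true, Bool.and_eq_true, decide_eq_true_eq] at hG
    have hmem : ∀ j < 2 ^ D, isOn code j = true → dec D j ∈ supp col := fun j hj h => by
      rw [hon j hj] at h; exact decide_eq_true_eq.mp h
    refine ⟨dec D '' {a | a ∈ G}, ?_, ?_, ?_⟩
    · rintro _ ⟨a, ha, rfl⟩
      exact hmem a (hG a ha).1.1 (hG a ha).1.2
    · exact full_spec hGf fun v hv => AddSubgroup.subset_closure ⟨v, hv, rfl⟩
    · rintro _ ⟨a, ha, rfl⟩
      refine full_spec (hG a ha).2 fun v hv => AddSubgroup.subset_closure ?_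
      rw [List.mem_filter, List.mem_range] at hv
      obtain ⟨hv, hv'⟩ := hv
      simp only [Bool.and_eq_true, Bool.or_eq_true, beq_iff_eq] at hv'
      refine ⟨hmem v hv hv'.1, ?_⟩
      rcases hv'.2 with rfl | h
      · right; rw [← dec_xor, Nat.xor_self, dec_zero]
      · left; rw [← dec_xor]; exact hmem _ (Nat.xor_lt_two_pow (hG a ha).1.1 hv) h

end Check

end Cfsg.Agent.BT62
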