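import Cfsg.Agent.BT62.Colour

/-!
# Colourings of small binary spaces
-/

set_option autoImplicit false
set_option maxRecDepth 20000

namespace Cfsg.Agent.BT62

theorem colourable_two_three : Colourable 2 2 3 :=
  colourable_of_check (code := 156)
    (kc := 168364812)
    (G := [1, 2]) (by decide +kernel)

theorem colourable_three_three : Colourable 2 3 3 :=
  colourable_of_check (code := 47440)
    (kc := 1302404581750282264)
    (G := [2, 3, 4]) (by decide +kernel)

theorem colourable_four_three : Colourable 2 4 3 :=
  colourable_of_check (code := 3851333592)
    (kc := 68051240363750185133934512842858377784)
    (G := [1, 2, 4, 8]) (by decide +kernel)

theorem colourable_four_two : Colourable 2 4 2 :=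
  colourable_of_check (code := 2299876904)
    (kc := 45402298219180700666450368010507133488)
    (G := [1, 2, 4, 8]) (by decide +kernel)

theorem colourable_five : Colourable 2 5 1 :=
  colourable_of_check (code := 4904772118263447828)
    (kc := 18601594738243550765521507009383933992835357124303770709836680217280033397064)
    (G := [2, 4, 7, 8, 19]) (by decide +kernel)

theorem colourable_six : Colourable 2 6 1 :=
  colourable_of_check (code := 85096558608643075968658214468132623636)
    (kc := 3000113814367781208637325544533621135936704847902972687310723699596467303110372316580438168633932591752275027267902104404609425366549221568656898527416700)
    (G := [1, 2, 4, 8, 16, 32]) (by decide +kernel)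

theorem colourable_seven : Colourable 2 7 1 :=
  colourable_of_check (code := 38446599033114324572128669063865903075532268023238103322284459545910306735380)
    (kc := 34543821572562240521610922998151650937202605247661456031628940248541258609803516704208323645604645370214080088626481798950903825486366945174958925552890396422874917097796857847853067390939025529123448250154823539784088991942740757043170378015340009951946711369559948491912766627317552880683252587195162251668)
    (G := [1, 2, 8, 33, 44, 62, 64]) (by decide +kernel)

end Cfsg.Agent.BT62
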