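import Mathlib
import Cfsg.Agent.BT62.Colour

/-!
# Rigid subsets of binary spaces of large dimension
-/

set_option autoImplicit false

namespace Cfsg.Agent.BT62

variable {D : ℕ}

/-- The linear functional of a dual vector. -/
def dot (l x : Fin D → ZMod 2) : ZMod 2 := ∑ i, l i * x i

theorem dot_add (l x y : Fin D → ZMod 2) : dot l (x + y) = dot l x + dot l y := by
  simp [dot, mul_add, Finset.sum_add_distrib]

theorem dot_ev (l : Fin D → ZMod 2) (k : Fin D) : dot l (ev k) = l k := by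
  simp [dot, ev, Pi.single_apply]

theorem zmod2 (a : ZMod 2) : a = 0 ∨ a = 1 := by revert a; decide

theorem two_self (x : Fin D → ZMod 2) : x + x = 0 :=
  funext fun i => (by decide : ∀ a : ZMod 2, a + a = 0) (x i)

theorem ev_ne_zero (k : Fin D) : (ev k : Fin D → ZMod 2) ≠ 0 := fun h => by
  have := congrFun h k
  rw [ev, Pi.single_eq_same, Pi.zero_apply] at this
  exact one_ne_zero this

theorem fun_inj {α : Type} [Finite α] (a : α) :
    {f : α → Bool | f a = false}.ncard * 2 = 2 ^ Nat.card α := by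
  classical
  have h : {f : α → Bool | f a = false}ᶜ = (fun f => Function.update f a true) ''
      {f : α → Bool | f a = false} := by
    ext f
    simp only [Set.mem_compl_iff, Set.mem_setOf_eq, Bool.not_eq_false, Set.mem_image]
    refine ⟨fun h => ⟨Function.update f a false, Function.update_self _ _ _, ?_⟩, ?_⟩
    · rw [Function.update_idem, ← h, Function.update_eq_self]
    · rintro ⟨g, -, rfl⟩
      exact Function.update_self _ _ _
  have hinj : Set.InjOn (fun f => Function.update f a true) {f : α → Bool | f a = false} := by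
    intro f hf g hg hfg
    funext x
    rcases eq_or_ne x a with rfl | hx
    · exact hf.trans hg.symm
    · have := congrFun hfg x
      simpa [Function.update_of_ne hx] using this
  have h1 := Set.ncard_add_ncard_compl {f : α → Bool | f a = false}
  rw [h, Set.ncard_image_of_injOn hinj, Nat.card_fun, Nat.card_eq_fintype_card (α := Bool),
    Fintype.card_bool] at h1
  omega

/-- Subsets preserved by a linear permutation. -/
theorem card_fixed (T : (Fin D → ZMod 2) →+ (Fin D → ZMod 2)) (hT : Function.Injective T)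
    (hne : ∃ x, T x ≠ x) :
    {f : (Fin D → ZMod 2) → Bool | f 0 = false ∧ ∀ x, f (T x) = f x}.ncard * 2 ≤
      2 ^ (3 * 2 ^ (D - 2)) := by
  classical
  let e : Equiv.Perm (Fin D → ZMod 2) :=
    Equiv.ofBijective T ⟨hT, Finite.surjective_of_injective hT⟩
  let Q := Quotient (Equiv.Perm.SameCycle.setoid e)
  have hinv : ∀ f : (Fin D → ZMod 2) → Bool, (∀ x, f (T x) = f x) →
      ∀ x y, e.SameCycle x y → f x = f y := by
    intro f hf x y h
    obtain ⟨k, hk⟩ := Equiv.Perm.SameCycle.exists_nat_pow_eq h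
    rw [← hk]
    clear hk h y
    induction k with
    | zero => rfl
    | succ k ih => rw [pow_succ', Equiv.Perm.mul_apply, ih]; exact (hf _).symm
  let red : {f : (Fin D → ZMod 2) → Bool | f 0 = false ∧ ∀ x, f (T x) = f x} →
      {h : Q → Bool | h (Quotient.mk _ 0) = false} := fun f =>
    ⟨Quotient.lift f.1 (hinv f.1 f.2.2), f.2.1⟩
  have hred : Function.Injective red := fun f g h => Subtype.ext (funext fun x =>
    congrFun (congrArg Subtype.val h) (Quotient.mk _ x))
  have hle := Nat.card_le_card_of_injective red hred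
  rw [Nat.card_coe_set_eq, Nat.card_coe_set_eq] at hle
  refine le_trans (Nat.mul_le_mul_right 2 hle) ?_
  rw [fun_inj]
  refine Nat.pow_le_pow_right two_pos ?_
  -- count the cycles
  let Fx : AddSubgroup (Fin D → ZMod 2) :=
    { carrier := {x | T x = x}
      zero_mem' := map_zero T
      add_mem' := fun {a b} ha hb => by
        show T (a + b) = a + b
        rw [map_add, ha, hb]
      neg_mem' := fun {a} ha => by
        show T (-a) = -a
        rw [map_neg, ha] }
  have hV : Nat.card (Fin D → ZMod 2) = 2 ^ D := by simp [Nat.card_eq_fintype_card]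
  have hFx : Nat.card Fx * 2 ≤ 2 ^ D := by
    have h1 := Fx.card_mul_index
    have h2 : 1 < Fx.index := by
      refine Fx.one_lt_index_of_ne_top fun h => ?_
      obtain ⟨x, hx⟩ := hne
      exact hx (show x ∈ Fx from h ▸ AddSubgroup.mem_top x)
    rw [hV] at h1
    rw [← h1]
    exact Nat.mul_le_mul_left _ h2
  have hQ : 2 * Nat.card Q ≤ 2 ^ D + Nat.card Fx := by
    let emb : Q ⊕ Q → (Fin D → ZMod 2) ⊕ Fx := fun s => match s with
      | .inl q => .inl q.out
      | .inr q => if h : T q.out = q.out then .inr ⟨q.out, h⟩ else .inl (T q.out)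
    have hmk : ∀ x, (Quotient.mk _ (T x) : Q) = Quotient.mk _ x := fun x =>
      Quotient.sound (Equiv.Perm.SameCycle.symm ⟨1, by rw [zpow_one]; rfl⟩)
    have heq : ∀ p q : Q, p.out = q.out → p = q := fun p q h => by
      rw [← p.out_eq, ← q.out_eq, h]
    have hcross : ∀ p q : Q, p.out = T q.out → p = q := fun p q h => by
      rw [← p.out_eq, ← q.out_eq, h, hmk]
    have hemb : Function.Injective emb := by
      rintro (p | p) (q | q) h <;> simp only [emb] at h
      · exact congrArg _ (heq p q (Sum.inl.inj h))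
      · split at h
        · exact absurd h (by simp)
        · rename_i hq
          have h' := Sum.inl.inj h
          obtain rfl := hcross p q h'
          exact absurd h'.symm hq
      · split at h
        · exact absurd h (by simp)
        · rename_i hp
          have h' := (Sum.inl.inj h).symm
          obtain rfl := hcross q p h'
          exact absurd h'.symm hp
      · split at h <;> split at h
        · exact congrArg _ (heq p q (congrArg Subtype.val (Sum.inr.inj h)))
        · exact absurd h (by simp)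
        · exact absurd h (by simp)
        · exact congrArg _ (heq p q (hT (Sum.inl.inj h)))
    have := Nat.card_le_card_of_injective emb hemb
    rw [Nat.card_sum, Nat.card_sum, hV] at this
    omega
  obtain ⟨x, hx⟩ := hne
  have hD : 1 ≤ D := by
    by_contra h
    obtain rfl : D = 0 := by omega
    exact hx (Subsingleton.elim _ _)
  rcases eq_or_lt_of_le hD with rfl | hD2
  · have h2 : Nat.card Fx * 2 ≤ 2 := by simpa using hFx
    simp only [pow_one] at hQ ⊢
    omega
  · have : 2 ^ D = 4 * 2 ^ (D - 2) := by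
      rw [show (4 : ℕ) = 2 ^ 2 by norm_num, ← pow_add]; congr 1; omega
    omega

/-- Subsets missing a triangle condition at `a`, seen by the functional `l`. -/
def Bad (a l : Fin D → ZMod 2) : Set ((Fin D → ZMod 2) → Bool) :=
  {f | a ≠ 0 ∧ l ≠ 0 ∧ dot l a = 0 ∧ f 0 = false ∧
    ∀ b, dot l b = 1 → ¬(f b = true ∧ f (a + b) = true)}

theorem card_bad (hD : 2 ≤ D) (a l : Fin D → ZMod 2) :
    (Bad a l).ncard * 2 ≤ 2 ^ (2 ^ (D - 1)) * 3 ^ (2 ^ (D - 2)) := by
  classical
  by_cases h : a ≠ 0 ∧ l ≠ 0 ∧ dot l a = 0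
  swap
  · rw [show Bad a l = ∅ from Set.eq_empty_iff_forall_notMem.mpr fun f hf =>
      h ⟨hf.1, hf.2.1, hf.2.2.1⟩, Set.ncard_empty]
    exact Nat.zero_le _
  obtain ⟨ha, hl, hla⟩ := h
  obtain ⟨k, hk⟩ : ∃ k, l k ≠ 0 := Function.ne_iff.mp hl
  obtain ⟨m, hm⟩ : ∃ m, a m ≠ 0 := Function.ne_iff.mp ha
  have hk1 : dot l (ev k) = 1 := by rw [dot_ev]; exact (zmod2 _).resolve_left hk
  have hm1 : dot (ev m) a = 1 := by
    rw [show dot (ev m) a = a m by simp [dot, ev, Pi.single_apply]]
    exact (zmod2 _).resolve_left hm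
  let H0 := {x : Fin D → ZMod 2 // dot l x = 0}
  let P := {x : Fin D → ZMod 2 // dot l x = 1 ∧ dot (ev m) x = 0}
  have hV : Nat.card (Fin D → ZMod 2) = 2 ^ D := by simp [Nat.card_eq_fintype_card]
  have c2 : (2 : ℕ) ^ D = 2 * 2 ^ (D - 1) := by rw [← pow_succ']; congr 1; omega
  have c4 : (2 : ℕ) ^ (D - 1) = 2 * 2 ^ (D - 2) := by rw [← pow_succ']; congr 1; omega
  have inv2 : ∀ y x : Fin D → ZMod 2, y + (y + x) = x := fun y x => by
    rw [← add_assoc, two_self,
      zero_add]
  have hH0 : Nat.card H0 = 2 ^ (D - 1) := by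
    let e : H0 ≃ {x : Fin D → ZMod 2 // ¬dot l x = 0} :=
      { toFun := fun x => ⟨ev k + x.1, by rw [dot_add, hk1, x.2, add_zero]; exact one_ne_zero⟩
        invFun := fun x => ⟨ev k + x.1, by rw [dot_add, hk1, (zmod2 _).resolve_left x.2]; rfl⟩
        left_inv := fun x => Subtype.ext (inv2 _ _)
        right_inv := fun x => Subtype.ext (inv2 _ _) }
    have h1 : Nat.card H0 + Nat.card H0 = 2 * 2 ^ (D - 1) := by
      rw [← c2, ← hV, ← Nat.card_congr (Equiv.sumCompl fun x : Fin D → ZMod 2 => dot l x = 0),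
        Nat.card_sum, ← Nat.card_congr e]
    omega
  have hP : Nat.card P = 2 ^ (D - 2) := by
    let H1 := {x : Fin D → ZMod 2 // ¬dot l x = 0}
    have hH1 : Nat.card H1 = 2 ^ (D - 1) := by
      have := Nat.card_congr (Equiv.sumCompl fun x : Fin D → ZMod 2 => dot l x = 0)
      rw [Nat.card_sum, hV, c2] at this
      change Nat.card H0 + Nat.card H1 = _ at this
      omega
    let e : P ⊕ P ≃ H1 :=
      { toFun := fun s => s.elim (fun x => ⟨x.1, by rw [x.2.1]; exact one_ne_zero⟩)
          (fun x => ⟨a + x.1, by rw [dot_add, hla, x.2.1, zero_add]; exact one_ne_zero⟩)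
        invFun := fun x => if h : dot (ev m) x.1 = 0 then .inl ⟨x.1, (zmod2 _).resolve_left x.2, h⟩
          else .inr ⟨a + x.1, by rw [dot_add, hla, (zmod2 _).resolve_left x.2, zero_add],
            by rw [dot_add, hm1, (zmod2 _).resolve_left h]; rfl⟩
        left_inv := by
          rintro (x | x)
          · simp [x.2.2]
          · have : dot (ev m) (a + x.1) = 1 := by rw [dot_add, hm1, x.2.2, add_zero]
            simp [this, inv2]
        right_inv := fun x => by
          dsimp only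
          split <;> simp [inv2] }
    have := Nat.card_congr e
    rw [Nat.card_sum, hH1, c4] at this
    omega
  let red : Bad a l → {h : H0 → Bool | h ⟨0, by simp [dot]⟩ = false} × (P → {q : Bool × Bool // q ≠ (true, true)}) :=
    fun f => (⟨fun x => f.1 x.1, f.2.2.2.2.1⟩, fun x => ⟨(f.1 x.1, f.1 (a + x.1)), fun h => by
      obtain ⟨h1, h2⟩ := Prod.mk.injEq .. ▸ h
      exact f.2.2.2.2.2 x.1 x.2.1 ⟨h1, h2⟩⟩)
  have hred : Function.Injective red := by
    intro f g h
    obtain ⟨h1, h2⟩ := Prod.mk.injEq .. ▸ h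
    apply Subtype.ext
    funext x
    rcases zmod2 (dot l x) with hx | hx
    · exact congrFun (congrArg Subtype.val h1) ⟨x, hx⟩
    rcases zmod2 (dot (ev m) x) with hx' | hx'
    · exact congrArg (fun q => q.1.1) (congrFun h2 ⟨x, hx, hx'⟩)
    · have := congrArg (fun q => q.1.2) (congrFun h2 ⟨a + x, by rw [dot_add, hla, hx, zero_add],
        by rw [dot_add, hm1, hx']; rfl⟩)
      simpa [inv2] using this
  have hle := Nat.card_le_card_of_injective red hred
  rw [Nat.card_prod, Nat.card_coe_set_eq, Nat.card_coe_set_eq, Nat.card_fun, hP,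
    show Nat.card {q : Bool × Bool // q ≠ (true, true)} = 3 by simp [Nat.card_eq_fintype_card]] at hle
  calc (Bad a l).ncard * 2 ≤ _ := Nat.mul_le_mul_right 2 hle
    _ = 2 ^ (2 ^ (D - 1)) * 3 ^ (2 ^ (D - 2)) := by
      rw [Nat.mul_right_comm, fun_inj, hH0]

theorem count_ineq {D : ℕ} (hD : 8 ≤ D) :
    (2 ^ D - 1) ^ D * 2 ^ (3 * 2 ^ (D - 2)) +
      (2 ^ D) ^ 2 * (2 ^ (2 ^ (D - 1)) * 3 ^ (2 ^ (D - 2))) < 2 ^ (2 ^ D) := by
  rcases eq_or_lt_of_le hD with rfl | hD9
  · decide
  obtain ⟨m, hm⟩ : ∃ m, m = 2 ^ (D - 2) := ⟨_, rfl⟩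
  have h1 : D * D + 1 ≤ m ∧ 4 * (2 * D + 2) ≤ m ∧ 4 ∣ m := by
    subst hm
    clear hD
    induction D, hD9 using Nat.le_induction with
    | base => norm_num
    | succ n hn ih =>
      rw [show n + 1 - 2 = (n - 2) + 1 by omega, pow_succ]
      obtain ⟨i1, i2, i3⟩ := ih
      refine ⟨?_, by omega, Dvd.dvd.mul_right i3 2⟩
      nlinarith
  have e2 : 2 ^ D = 4 * m := by
    rw [hm, show (4 : ℕ) = 2 ^ 2 by norm_num, ← pow_add]; congr 1; omega
  have e1 : 2 ^ (D - 1) = 2 * m := by
    rw [hm, ← pow_succ']; congr 1; omega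
  obtain ⟨q, hq⟩ := h1.2.2
  rw [← hm, e1]
  have a1 : (2 ^ D - 1) ^ D * 2 ^ (3 * m) ≤ 2 ^ (4 * m - 1) := by
    calc _ ≤ (2 ^ D) ^ D * 2 ^ (3 * m) :=
          Nat.mul_le_mul_right _ (Nat.pow_le_pow_left (Nat.sub_le _ _) D)
      _ = 2 ^ (D * D + 3 * m) := by rw [← pow_mul, ← pow_add]
      _ ≤ _ := Nat.pow_le_pow_right two_pos (by omega)
  have a2 : (2 ^ D) ^ 2 * (2 ^ (2 * m) * 3 ^ m) ≤ 2 ^ (4 * m - 2) := by
    calc _ = 2 ^ (D * 2 + 2 * m) * 81 ^ q := by
          rw [← mul_assoc, ← pow_mul, ← pow_add, hq, pow_mul]; norm_num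
      _ ≤ 2 ^ (D * 2 + 2 * m) * 128 ^ q :=
          Nat.mul_le_mul_left _ (Nat.pow_le_pow_left (by norm_num) q)
      _ = 2 ^ (D * 2 + 2 * m + 7 * q) := by
          rw [show (128 : ℕ) = 2 ^ 7 by norm_num, ← pow_mul, ← pow_add]
      _ ≤ _ := Nat.pow_le_pow_right two_pos (by omega)
  calc _ ≤ 2 ^ (4 * m - 1) + 2 ^ (4 * m - 2) := Nat.add_le_add a1 a2
    _ < 2 ^ (4 * m - 1) + 2 ^ (4 * m - 1) :=
      Nat.add_lt_add_left (Nat.pow_lt_pow_right one_lt_two (by omega)) _
    _ = 2 ^ (2 ^ D) := by rw [← two_mul, ← pow_succ', e2]; congr 1; omega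

theorem colourable_large (hD : 8 ≤ D) : Colourable 2 D 1 := by
  classical
  let All : Set ((Fin D → ZMod 2) → Bool) := {f | f 0 = false}
  let Ts : Finset ((Fin D → ZMod 2) →+ (Fin D → ZMod 2)) := by
    haveI : Finite ((Fin D → ZMod 2) →+ (Fin D → ZMod 2)) :=
      Finite.of_injective _ DFunLike.coe_injective
    haveI := Fintype.ofFinite ((Fin D → ZMod 2) →+ (Fin D → ZMod 2))
    exact Finset.univ.filter fun T => Function.Injective T ∧ ∃ x, T x ≠ x
  have hTs : ∀ T, T ∈ Ts ↔ Function.Injective T ∧ ∃ x, T x ≠ x := fun T => by simp [Ts]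
  have hcardT : Ts.card ≤ (2 ^ D - 1) ^ D := by
    let red : Ts → (Fin D → {x : Fin D → ZMod 2 // x ≠ 0}) := fun T k =>
      ⟨T.1 (ev k), fun h =>
        ev_ne_zero k (((hTs T.1).mp T.2).1 (h.trans (map_zero T.1).symm))⟩
    have hred : Function.Injective red := by
      intro S T h
      apply Subtype.ext
      refine AddMonoidHom.ext fun x => ?_
      have hx : x ∈ AddSubgroup.closure (Set.range ev) := closure_ev.symm ▸ AddSubgroup.mem_top x
      induction hx using AddSubgroup.closure_induction with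
      | mem y hy => obtain ⟨k, rfl⟩ := hy; exact congrArg Subtype.val (congrFun h k)
      | zero => rw [map_zero, map_zero]
      | add a b _ _ ha hb => rw [map_add, map_add, ha, hb]
      | neg a _ ha => rw [map_neg, map_neg, ha]
    have := Fintype.card_le_of_injective red hred
    simpa [Fintype.card_coe] using this
  let U1 : Set ((Fin D → ZMod 2) → Bool) := ⋃ T ∈ Ts, {f | f 0 = false ∧ ∀ x, f (T x) = f x}
  let U2 : Set ((Fin D → ZMod 2) → Bool) :=
    ⋃ p ∈ (Finset.univ : Finset ((Fin D → ZMod 2) × (Fin D → ZMod 2))), Bad p.1 p.2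
  have h1 : U1.ncard * 2 ≤ (2 ^ D - 1) ^ D * 2 ^ (3 * 2 ^ (D - 2)) := by
    calc U1.ncard * 2 ≤ (∑ T ∈ Ts, {f : (Fin D → ZMod 2) → Bool |
          f 0 = false ∧ ∀ x, f (T x) = f x}.ncard) * 2 :=
          Nat.mul_le_mul_right 2 (Finset.set_ncard_biUnion_le _ _)
      _ ≤ ∑ T ∈ Ts, 2 ^ (3 * 2 ^ (D - 2)) := by
          rw [Finset.sum_mul]
          exact Finset.sum_le_sum fun T hT => card_fixed T ((hTs T).mp hT).1 ((hTs T).mp hT).2
      _ ≤ _ := by rw [Finset.sum_const, smul_eq_mul]; exact Nat.mul_le_mul_right _ hcardT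
  have h2 : U2.ncard * 2 ≤ (2 ^ D) ^ 2 * (2 ^ (2 ^ (D - 1)) * 3 ^ (2 ^ (D - 2))) := by
    calc U2.ncard * 2 ≤ (∑ p ∈ (Finset.univ : Finset ((Fin D → ZMod 2) × (Fin D → ZMod 2))),
          (Bad p.1 p.2).ncard) * 2 :=
          Nat.mul_le_mul_right 2 (Finset.set_ncard_biUnion_le _ _)
      _ ≤ ∑ p ∈ (Finset.univ : Finset ((Fin D → ZMod 2) × (Fin D → ZMod 2))),
          2 ^ (2 ^ (D - 1)) * 3 ^ (2 ^ (D - 2)) := by
          rw [Finset.sum_mul]
          exact Finset.sum_le_sum fun p _ => card_bad (by omega) p.1 p.2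
      _ = _ := by
          rw [Finset.sum_const, smul_eq_mul, Finset.card_univ]; simp [sq]
  have hAll : All.ncard * 2 = 2 ^ (2 ^ D) := by
    rw [fun_inj]; simp [Nat.card_eq_fintype_card]
  obtain ⟨f, hf0, hfU⟩ : ∃ f ∈ All, f ∉ U1 ∪ U2 := by
    refine Set.exists_mem_notMem_of_ncard_lt_ncard ?_
    have h3 := Set.ncard_union_le U1 U2
    have h4 := count_ineq hD
    omega
  simp only [Set.mem_union, not_or, U1, U2, Set.mem_iUnion, not_exists] at hfU
  obtain ⟨hfix, hbad⟩ := hfU
  let col : (Fin D → ZMod 2) → ℕ := fun x => (f x).toNat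
  have hsupp : ∀ x, f x = true → x ∈ supp col := fun x hx =>
    ⟨fun h => by rw [h, (hf0 : f 0 = false)] at hx; exact Bool.noConfusion hx, by simp [col, hx]⟩
  refine ⟨col, fun x => Bool.toNat_le _, ?_, supp col, subset_rfl, ?_, ?_⟩
  · intro T hT hk x
    by_contra hx
    refine hfix T ((hTs T).mpr ⟨hT, x, hx⟩) ⟨hf0, fun y => ?_⟩
    rcases eq_or_ne y 0 with rfl | hy
    · rw [map_zero]
    · have := hk y hy
      simp only [col] at this
      revert this
      cases f (T y) <;> cases f y <;> simp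
  · by_contra hne
    obtain ⟨l, hl, hlc⟩ := exists_dual hne
    obtain ⟨a, ha, hla⟩ := exists_kernel (by omega : 2 ≤ D) l
    exact hbad (a, l) (Finset.mem_univ _) ⟨ha, hl, hla, hf0, fun b hb hh => zero_ne_one
      ((hlc b (AddSubgroup.subset_closure (hsupp b hh.1))).symm.trans hb)⟩
  · intro a ha
    by_contra hne
    obtain ⟨l, hl, hlc⟩ := exists_dual hne
    have hla : dot l a = 0 := hlc a (AddSubgroup.subset_closure ⟨ha, Or.inr (two_self a)⟩)
    exact hbad (a, l) (Finset.mem_univ _) ⟨ha.1, hl, hla, hf0, fun b hb hh => zero_ne_one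
      ((hlc b (AddSubgroup.subset_closure ⟨hsupp b hh.1, Or.inl (hsupp _ hh.2)⟩)).symm.trans hb)⟩
where
  exists_dual {S : AddSubgroup (Fin D → ZMod 2)} (hS : S ≠ ⊤) :
      ∃ l : Fin D → ZMod 2, l ≠ 0 ∧ ∀ x ∈ S, dot l x = 0 := by
    haveI : Fact (Nat.Prime 2) := ⟨Nat.prime_two⟩
    obtain ⟨φ, hφ, hSφ⟩ := Submodule.exists_le_ker_of_lt_top (AddSubgroup.toZModSubmodule 2 S)
      (lt_top_iff_ne_top.mpr fun h => hS (by
        have := congrArg Submodule.toAddSubgroup h
        simpa using this))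
    have e : ∀ x, φ x = dot (fun i => φ (ev i)) x := fun x => by
      conv_lhs => rw [pi_eq_sum_univ x]
      rw [map_sum]
      refine Finset.sum_congr rfl fun i _ => ?_
      rw [map_smul, smul_eq_mul, mul_comm]
      congr 2
      funext j
      simp [ev, Pi.single_apply, eq_comm]
    refine ⟨fun i => φ (ev i), fun h => hφ (LinearMap.ext fun x => ?_), fun x hx => ?_⟩
    · rw [e, h]; simp [dot]
    · rw [← e]; exact LinearMap.mem_ker.mp (hSφ hx)
  exists_kernel (hD2 : 2 ≤ D) (l : Fin D → ZMod 2) : ∃ a, a ≠ 0 ∧ dot l a = 0 := by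
    let i : Fin D := ⟨0, by omega⟩
    let j : Fin D := ⟨1, by omega⟩
    have hij : i ≠ j := fun h => by simpa [i, j] using congrArg Fin.val h
    have ne1 : ∀ k : Fin D, (ev k : Fin D → ZMod 2) ≠ 0 := ev_ne_zero
    rcases zmod2 (l i) with h | h
    · exact ⟨ev i, ne1 i, (dot_ev l i).trans h⟩
    rcases zmod2 (l j) with h' | h'
    · exact ⟨ev j, ne1 j, (dot_ev l j).trans h'⟩
    refine ⟨ev i + ev j, fun h0 => ?_, by rw [dot_add, dot_ev, dot_ev, h, h']; rfl⟩
    have := congrFun h0 i
    simp [ev, Pi.single_apply, hij] at this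

end Cfsg.Agent.BT62
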