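import Mathlib
import Cfsg.Agent.BT62.Frame

/-!
# The monomial frame attached to a symplectic section
-/

set_option autoImplicit false

namespace Cfsg.Agent.BT62

open scoped commutatorElement
open BC85.BaseTwo BC85.BaseThree

/-- A symplectic section over a field of scalars with a chosen frame vector. -/
structure FD (H V K : Type) [Group H] [AddCommGroup V] [DistribMulAction H V] [Field K]
    [Module K V] where
  /-- the scalars inside the group -/
  U : Subgroup H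
  hUn : U.Normal
  /-- the embedding of the scalars -/
  ι : U →* Kˣ
  hι : Function.Injective ι
  hιv : ∀ (u : U) (v : V), (u : H) • v = (ι u : K) • v
  hlin : ∀ g ∈ Subgroup.centralizer (U : Set H), ∀ (k : K) (v : V), g • k • v = k • g • v
  hsemi : ∀ (h : H) (k : K), ∃ k' : K, ∀ x : V, h • k • x = k' • h • x
  /-- a generator of the scalars -/
  θ : Kˣ
  hθgen : ∀ k : Kˣ, k ∈ Subgroup.zpowers θ
  hθ : ∀ (h : H) (v : V), v ≠ 0 → h • v = v → h • (θ : K) • v = (θ : K) • v →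
    h ∈ Subgroup.centralizer (U : Set H)
  /-- the section -/
  N : Subgroup H
  hN : @IsSec H _ U N
  hlN : ∀ n ∈ N, ∀ (k : K) (x : V), n • k • x = k • n • x
  /-- the frame vector -/
  v : V
  hv : v ≠ 0
  habel : ∀ a ∈ line N hlN v, ∀ b ∈ line N hlN v, a * b = b * a
  /-- the element moving the frame vector inside a plane -/
  p : H
  hp : p ∈ N
  hpA : ∀ a ∈ line N hlN v, a * p = p * a
  hspan : ∀ y ∈ N, (∀ a ∈ line N hlN v, a * y = y * a) →
    y • v ∈ Submodule.span K ({v, p • v} : Set V)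
  shape : (p = 1 ∧ ∀ y ∈ N, (∀ a ∈ line N hlN v, a * y = y * a) → y ∈ line N hlN v) ∨
    ∃ p2 ∈ N, (∀ a ∈ line N hlN v, a * p2 = p2 * a) ∧
      p ∉ line N hlN v ∧ p2 ∉ line N hlN v ∧ p2 * p ≠ p * p2 ∧
      (∀ x : V, p2 • p • x = (-1 : K) • p • p2 • x) ∧
      p ^ 2 ∈ line N hlN v ∧ p2 ^ 2 ∈ line N hlN v ∧
      (∀ y ∈ N, (∀ a ∈ line N hlN v, a * y = y * a) →
        y ∈ line N hlN v ⊔ Subgroup.closure {p, p2}) ∧
      (∀ c : K, p • v ≠ c • v) ∧
      ∀ y ∈ N, (∀ a ∈ line N hlN v, a * y = y * a) → y ∉ line N hlN v →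
        ∀ c : K, y ^ 2 • v ≠ c ^ 2 • v

variable {H V K : Type} [Group H] [AddCommGroup V] [DistribMulAction H V] [Field K] [Module K V]
  (F : FD H V K)

namespace FD

instance : F.U.Normal := F.hUn

/-- The elements of the section having the frame vector as eigenvector. -/
def A : Subgroup H := line F.N F.hlN F.v

/-- The centraliser of `A` in the section. -/
def Y : Subgroup H := Subgroup.centralizer (F.A : Set H) ⊓ F.N

theorem hAN : F.A ≤ F.N := fun _ ha => ha.1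

theorem hUA : F.U ≤ F.A := fun u hu => ⟨F.hN.le hu, _, F.hιv ⟨u, hu⟩ F.v⟩

theorem cenU {u : H} (hu : u ∈ F.U) {y : H} (hy : y ∈ F.N) : u * y = y * u :=
  Subgroup.mem_centralizer_iff.mp (F.hN.cen hy) u hu

theorem mem_Y {y : H} : y ∈ F.Y ↔ y ∈ F.N ∧ ∀ a ∈ F.A, a * y = y * a :=
  ⟨fun h => ⟨h.2, Subgroup.mem_centralizer_iff.mp h.1⟩,
    fun h => ⟨Subgroup.mem_centralizer_iff.mpr h.2, h.1⟩⟩

theorem hAY : F.A ≤ F.Y := fun a ha => F.mem_Y.mpr ⟨F.hAN ha, fun b hb => F.habel b hb a ha⟩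

theorem hYN : F.Y ≤ F.N := inf_le_right

theorem hUY : F.U ≤ F.Y := F.hUA.trans F.hAY

theorem hpY : F.p ∈ F.Y := F.mem_Y.mpr ⟨F.hp, F.hpA⟩

theorem span_Y {y : H} (hy : y ∈ F.Y) : y • F.v ∈ Submodule.span K ({F.v, F.p • F.v} : Set V) :=
  F.hspan y (F.mem_Y.mp hy).1 (F.mem_Y.mp hy).2

instance Y_normal : (F.Y.subgroupOf F.N).Normal := by
  refine ⟨fun x hx y => ?_⟩
  rw [Subgroup.mem_subgroupOf] at hx ⊢
  have h2 : (y : H) * x * (y : H)⁻¹ = ⁅(y : H), (x : H)⁆ * x := by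
    simp only [commutatorElement_def]; group
  show (y : H) * x * (y : H)⁻¹ ∈ F.Y
  rw [h2]
  exact F.Y.mul_mem (F.hUY (F.hN.comm y y.2 x x.2)) hx

/-- The index set of the frame. -/
abbrev X : Type := Additive (F.N ⧸ F.Y.subgroupOf F.N)

instance instXcomm : AddCommGroup F.X :=
  { (inferInstance : AddGroup (Additive (F.N ⧸ F.Y.subgroupOf F.N))) with
    add_comm := fun a b => by
      apply Additive.toMul.injective
      show Additive.toMul a * Additive.toMul b = Additive.toMul b * Additive.toMul a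
      obtain ⟨x, hx⟩ := QuotientGroup.mk'_surjective (F.Y.subgroupOf F.N) (Additive.toMul a)
      obtain ⟨y, hy⟩ := QuotientGroup.mk'_surjective (F.Y.subgroupOf F.N) (Additive.toMul b)
      rw [← hx, ← hy, ← commutatorElement_eq_one_iff_mul_comm, ← map_commutatorElement]
      exact (QuotientGroup.eq_one_iff _).mpr (F.hUY (F.hN.comm x x.2 y y.2)) }

/-- The class of an element of the section. -/
def cls (n : F.N) : F.X := Additive.ofMul (QuotientGroup.mk' (F.Y.subgroupOf F.N) n)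

theorem cls_mul (a b : F.N) : F.cls (a * b) = F.cls a + F.cls b := by
  show Additive.ofMul _ = _
  rw [map_mul, ofMul_mul]; rfl

theorem cls_eq_iff (a b : F.N) : F.cls a = F.cls b ↔ (a : H)⁻¹ * b ∈ F.Y := by
  show Additive.ofMul _ = Additive.ofMul _ ↔ _
  rw [Additive.ofMul.injective.eq_iff, QuotientGroup.mk'_apply, QuotientGroup.mk'_apply,
    QuotientGroup.eq, Subgroup.mem_subgroupOf]
  rfl

theorem cls_one : F.cls 1 = 0 := by
  show Additive.ofMul _ = _
  rw [map_one]; rfl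

theorem cls_eq_zero (a : F.N) : F.cls a = 0 ↔ (a : H) ∈ F.Y := by
  rw [← cls_one, eq_comm, F.cls_eq_iff, OneMemClass.coe_one, inv_one, one_mul]

theorem cls_pow (a : F.N) (m : ℕ) : F.cls (a ^ m) = m • F.cls a := by
  induction m with
  | zero => rw [pow_zero, cls_one, zero_nsmul]
  | succ m ih => rw [pow_succ, cls_mul, ih, succ_nsmul]

theorem exists_sec [Finite H] (x : F.X) :
    ∃ n : F.N, F.cls n = x ∧ (x = 0 → n = 1) ∧
      ∀ r : ℕ, r.Prime → r • x = 0 → (n : H) ^ r ∈ F.U := by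
  by_cases hx : x = 0
  · exact ⟨1, by rw [cls_one, hx], fun _ => rfl, fun r _ _ => by
      rw [OneMemClass.coe_one, one_pow]; exact F.U.one_mem⟩
  obtain ⟨n, hn⟩ := QuotientGroup.mk'_surjective (F.Y.subgroupOf F.N) (Additive.toMul x)
  have hn' : F.cls n = x := by show Additive.ofMul _ = x; rw [hn]; rfl
  by_cases hr : ∃ r : ℕ, r.Prime ∧ r • x = 0
  swap
  · exact ⟨n, hn', fun h => absurd h hx, fun r h1 h2 => absurd ⟨r, h1, h2⟩ hr⟩
  obtain ⟨r, hr1, hr2⟩ := hr
  obtain ⟨e, he0, hesf, heU⟩ := exists_squarefree F.U F.hN n.2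
  have hex : e • x = 0 := by
    rw [← hn', ← cls_pow, cls_eq_zero, SubgroupClass.coe_pow]
    exact F.hUY heU
  have hone : ∀ s : ℕ, s.Coprime r → s • x = 0 → x = 0 := by
    intro s hs h0
    have h1 : addOrderOf x ∣ 1 := by
      rw [← hs]
      exact Nat.dvd_gcd (addOrderOf_dvd_of_nsmul_eq_zero h0) (addOrderOf_dvd_of_nsmul_eq_zero hr2)
    exact AddMonoid.addOrderOf_eq_one_iff.mp (Nat.dvd_one.mp h1)
  have hre : r ∣ e := by
    by_contra h
    exact hx (hone e ((hr1.coprime_iff_not_dvd.mpr h).symm) hex)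
  obtain ⟨t, rfl⟩ := hre
  have hrt : r.Coprime t := hr1.coprime_iff_not_dvd.mpr fun h =>
    hr1.ne_one (Nat.isUnit_iff.mp (hesf r (mul_dvd_mul_left r h)))
  obtain ⟨j, hj⟩ : ∃ j : ℕ, j * t ≡ 1 [MOD r] := by
    haveI : Fact r.Prime := ⟨hr1⟩
    refine ⟨((t : ZMod r)⁻¹).val, ?_⟩
    rw [← ZMod.natCast_eq_natCast_iff, Nat.cast_mul, ZMod.natCast_zmod_val, Nat.cast_one,
      inv_mul_cancel₀]
    rw [Ne, ZMod.natCast_eq_zero_iff]
    exact hr1.coprime_iff_not_dvd.mp hrt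
  refine ⟨n ^ (j * t), ?_, fun h => absurd h hx, fun r' hr' hr'x => ?_⟩
  · rw [cls_pow, hn']
    obtain ⟨q, hq⟩ : ∃ q, j * t = r * q + 1 :=
      ⟨j * t / r, by rw [← (show (j * t) % r = 1 from by rw [hj]; exact Nat.mod_eq_of_lt hr1.one_lt),
        Nat.div_add_mod]⟩
    rw [hq, add_nsmul, one_nsmul, mul_comm, mul_nsmul', hr2, nsmul_zero, zero_add]
  · have : r' = r := by
      by_contra h
      exact hx (hone r' ((Nat.coprime_primes hr' hr1).mpr h) hr'x)
    subst this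
    rw [SubgroupClass.coe_pow, ← pow_mul, show j * t * r' = r' * t * j by ring, pow_mul]
    exact F.U.pow_mem heU j

variable [Finite H]

/-- A section of the class map. -/
noncomputable def sec (x : F.X) : F.N := (F.exists_sec x).choose

theorem cls_sec (x : F.X) : F.cls (F.sec x) = x := (F.exists_sec x).choose_spec.1

theorem sec_zero : F.sec 0 = 1 := (F.exists_sec 0).choose_spec.2.1 rfl

theorem sec_pow {x : F.X} {r : ℕ} (hr : r.Prime) (h : r • x = 0) : (F.sec x : H) ^ r ∈ F.U :=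
  (F.exists_sec x).choose_spec.2.2 r hr h

/-- The eigenvalues of `A` on the frame vector. -/
noncomputable def χ (a : F.A) : K := a.2.2.choose

theorem χ_spec (a : F.A) : (a : H) • F.v = F.χ a • F.v := a.2.2.choose_spec

theorem χ_eq (a : F.A) (c : K) (h : (a : H) • F.v = c • F.v) : c = F.χ a := by
  rw [χ_spec, ← sub_eq_zero, ← sub_smul, smul_eq_zero] at h
  exact (sub_eq_zero.mp (h.resolve_right F.hv)).symm

theorem χ_mul (a b : F.A) : F.χ (a * b) = F.χ a * F.χ b :=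
  (F.χ_eq _ _ (by rw [Subgroup.coe_mul, mul_smul, F.χ_spec b, F.hlN a (F.hAN a.2), F.χ_spec a,
    smul_smul, mul_comm])).symm

theorem χ_one : F.χ 1 = 1 := (F.χ_eq 1 1 (by rw [OneMemClass.coe_one, one_smul, one_smul])).symm

theorem χ_ne (a : F.A) : F.χ a ≠ 0 := by
  intro h0
  have := F.χ_spec a
  rw [h0, zero_smul, smul_eq_zero_iff_eq] at this
  exact F.hv this

/-- Commutators with the elements of `A` as scalars. -/
noncomputable def ψ (n : F.N) (a : F.A) : Kˣ :=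
  F.ι ⟨⁅(a : H), (n : H)⁆, F.hN.comm a (F.hAN a.2) n n.2⟩

theorem ψ_mul (n : F.N) (a b : F.A) : F.ψ n (a * b) = F.ψ n a * F.ψ n b := by
  show F.ι _ = F.ι _ * F.ι _
  rw [mul_comm, ← map_mul]
  congr 1
  apply Subtype.ext
  show ⁅(a : H) * b, (n : H)⁆ = ⁅(b : H), (n : H)⁆ * ⁅(a : H), (n : H)⁆
  have e : ⁅(a : H) * b, (n : H)⁆ = (a : H) * ⁅(b : H), (n : H)⁆ * (a : H)⁻¹ * ⁅(a : H), (n : H)⁆ := by
    simp only [commutatorElement_def]; group
  rw [e, ← F.cenU (F.hN.comm b (F.hAN b.2) n n.2) (F.hAN a.2), mul_inv_cancel_right]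

theorem bracket_congr {a : H} (ha : a ∈ F.A) {n n' : F.N} (h : F.cls n = F.cls n') :
    ⁅a, (n : H)⁆ = ⁅a, (n' : H)⁆ := by
  have hy := F.mem_Y.mp ((F.cls_eq_iff n n').mp h)
  set y := (n : H)⁻¹ * n' with hydef
  have e : (n' : H) = n * y := by rw [hydef, mul_inv_cancel_left]
  rw [e]
  simp only [commutatorElement_def, mul_inv_rev]
  calc a * n * a⁻¹ * (n : H)⁻¹ = a * n * (y * a⁻¹ * y⁻¹) * (n : H)⁻¹ := by
        rw [← hy.2 a⁻¹ (F.A.inv_mem ha), mul_inv_cancel_right]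
    _ = _ := by group

theorem ψ_inj {n n' : F.N} (h : ∀ a, F.ψ n a = F.ψ n' a) : F.cls n = F.cls n' := by
  rw [cls_eq_iff, mem_Y]
  refine ⟨F.N.mul_mem (F.N.inv_mem n.2) n'.2, fun a ha => ?_⟩
  have h1 : ⁅a, (n : H)⁆ = ⁅a, (n' : H)⁆ := congrArg Subtype.val (F.hι (h ⟨a, ha⟩))
  simp only [commutatorElement_def] at h1
  calc a * ((n : H)⁻¹ * n') = (n : H)⁻¹ * (a * n * a⁻¹ * (n : H)⁻¹)⁻¹ *
        (a * n' * a⁻¹ * (n' : H)⁻¹) * n' * a := by group
    _ = _ := by rw [h1]; group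

/-- The eigenspace of `A` of a given class. -/
noncomputable def Eig (x : F.X) : Submodule K V where
  carrier := {z | ∀ a : F.A, (a : H) • z = (F.χ a * F.ψ (F.sec x) a) • z}
  zero_mem' := fun a => by rw [smul_zero, smul_zero]
  add_mem' := fun {z w} hz hw a => by rw [smul_add, smul_add, hz a, hw a]
  smul_mem' := fun c z hz a => by rw [F.hlN a (F.hAN a.2), hz a, smul_comm]

theorem mem_Eig_zero {z : V} : z ∈ F.Eig 0 ↔ ∀ a : F.A, (a : H) • z = F.χ a • z := by
  show (∀ a : F.A, _) ↔ _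
  have h0 : ∀ a : F.A, F.ψ (F.sec 0) a = 1 := fun a => by
    show F.ι _ = 1
    rw [← map_one F.ι]
    congr 1
    apply Subtype.ext
    show ⁅(a : H), (F.sec 0 : H)⁆ = 1
    rw [F.sec_zero, OneMemClass.coe_one, commutatorElement_one_right]
  simp only [h0, Units.val_one, mul_one]

theorem v_mem : F.v ∈ F.Eig 0 := F.mem_Eig_zero.mpr F.χ_spec

theorem Y_smul_mem {y : H} (hy : y ∈ F.Y) {z : V} (hz : z ∈ F.Eig 0) : y • z ∈ F.Eig 0 := by
  rw [mem_Eig_zero] at hz ⊢
  intro a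
  rw [← mul_smul, (F.mem_Y.mp hy).2 a a.2, mul_smul, hz a, F.hlN y (F.hYN hy)]

theorem sec_smul_mem (x : F.X) {z : V} (hz : z ∈ F.Eig 0) : (F.sec x : H) • z ∈ F.Eig x := by
  rw [mem_Eig_zero] at hz
  intro a
  set n : H := ↑(F.sec x)
  have e : (a : H) * n = ⁅(a : H), n⁆ * (n * a) := by
    simp only [commutatorElement_def]; group
  rw [← mul_smul, e, mul_smul, mul_smul, hz a, F.hlN n (F.sec x).2,
    show ⁅(a : H), n⁆ • F.χ a • n • z = _ from F.hιv ⟨_, F.hN.comm a (F.hAN a.2) n (F.sec x).2⟩ _,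
    smul_smul, mul_comm]
  rfl

theorem Eig_indep (z : F.X → V) (hz : ∀ x, z x ∈ F.Eig x) [Fintype F.X] (hsum : ∑ x, z x = 0) :
    ∀ x, z x = 0 := by
  intro x
  refine (Module.forall_dual_apply_eq_zero_iff K (z x)).mp fun φ => ?_
  let ch : F.X → (F.A →* K) := fun x =>
    { toFun := fun a => F.χ a * F.ψ (F.sec x) a
      map_one' := by
        have h1 := F.ψ_mul (F.sec x) 1 1
        rw [one_mul, left_eq_mul] at h1
        rw [F.χ_one, h1, Units.val_one, mul_one]
      map_mul' := fun a b => by rw [F.χ_mul, F.ψ_mul, Units.val_mul]; ring }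
  have hch : Function.Injective ch := by
    intro x x' h
    rw [← F.cls_sec x, ← F.cls_sec x']
    refine F.ψ_inj fun a => Units.ext ?_
    have h1 : F.χ a * F.ψ (F.sec x) a = F.χ a * F.ψ (F.sec x') a := DFunLike.congr_fun h a
    exact mul_left_cancel₀ (F.χ_ne a) h1
  have hind : LinearIndependent K fun x => (ch x : F.A → K) :=
    (linearIndependent_monoidHom F.A K).comp ch hch
  refine (Fintype.linearIndependent_iff.mp hind) (fun x => φ (z x)) ?_ x
  funext a
  have h5 := congrArg (fun w => φ ((a : H) • w)) hsum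
  simp only [Finset.smul_sum, map_sum, smul_zero, map_zero] at h5
  simp only [Finset.sum_apply, Pi.smul_apply, smul_eq_mul, Pi.zero_apply]
  refine Eq.trans (Finset.sum_congr rfl fun x _ => ?_) h5
  rw [hz x a, map_smul, smul_eq_mul, mul_comm]
  rfl

/-- A nonzero vector lies in one eigenspace only. -/
theorem Eig_unique {x x' : F.X} {z : V} (hz : z ≠ 0) (h : z ∈ F.Eig x) (h' : z ∈ F.Eig x') :
    x = x' := by
  rw [← F.cls_sec x, ← F.cls_sec x']
  refine F.ψ_inj fun a => Units.ext ?_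
  have h1 := (h a).symm.trans (h' a)
  rw [← sub_eq_zero, ← sub_smul, smul_eq_zero] at h1
  exact mul_left_cancel₀ (F.χ_ne a) (sub_eq_zero.mp (h1.resolve_right hz))

end FD

end Cfsg.Agent.BT62
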