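import Mathlib
import Cfsg.Agent.BT62.Setup

/-!
# Elements fixing the frame vector
-/

set_option autoImplicit false

namespace Cfsg.Agent.BT62

open scoped commutatorElement
open BC85.BaseTwo BC85.BaseThree

variable {H V K : Type} [Group H] [Finite H] [AddCommGroup V] [DistribMulAction H V] [Field K]
  [Module K V] (F : FD H V K)

namespace FD

variable {g : H} (hgv : g • F.v = F.v)

include hgv

theorem inv_fix : g⁻¹ • F.v = F.v := inv_smul_eq_iff.mpr hgv.symm

theorem norm_A {a : H} (ha : a ∈ F.A) : g * a * g⁻¹ ∈ F.A := by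
  obtain ⟨haN, c, hc⟩ := ha
  obtain ⟨c', hc'⟩ := F.hsemi g c
  refine ⟨F.hN.normal.conj_mem a haN g, c', ?_⟩
  rw [mul_smul, mul_smul, F.inv_fix hgv, hc, hc', hgv]

theorem norm_Y {y : H} (hy : y ∈ F.Y) : g * y * g⁻¹ ∈ F.Y := by
  rw [mem_Y] at hy ⊢
  refine ⟨F.hN.normal.conj_mem y hy.1 g, fun a ha => ?_⟩
  have h1 := hy.2 (g⁻¹ * a * (g⁻¹)⁻¹) (F.norm_A (F.inv_fix hgv) ha)
  rw [inv_inv] at h1
  calc a * (g * y * g⁻¹) = g * (g⁻¹ * a * g * y) * g⁻¹ := by group
    _ = g * (y * (g⁻¹ * a * g)) * g⁻¹ := by rw [h1]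
    _ = _ := by group

omit hgv in
/-- Conjugation on the section. -/
def cj (g : H) (n : F.N) : F.N := ⟨g * n * g⁻¹, F.hN.normal.conj_mem n n.2 g⟩

theorem cj_cls {n n' : F.N} (h : F.cls n = F.cls n') : F.cls (F.cj g n) = F.cls (F.cj g n') := by
  rw [cls_eq_iff] at h ⊢
  have := F.norm_Y hgv h
  show (g * n * g⁻¹)⁻¹ * (g * n' * g⁻¹) ∈ F.Y
  convert this using 1
  group

omit hgv in
/-- The permutation of the classes. -/
noncomputable def Tfun (g : H) (x : F.X) : F.X := F.cls (F.cj g (F.sec x))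

theorem T_cls (n : F.N) : F.Tfun g (F.cls n) = F.cls (F.cj g n) :=
  F.cj_cls hgv (F.cls_sec _)

theorem T_add (x y : F.X) : F.Tfun g (x + y) = F.Tfun g x + F.Tfun g y := by
  conv_lhs => rw [← F.cls_sec x, ← F.cls_sec y, ← cls_mul, F.T_cls hgv]
  rw [Tfun, Tfun, ← cls_mul]
  congr 1
  apply Subtype.ext
  show g * ((F.sec x : H) * F.sec y) * g⁻¹ = g * F.sec x * g⁻¹ * (g * F.sec y * g⁻¹)
  group

theorem T_inj : Function.Injective (F.Tfun g) := by
  intro x y h
  have h1 := F.T_cls (F.inv_fix hgv) (F.cj g (F.sec x))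
  have h2 := F.T_cls (F.inv_fix hgv) (F.cj g (F.sec y))
  have e : ∀ n : F.N, F.cj g⁻¹ (F.cj g n) = n := fun n => by
    apply Subtype.ext
    show g⁻¹ * (g * n * g⁻¹) * g⁻¹⁻¹ = n
    group
  rw [e, F.cls_sec] at h1 h2
  unfold Tfun at h
  rw [← h1, ← h2, h]

omit hgv in
theorem eta_mem (g : H) (x : F.X) : (F.sec (F.Tfun g x) : H)⁻¹ * (g * F.sec x * g⁻¹) ∈ F.Y :=
  (F.cls_eq_iff (F.sec (F.Tfun g x)) (F.cj g (F.sec x))).mp (F.cls_sec _)

theorem smul_Eig0 {z : V} (hz : z ∈ F.Eig 0) : g • z ∈ F.Eig 0 := by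
  rw [mem_Eig_zero] at hz ⊢
  intro a
  set a' : F.A := ⟨g⁻¹ * a * (g⁻¹)⁻¹, F.norm_A (F.inv_fix hgv) a.2⟩
  have ea : (a : H) * g = g * (a' : H) := by
    show (a : H) * g = g * (g⁻¹ * a * (g⁻¹)⁻¹)
    group
  obtain ⟨c', hc'⟩ := F.hsemi g (F.χ a')
  have hcc : c' = F.χ a := by
    refine F.χ_eq a c' ?_
    calc (a : H) • F.v = (a : H) • g • F.v := by rw [hgv]
      _ = g • (a' : H) • F.v := by rw [← mul_smul, ea, mul_smul]
      _ = c' • F.v := by rw [χ_spec, hc', hgv]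
  rw [← mul_smul, ea, mul_smul, hz a', hc', hcc]

/-- The components of a fixed vector are permuted. -/
theorem fix_comp [Fintype F.X] (w : F.X → V) (hw : ∀ x, w x ∈ F.Eig 0)
    (hfix : g • (∑ x, (F.sec x : H) • w x) = ∑ x, (F.sec x : H) • w x) (x : F.X) :
    g • (F.sec x : H) • w x = (F.sec (F.Tfun g x) : H) • w (F.Tfun g x) := by
  have hTb : Function.Bijective (F.Tfun g) :=
    ⟨F.T_inj hgv, Finite.surjective_of_injective (F.T_inj hgv)⟩
  let eT : F.X ≃ F.X := Equiv.ofBijective _ hTb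
  have hmem : ∀ x, g • (F.sec x : H) • w x ∈ F.Eig (F.Tfun g x) := by
    intro x
    have e : g • (F.sec x : H) • w x = (F.sec (F.Tfun g x) : H) •
        ((F.sec (F.Tfun g x) : H)⁻¹ * (g * F.sec x * g⁻¹)) • g • w x := by
      rw [← mul_smul, ← mul_smul, ← mul_smul]
      congr 1
      group
    rw [e]
    exact F.sec_smul_mem _ (F.Y_smul_mem (F.eta_mem g x) (F.smul_Eig0 hgv (hw x)))
  have h0 := F.Eig_indep
    (fun x' => g • (F.sec (eT.symm x') : H) • w (eT.symm x') - (F.sec x' : H) • w x')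
    (fun x' => by
      refine (F.Eig x').sub_mem ?_ (F.sec_smul_mem _ (hw x'))
      have := hmem (eT.symm x')
      rwa [show F.Tfun g (eT.symm x') = x' from eT.apply_symm_apply x'] at this) (by
    rw [Finset.sum_sub_distrib, sub_eq_zero]
    refine Eq.trans ?_ hfix
    rw [Finset.smul_sum]
    exact Equiv.sum_comp eT.symm (fun x => g • (F.sec x : H) • w x)) (F.Tfun g x)
  rwa [show eT.symm (F.Tfun g x) = x from eT.symm_apply_apply x, sub_eq_zero] at h0

omit [Finite H] in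
theorem fix_span (hgC : g ∈ Subgroup.centralizer (F.U : Set H)) (hgp : g • F.p • F.v = F.p • F.v)
    {y : H} (hy : y ∈ F.Y) : g • y • F.v = y • F.v := by
  have h := F.span_Y hy
  generalize y • F.v = z at h ⊢
  induction h using Submodule.span_induction with
  | mem x hx =>
    rcases hx with rfl | rfl
    · exact hgv
    · exact hgp
  | zero => rw [smul_zero]
  | add a b _ _ ha hb => rw [smul_add, ha, hb]
  | smul c a _ ha => rw [F.hlin g hgC, ha]

end FD

end Cfsg.Agent.BT62
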