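import Mathlib
import Cfsg.Agent.BT62.Fix

/-!
# A criterion for an element fixing the frame to be trivial
-/

set_option autoImplicit false

namespace Cfsg.Agent.BT62

open scoped commutatorElement
open BC85.BaseTwo BC85.BaseThree

variable {H V K : Type} [Group H] [Finite H] [AddCommGroup V] [DistribMulAction H V] [Field K]
  [Module K V] (F : FD H V K)

namespace FD

/-- A set of classes on whose triangles no nontrivial pairing vanishes. -/
def Crit (S : Set F.X) : Prop :=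
  ∀ B : F.X → F.X → Kˣ, (∀ a a' b, B (a + a') b = B a b * B a' b) →
    (∀ a b b', B a (b + b') = B a b * B a b') →
    (∀ a ∈ S, ∀ b ∈ S, (a + b ∈ S ∨ a + b = 0) → B a b = 1) → ∀ a b, B a b = 1

theorem brR {n b c : H} (hn : n ∈ F.N) (hb : b ∈ F.N) (hc : c ∈ F.N) :
    ⁅n, b * c⁆ = ⁅n, b⁆ * ⁅n, c⁆ := by
  have e : ⁅n, b * c⁆ = ⁅n, b⁆ * (b * ⁅n, c⁆ * b⁻¹) := by simp only [commutatorElement_def]; group
  rw [e, ← F.cenU (F.hN.comm n hn c hc) hb, mul_inv_cancel_right]

theorem brL {b c n : H} (hb : b ∈ F.N) (hc : c ∈ F.N) (hn : n ∈ F.N) :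
    ⁅b * c, n⁆ = ⁅b, n⁆ * ⁅c, n⁆ := by
  have e : ⁅b * c, n⁆ = b * ⁅c, n⁆ * b⁻¹ * ⁅b, n⁆ := by simp only [commutatorElement_def]; group
  rw [e, ← F.cenU (F.hN.comm c hc n hn) hb, mul_inv_cancel_right,
    F.cenU (F.hN.comm c hc n hn) (F.hN.le (F.hN.comm b hb n hn))]

/-- Scalars fixing the frame vector are trivial. -/
theorem scalar_fix {a : H} (ha : a ∈ F.U) (hav : a • F.v = F.v) : a = 1 := by
  have h3 : ((F.ι ⟨a, ha⟩ : K) - 1) • F.v = 0 := by
    rw [sub_smul, one_smul, ← F.hιv ⟨a, ha⟩, hav, sub_self]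
  have h4 : F.ι ⟨a, ha⟩ = 1 := Units.ext (sub_eq_zero.mp ((smul_eq_zero.mp h3).resolve_right F.hv))
  exact congrArg Subtype.val (F.hι (h4.trans (map_one F.ι).symm))

theorem central_fix {a : H} (ha : a ∈ F.A) (hav : a • F.v = F.v)
    (hcomm : ∀ n ∈ F.N, a * n = n * a) : a = 1 :=
  F.scalar_fix (F.hN.centre a (F.hN.cen (F.hAN ha)) hcomm) hav

/-- An element fixing enough of the frame is trivial. -/
theorem eq_one [FaithfulSMul H V] {g : H} (hgv : g • F.v = F.v)
    (hgC : g ∈ Subgroup.centralizer (F.U : Set H)) (hgp : g • F.p • F.v = F.p • F.v)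
    (S : Set F.X) (hgen : AddSubgroup.closure S = ⊤) (hcrit : F.Crit S)
    (hgS : ∀ x ∈ S, g • (F.sec x : H) • F.v = (F.sec x : H) • F.v) : g = 1 := by
  have hginv := F.inv_fix hgv
  have hgU : ∀ u ∈ F.U, g * u * g⁻¹ = u := fun u hu => by
    rw [← Subgroup.mem_centralizer_iff.mp hgC u hu, mul_inv_cancel_right]
  have hgcomm : ∀ n ∈ F.N, ∀ n' ∈ F.N, ⁅g * n * g⁻¹, g * n' * g⁻¹⁆ = ⁅n, n'⁆ := fun n hn n' hn' => by
    rw [← hgU _ (F.hN.comm n hn n' hn')]
    simp only [commutatorElement_def]; group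
  have hTS : ∀ x ∈ S, F.Tfun g x = x := by
    intro x hx
    have h0 := hgS x hx
    have e : g • (F.sec x : H) • F.v = (F.sec (F.Tfun g x) : H) •
        ((F.sec (F.Tfun g x) : H)⁻¹ * (g * F.sec x * g⁻¹)) • g • F.v := by
      rw [← mul_smul, ← mul_smul, ← mul_smul]
      congr 1
      group
    refine F.Eig_unique (z := (F.sec x : H) • F.v) (fun h => F.hv ?_) ?_ (F.sec_smul_mem x F.v_mem)
    · rwa [smul_eq_zero_iff_eq] at h
    · rw [← h0, e, hgv]
      exact F.sec_smul_mem _ (F.Y_smul_mem (F.eta_mem g x) F.v_mem)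
  have hTid : ∀ x, F.Tfun g x = x := by
    intro x
    have hx : x ∈ AddSubgroup.closure S := hgen ▸ AddSubgroup.mem_top x
    induction hx using AddSubgroup.closure_induction with
    | mem y hy => exact hTS y hy
    | zero =>
      have := F.T_add hgv 0 0
      rw [add_zero] at this
      exact left_eq_add.mp this
    | add a b _ _ ha hb => rw [F.T_add hgv, ha, hb]
    | neg a _ ha =>
      have h1 := F.T_add hgv a (-a)
      rw [add_neg_cancel, ha] at h1
      have h0 := F.T_add hgv 0 0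
      rw [add_zero] at h0
      rw [left_eq_add.mp h0] at h1
      exact eq_neg_of_add_eq_zero_right h1.symm
  have hcjf : ∀ n : F.N, F.cls (F.cj g n) = F.cls n := fun n => by rw [← F.T_cls hgv, hTid]
  -- the centralisation of `A`
  have hgA : ∀ a ∈ F.A, g * a = a * g := by
    intro a ha
    have ha1 : g * a * g⁻¹ * a⁻¹ ∈ F.A := F.A.mul_mem (F.norm_A hgv ha) (F.A.inv_mem ha)
    have hav : (g * a * g⁻¹ * a⁻¹) • F.v = F.v := by
      have e : g * a * g⁻¹ * a⁻¹ = g * (a * g⁻¹ * a⁻¹) := by group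
      have hai : a⁻¹ • F.v = F.χ ⟨a⁻¹, F.A.inv_mem ha⟩ • F.v := F.χ_spec ⟨a⁻¹, F.A.inv_mem ha⟩
      rw [e, mul_smul, mul_smul, mul_smul, hai, F.hlin g⁻¹ (Subgroup.inv_mem _ hgC), hginv,
        F.hlN a (F.hAN ha), show a • F.v = F.χ ⟨a, ha⟩ • F.v from F.χ_spec ⟨a, ha⟩, smul_smul,
        ← F.χ_mul, F.hlin g hgC, hgv,
        show (⟨a⁻¹, F.A.inv_mem ha⟩ : F.A) * ⟨a, ha⟩ = 1 from Subtype.ext (inv_mul_cancel a),
        F.χ_one, one_smul]
    have hcomm : ∀ n ∈ F.N, g * a * g⁻¹ * a⁻¹ * n = n * (g * a * g⁻¹ * a⁻¹) := by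
      intro n hn
      rw [← commutatorElement_eq_one_iff_mul_comm]
      have e1 : ⁅g * a * g⁻¹, n⁆ = ⁅a, n⁆ := by
        have := F.bracket_congr (F.norm_A hgv ha) (n := ⟨n, hn⟩) (n' := F.cj g ⟨n, hn⟩)
          (hcjf ⟨n, hn⟩).symm
        exact this.trans (hgcomm a (F.hAN ha) n hn)
      have e2 := F.brL (F.hAN ha1) (F.hAN ha) hn
      rw [show g * a * g⁻¹ * a⁻¹ * a = g * a * g⁻¹ by group, e1] at e2
      exact right_eq_mul.mp e2
    have := F.central_fix ha1 hav hcomm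
    calc g * a = (g * a * g⁻¹ * a⁻¹) * (a * g) := by group
      _ = _ := by rw [this, one_mul]
  -- the deviations
  let δ : H → H := fun n => n⁻¹ * (g * n * g⁻¹)
  have hδN : ∀ n ∈ F.N, δ n ∈ F.N := fun n hn =>
    F.N.mul_mem (F.N.inv_mem hn) (F.hN.normal.conj_mem n hn g)
  have hdev : ∀ n ∈ F.N, g • n • F.v = n • F.v → δ n ∈ F.A ∧ δ n • F.v = F.v := by
    intro n hn h
    have h' : δ n • F.v = F.v := by
      show (n⁻¹ * (g * n * g⁻¹)) • F.v = F.v
      rw [mul_smul, mul_smul, mul_smul, hginv, h, inv_smul_smul]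
    exact ⟨⟨hδN n hn, 1, by rw [one_smul]; exact h'⟩, h'⟩
  have hδY : ∀ y ∈ F.Y, δ y ∈ F.A ∧ δ y • F.v = F.v := fun y hy =>
    hdev y (F.hYN hy) (F.fix_span hgv hgC hgp hy)
  have hδS : ∀ x ∈ S, δ (F.sec x) ∈ F.A ∧ δ (F.sec x) • F.v = F.v := fun x hx =>
    hdev _ (F.sec x).2 (hgS x hx)
  have hδmul : ∀ n n', δ (n * n') = (n'⁻¹ * δ n * n') * δ n' := fun n n' => by
    simp only [δ]; group
  have hconjA : ∀ a ∈ F.A, ∀ n ∈ F.N, n⁻¹ * a * n = ⁅n⁻¹, a⁆ * a := fun a _ n _ => by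
    simp only [commutatorElement_def]; group
  have hδA : ∀ n : F.N, δ n ∈ F.A := by
    let W : AddSubgroup F.X :=
      { carrier := {x | ∀ n : F.N, F.cls n = x → δ n ∈ F.A}
        zero_mem' := fun n hn => (hδY _ ((F.cls_eq_zero n).mp hn)).1
        add_mem' := fun {x x'} hx hx' n hn => by
          have h1 : F.cls (n * (F.sec x')⁻¹) = x := by
            have := F.cls_mul (n * (F.sec x')⁻¹) (F.sec x')
            rw [inv_mul_cancel_right, hn, F.cls_sec] at this
            exact add_right_cancel this.symm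
          have h2 := hδmul ((n * (F.sec x')⁻¹ : F.N) : H) (F.sec x' : H)
          have h1' : δ ((n : H) * (F.sec x' : H)⁻¹) ∈ F.A := hx _ h1
          rw [Subgroup.coe_mul, Subgroup.coe_inv, inv_mul_cancel_right,
            hconjA _ h1' _ (F.sec x').2] at h2
          rw [h2]
          exact F.A.mul_mem (F.A.mul_mem (F.hUA (F.hN.comm _ (F.N.inv_mem (F.sec x').2) _
            (F.hAN (hx _ h1)))) (hx _ h1)) (hx' _ (F.cls_sec x'))
        neg_mem' := fun {x} hx n hn => by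
          have h1 : F.cls n⁻¹ = x := by
            have := F.cls_mul n n⁻¹
            rw [mul_inv_cancel, F.cls_one, hn] at this
            exact (neg_eq_iff_add_eq_zero.mpr this.symm).symm.trans (neg_neg x)
          have h2 := hδmul ((n⁻¹ : F.N) : H) (n : H)
          have h1' : δ ((n : H)⁻¹) ∈ F.A := hx _ h1
          rw [Subgroup.coe_inv, inv_mul_cancel, hconjA _ h1' _ n.2] at h2
          have h3 : δ (1 : H) = 1 := by simp [δ]
          rw [h3] at h2
          rw [eq_inv_of_mul_eq_one_right h2.symm]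
          exact F.A.inv_mem (F.A.mul_mem (F.hUA (F.hN.comm _ (F.N.inv_mem n.2) _
            (F.hAN (hx _ h1)))) (hx _ h1)) }
    have hSW : S ⊆ W := by
      intro x hx n hn
      have hy := (F.cls_eq_iff (F.sec x) n).mp ((F.cls_sec x).trans hn.symm)
      have h2 := hδmul (F.sec x : H) ((F.sec x : H)⁻¹ * n)
      rw [mul_inv_cancel_left, hconjA _ (hδS x hx).1 _ (F.hYN hy)] at h2
      rw [h2]
      exact F.A.mul_mem (F.A.mul_mem (F.hUA (F.hN.comm _ (F.N.inv_mem (F.hYN hy)) _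
        (F.hAN (hδS x hx).1))) (hδS x hx).1) (hδY _ hy).1
    intro n
    exact ((AddSubgroup.closure_le W).mpr hSW (hgen ▸ AddSubgroup.mem_top (F.cls n))) n rfl
  -- the pairing
  have hsym : ∀ n m : F.N, ⁅δ n, (m : H)⁆ * ⁅(n : H), δ m⁆ = 1 := by
    intro n m
    have e := hgcomm n n.2 m m.2
    rw [show g * (n : H) * g⁻¹ = n * δ n by simp only [δ]; group,
      show g * (m : H) * g⁻¹ = m * δ m by simp only [δ]; group,
      F.brL n.2 (hδN n n.2) (F.N.mul_mem m.2 (hδN m m.2)), F.brR n.2 m.2 (hδN m m.2),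
      F.brR (hδN n n.2) m.2 (hδN m m.2),
      show ⁅δ n, δ m⁆ = 1 from commutatorElement_eq_one_iff_mul_comm.mpr
        (F.habel _ (hδA n) _ (hδA m)), mul_one, mul_assoc, mul_eq_left] at e
    rw [F.cenU (F.hN.comm _ (hδN n n.2) _ m.2) (F.hN.le (F.hN.comm _ n.2 _ (hδN m m.2)))]
    exact e
  have hYc : ∀ (n : F.N) (y : H), y ∈ F.Y → ⁅δ n, y⁆ = 1 := fun n y hy =>
    commutatorElement_eq_one_iff_mul_comm.mpr ((F.mem_Y.mp hy).2 _ (hδA n))
  have hYd : ∀ (y : F.N) (n : F.N), (y : H) ∈ F.Y → ⁅δ y, (n : H)⁆ = 1 := by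
    intro y n hy
    have h1 := hsym y n
    rwa [show ⁅(y : H), δ n⁆ = 1 by rw [← commutatorElement_inv, hYc n y hy, inv_one], mul_one] at h1
  let β : F.N → F.N → Kˣ := fun n m => F.ψ m ⟨δ n, hδA n⟩
  have hδmul' : ∀ n n' m : F.N, ⁅δ (n * n' : F.N), (m : H)⁆ = ⁅δ n, (m : H)⁆ * ⁅δ n', (m : H)⁆ := by
    intro n n' m
    rw [Subgroup.coe_mul, hδmul, hconjA _ (hδA n) _ n'.2,
      F.brL (F.hAN (F.A.mul_mem (F.hUA (F.hN.comm _ (F.N.inv_mem n'.2) _ (F.hAN (hδA n)))) (hδA n)))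
        (F.hAN (hδA n')) m.2,
      F.brL (F.hN.le (F.hN.comm _ (F.N.inv_mem n'.2) _ (F.hAN (hδA n)))) (F.hAN (hδA n)) m.2,
      show ⁅⁅(n' : H)⁻¹, δ n⁆, (m : H)⁆ = 1 from commutatorElement_eq_one_iff_mul_comm.mpr
        (F.cenU (F.hN.comm _ (F.N.inv_mem n'.2) _ (F.hAN (hδA n))) m.2), one_mul]
  have hβcls : ∀ n n' m m' : F.N, F.cls n = F.cls n' → F.cls m = F.cls m' → β n m = β n' m' := by
    intro n n' m m' hn hm
    show F.ι _ = F.ι _
    congr 1
    apply Subtype.ext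
    show ⁅δ n, (m : H)⁆ = ⁅δ n', (m' : H)⁆
    rw [← F.bracket_congr (hδA n') hm]
    have h := hδmul' n (n⁻¹ * n') m
    rw [mul_inv_cancel_left, hYd (n⁻¹ * n') m ((F.cls_eq_iff n n').mp hn), mul_one] at h
    exact h.symm
  let B : F.X → F.X → Kˣ := fun a b => β (F.sec a) (F.sec b)
  have hB : ∀ n m : F.N, B (F.cls n) (F.cls m) = β n m := fun n m =>
    hβcls _ _ _ _ (F.cls_sec _) (F.cls_sec _)
  have hBl : ∀ a a' b, B (a + a') b = B a b * B a' b := by
    intro a a' b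
    conv_lhs => rw [← F.cls_sec a, ← F.cls_sec a', ← cls_mul, ← F.cls_sec b, hB]
    show F.ι _ = F.ι _ * F.ι _
    rw [← map_mul]
    congr 1
    apply Subtype.ext
    exact hδmul' _ _ _
  have hBr : ∀ a b b', B a (b + b') = B a b * B a b' := by
    intro a b b'
    conv_lhs => rw [← F.cls_sec b, ← F.cls_sec b', ← cls_mul, ← F.cls_sec a, hB]
    show F.ι _ = F.ι _ * F.ι _
    rw [← map_mul]
    congr 1
    apply Subtype.ext
    exact F.brR (F.hAN (hδA _)) (F.sec b).2 (F.sec b').2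
  have hBS : ∀ a ∈ S, ∀ b ∈ S, (a + b ∈ S ∨ a + b = 0) → B a b = 1 := by
    intro a ha b hb hab
    set x := a + b with hx
    set na : H := ↑(F.sec a)
    set nb : H := ↑(F.sec b)
    set y : H := (↑(F.sec x) : H)⁻¹ * (na * nb) with hy
    have hyY : y ∈ F.Y := (F.cls_eq_iff (F.sec x) (F.sec a * F.sec b)).mp
      (by rw [F.cls_sec, F.cls_mul, F.cls_sec, F.cls_sec])
    have hfixx : g • (F.sec x : H) • F.v = (F.sec x : H) • F.v := by
      rcases hab with h | h
      · exact hgS x h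
      · rw [h, F.sec_zero, OneMemClass.coe_one, one_smul, hgv]
    have hxA := hdev _ (F.sec x).2 hfixx
    have hfix : δ (na * nb) • F.v = F.v := by
      have e : δ (na * nb) = (y⁻¹ * δ (F.sec x : H) * y) * δ y := by
        rw [← hδmul, hy, mul_inv_cancel_left]
      rw [e, mul_smul, (hδY y hyY).2, mul_assoc, (F.mem_Y.mp hyY).2 _ hxA.1, inv_mul_cancel_left]
      exact hxA.2
    rw [hδmul, hconjA _ (hδS a ha).1 _ (F.sec b).2, mul_smul, (hδS b hb).2, mul_smul,
      (hδS a ha).2] at hfix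
    have hz : ⁅nb⁻¹, δ na⁆ = 1 :=
      F.scalar_fix (F.hN.comm _ (F.N.inv_mem (F.sec b).2) _ (F.hAN (hδS a ha).1)) hfix
    show F.ι _ = 1
    rw [← map_one F.ι]
    congr 1
    apply Subtype.ext
    show ⁅δ na, nb⁆ = 1
    rw [commutatorElement_eq_one_iff_mul_comm] at hz ⊢
    calc δ na * nb = nb * (nb⁻¹ * δ na) * nb := by group
      _ = nb * (δ na * nb⁻¹) * nb := by rw [hz]
      _ = _ := by group
  have hB1 := hcrit B hBl hBr hBS
  have hδcen : ∀ n : F.N, ∀ m ∈ F.N, δ n * m = m * δ n := by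
    intro n m hm
    rw [← commutatorElement_eq_one_iff_mul_comm]
    have h1 : β n ⟨m, hm⟩ = 1 := (hB n ⟨m, hm⟩).symm.trans (hB1 _ _)
    exact congrArg Subtype.val (F.hι (h1.trans (map_one F.ι).symm))
  have hδU : ∀ n : F.N, δ n ∈ F.U := fun n =>
    F.hN.centre _ (F.hN.cen (F.hAN (hδA n))) (hδcen n)
  have hδ1 : ∀ x ∈ S, δ (F.sec x) = 1 := fun x hx =>
    F.scalar_fix (hδU (F.sec x)) (hδS x hx).2
  have hgN : ∀ n ∈ F.N, g * n = n * g := by
    have key : ∀ n : H, δ n = 1 → g * n = n * g := fun n h =>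
      mul_inv_eq_iff_eq_mul.mp (inv_mul_eq_one.mp h).symm
    have hgY : ∀ y ∈ F.Y, g * y = y * g := fun y hy =>
      key y (F.scalar_fix (hδU ⟨y, F.hYN hy⟩) (hδY y hy).2)
    intro n hn
    let P : AddSubgroup F.X :=
      { carrier := {x | ∀ n : F.N, F.cls n = x → Commute g (n : H)}
        zero_mem' := fun n hn => hgY _ ((F.cls_eq_zero n).mp hn)
        add_mem' := fun {x x'} hx hx' n hn => by
          have h1 := hx (n * (F.sec x')⁻¹) (by
            have := F.cls_mul (n * (F.sec x')⁻¹) (F.sec x')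
            rw [inv_mul_cancel_right, hn, F.cls_sec] at this
            exact add_right_cancel this.symm)
          have := h1.mul_right (hx' (F.sec x') (F.cls_sec x'))
          rwa [Subgroup.coe_mul, Subgroup.coe_inv, inv_mul_cancel_right] at this
        neg_mem' := fun {x} hx n hn => by
          have h1 := (hx n⁻¹ (by
            have := F.cls_mul n n⁻¹
            rw [mul_inv_cancel, F.cls_one, hn] at this
            exact (neg_eq_iff_add_eq_zero.mpr this.symm).symm.trans (neg_neg x))).inv_right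
          rwa [Subgroup.coe_inv, inv_inv] at h1 }
    have hSP : S ⊆ P := fun x hx n hn => by
      have hy := hgY _ ((F.cls_eq_iff (F.sec x) n).mp ((F.cls_sec x).trans hn.symm))
      have := (show Commute g (F.sec x : H) from key _ (hδ1 x hx)).mul_right hy
      rwa [mul_inv_cancel_left] at this
    exact ((AddSubgroup.closure_le P).mpr hSP (hgen ▸ AddSubgroup.mem_top (F.cls ⟨n, hn⟩))) ⟨n, hn⟩ rfl
  exact F.scalar_fix (F.hN.centre g hgC hgN) hgv

end FD

end Cfsg.Agent.BT62
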