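import Mathlib
import Cfsg.Agent.BT62.Finish

/-!
# The second vector at the origin of the frame, and the invariant of a component
-/

set_option autoImplicit false

namespace Cfsg.Agent.BT62

open scoped commutatorElement
open BC85.BaseTwo BC85.BaseThree

variable {H V K : Type} [Group H] [Finite H] [AddCommGroup V] [DistribMulAction H V] [Field K]
  [Finite K] [Module K V] (F : FD H V K)

namespace FD

theorem ι_sq_one {q r : H} (hq : q ∈ F.Y) (hr : r ∈ F.Y) (hr2 : r ^ 2 ∈ F.A) :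
    (F.ι ⟨⁅q, r⁆, F.hN.comm q (F.hYN hq) r (F.hYN hr)⟩ : K) ^ 2 = 1 := by
  rw [← Units.val_pow_eq_pow_val, ← map_pow]
  have : (⟨⁅q, r⁆, F.hN.comm q (F.hYN hq) r (F.hYN hr)⟩ : F.U) ^ 2 = 1 := by
    apply Subtype.ext
    show ⁅q, r⁆ ^ 2 = 1
    rw [pow_two, ← F.brR (F.hYN hq) (F.hYN hr) (F.hYN hr), ← pow_two,
      commutatorElement_eq_one_iff_mul_comm]
    exact ((F.mem_Y.mp hq).2 _ hr2).symm
  rw [this, map_one, Units.val_one]

/-- In the nonsplit shape minus one is no square. -/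
theorem neg_one_not_square (hpA : F.p ∉ F.A) (d : K) : d ^ 2 ≠ -1 := by
  intro hd
  rcases F.shape with ⟨hp1, -⟩ | ⟨p2, hp2N, hp2c, -, hp2A, hne, hanti, hsqp, hsqp2, -, -, hns⟩
  · exact hpA (hp1 ▸ F.A.one_mem)
  set a1 : F.A := ⟨F.p ^ 2, hsqp⟩
  set a2 : F.A := ⟨p2 ^ 2, hsqp2⟩
  have hn1 : ∀ c : Kˣ, Units.mk0 (F.χ a1) (F.χ_ne a1) ≠ c ^ 2 := by
    intro c hc
    refine hns F.p F.hp F.hpA hpA (c : K) ?_
    rw [show F.p ^ 2 • F.v = _ from F.χ_spec a1, ← Units.val_pow_eq_pow_val, ← hc, Units.val_mk0]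
  obtain ⟨i, e, he⟩ := exists_pow_mul_eq_pow Nat.prime_two hn1 (Units.mk0 (F.χ a2) (F.χ_ne a2))
  have he' : F.χ a1 ^ i * F.χ a2 = (e : K) ^ 2 := by
    have := congrArg Units.val he
    simpa using this
  have hd0 : d ≠ 0 := fun h => by rw [h] at hd; norm_num at hd
  rcases Nat.even_or_odd' i with ⟨t, rfl | rfl⟩
  · refine hns p2 hp2N hp2c hp2A ((e : K) / F.χ a1 ^ t) ?_
    rw [show p2 ^ 2 • F.v = _ from F.χ_spec a2, div_pow, ← he', ← pow_mul, mul_comm t 2,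
      mul_div_assoc]
    congr 1
    field_simp [F.χ_ne a1]
  · have hyA : F.p * p2 ∉ F.A := by
      intro h
      have h1 := F.hpA _ h
      rw [mul_assoc] at h1
      exact hne (mul_left_cancel (a := F.p) h1)
    refine hns (F.p * p2) (F.N.mul_mem F.hp hp2N) (fun a ha => by
      rw [← mul_assoc, F.hpA a ha, mul_assoc, hp2c a ha, ← mul_assoc]) hyA
      (d * ((e : K) / F.χ a1 ^ t)) ?_
    have hsq : (F.p * p2) ^ 2 • F.v = (-(F.χ a1 * F.χ a2)) • F.v := by
      rw [pow_two, mul_smul, mul_smul F.p p2 F.v, mul_smul, hanti, F.hlN F.p F.hp, ← mul_smul p2,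
        ← pow_two, show p2 ^ 2 • F.v = _ from F.χ_spec a2, F.hlN F.p F.hp, F.hlN F.p F.hp,
        ← mul_smul F.p, ← pow_two, show F.p ^ 2 • F.v = _ from F.χ_spec a1, smul_smul, smul_smul]
      congr 1
      ring
    rw [hsq, mul_pow, hd, div_pow, ← he', ← pow_mul, mul_comm t 2]
    congr 1
    rw [pow_succ]
    field_simp [F.χ_ne a1]

/-- A vector at the origin pinning the field and the plane. -/
theorem exists_origin : ∃ z ∈ F.Eig 0, ∀ g : H, g • F.v = F.v → g • z = z →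
    g ∈ Subgroup.centralizer (F.U : Set H) ∧ g • F.p • F.v = F.p • F.v := by
  rcases F.shape with ⟨hp1, -⟩ | ⟨p2, hp2N, hp2c, hpA, hp2A, hne, hanti, hsqp, hsqp2, -, hpv, hns⟩
  · refine ⟨(F.θ : K) • F.v, (F.Eig 0).smul_mem _ F.v_mem, fun g hgv hgz => ?_⟩
    exact ⟨F.hθ g F.v F.hv hgv hgz, by rw [hp1, one_smul, hgv]⟩
  set a1 : F.A := ⟨F.p ^ 2, hsqp⟩
  set c : K := F.χ a1 with hcdef
  have hn1 : ∀ e : Kˣ, Units.mk0 c (F.χ_ne a1) ≠ e ^ 2 := by
    intro e he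
    refine hns F.p F.hp F.hpA hpA (e : K) ?_
    rw [show F.p ^ 2 • F.v = _ from F.χ_spec a1, ← Units.val_pow_eq_pow_val, ← he, Units.val_mk0]
  have hθns : ∀ e : Kˣ, F.θ ≠ e ^ 2 := by
    intro e he
    obtain ⟨j, hj⟩ := Subgroup.mem_zpowers_iff.mp (F.hθgen (Units.mk0 c (F.χ_ne a1)))
    refine hn1 (e ^ j) ?_
    rw [← hj, he, ← zpow_natCast, ← zpow_mul, ← zpow_natCast, ← zpow_mul, mul_comm]
  obtain ⟨u, hu⟩ : ∃ u : K, (F.θ : K) = u ^ 2 * c := by
    obtain ⟨i, d, hd⟩ := exists_pow_mul_eq_pow Nat.prime_two hn1 F.θ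
    have hd' : c ^ i * (F.θ : K) = (d : K) ^ 2 := by
      have := congrArg Units.val hd
      simpa using this
    rcases Nat.even_or_odd' i with ⟨t, rfl | rfl⟩
    · exfalso
      refine hθns (d * (Units.mk0 c (F.χ_ne a1) ^ t)⁻¹) ?_
      rw [mul_pow, ← hd, inv_pow, ← pow_mul, mul_comm t 2]
      exact (mul_inv_cancel_comm _ _).symm
    · refine ⟨(d : K) / c ^ (t + 1), ?_⟩
      have hc := F.χ_ne a1
      rw [div_pow, ← hd', ← pow_mul]
      field_simp [hc]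
      ring_nf
      rw [inv_pow, inv_pow]
      field_simp
      rw [div_self]
      exact mul_ne_zero (F.χ_ne a1) (pow_ne_zero _ (F.χ_ne a1))
  have hu0 : u ≠ 0 := fun h => F.θ.ne_zero (by rw [hu, h]; ring)
  refine ⟨u • F.p • F.v, (F.Eig 0).smul_mem _ (F.Y_smul_mem F.hpY F.v_mem), fun g hgv hgz => ?_⟩
  have hginv := F.inv_fix hgv
  have huniq : ∀ a b : K, ∀ x : V, x ≠ 0 → a • x = b • x → a = b := fun a b x hx h => by
    rw [← sub_eq_zero, ← sub_smul, smul_eq_zero] at h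
    exact sub_eq_zero.mp (h.resolve_right hx)
  choose σ hσ using F.hsemi g
  choose σ' hσ' using F.hsemi g⁻¹
  have hσmul : ∀ a b, σ (a * b) = σ a * σ b := fun a b => huniq _ _ F.v F.hv (by
    have h1 := hσ (a * b) F.v
    rw [← smul_smul, hσ, hσ, hgv, smul_smul] at h1
    exact h1.symm)
  have hσ'mul : ∀ a b, σ' (a * b) = σ' a * σ' b := fun a b => huniq _ _ F.v F.hv (by
    have h1 := hσ' (a * b) F.v
    rw [← smul_smul, hσ', hσ', hginv, smul_smul] at h1
    exact h1.symm)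
  have hσσ : ∀ a, σ' (σ a) = a := fun a => huniq _ _ F.v F.hv (by
    calc σ' (σ a) • F.v = σ' (σ a) • g⁻¹ • F.v := by rw [hginv]
      _ = g⁻¹ • σ a • F.v := (hσ' _ _).symm
      _ = g⁻¹ • g • a • F.v := by rw [hσ, hgv]
      _ = a • F.v := inv_smul_smul g _)
  have hpv0 : F.p • F.v ≠ 0 := fun h => F.hv ((smul_eq_zero_iff_eq F.p).mp h)
  set q := g * F.p * g⁻¹ with hq
  have hqY : q ∈ F.Y := F.norm_Y hgv F.hpY
  have hgpv : g • F.p • F.v = q • F.v := by
    rw [hq, mul_smul, mul_smul, hginv]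
  have heq : σ u • q • F.v = u • F.p • F.v := by
    rw [← hgpv, ← hσ, hgz]
  have hσu : σ u ≠ 0 := fun h => by
    rw [h, zero_smul, eq_comm, smul_eq_zero] at heq
    exact hu0 (heq.resolve_right hpv0)
  have hqv : q • F.v = (u / σ u) • F.p • F.v := by
    rw [div_eq_inv_mul, ← smul_smul (σ u)⁻¹ u, ← heq, inv_smul_smul₀ hσu]
  set z : K := ((F.ι ⟨⁅q, F.p⁆, F.hN.comm q (F.hYN hqY) F.p F.hp⟩ : Kˣ) : K)
  have hz : z ^ 2 = 1 := F.ι_sq_one hqY F.hpY hsqp
  have hqp : ∀ x : V, q • F.p • x = z • F.p • q • x := fun x => by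
    rw [← F.hιv ⟨⁅q, F.p⁆, F.hN.comm q (F.hYN hqY) F.p F.hp⟩, ← mul_smul, ← mul_smul, ← mul_smul]
    congr 1
    show q * F.p = ⁅q, F.p⁆ * F.p * q
    simp only [commutatorElement_def]; group
  have hq2a : q • q • F.v = σ c • F.v := by
    have h1 : g • (F.p ^ 2) • F.v = σ c • F.v := by
      rw [show F.p ^ 2 • F.v = _ from F.χ_spec a1, hσ, hgv]
    rw [← h1, ← mul_smul]
    conv_rhs => rw [← hginv, ← mul_smul, ← mul_smul]
    rw [smul_eq_iff_eq_inv_smul, ← mul_smul, hq]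
    conv_lhs => rw [← one_smul H F.v]
    congr 1
    group
  have hq2b : q • q • F.v = (z * (u / σ u) ^ 2 * c) • F.v := by
    rw [hqv, F.hlN q (F.hYN hqY), hqp, hqv, F.hlN F.p F.hp, ← mul_smul F.p, ← pow_two,
      show F.p ^ 2 • F.v = _ from F.χ_spec a1, smul_smul, smul_smul, smul_smul]
    congr 1
    ring
  have hσθ : σ (F.θ : K) = z * (F.θ : K) := by
    have h1 := huniq _ _ F.v F.hv (hq2a.symm.trans hq2b)
    rw [hu, hσmul, pow_two, hσmul, h1]
    field_simp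
  have hz1 : z = 1 := by
    rcases sq_eq_one_iff.mp hz with h | h
    · exact h
    exfalso
    rw [h, neg_one_mul] at hσθ
    have hm1 : ∀ e : Kˣ, (-1 : Kˣ) ≠ e ^ 2 := fun e he => F.neg_one_not_square hpA (e : K) (by
      rw [← Units.val_pow_eq_pow_val, ← he, Units.val_neg, Units.val_one])
    obtain ⟨i, d, hd⟩ := exists_pow_mul_eq_pow Nat.prime_two hθns (-1 : Kˣ)
    rcases Nat.even_or_odd' i with ⟨t, rfl | rfl⟩
    · refine hm1 (d * (F.θ ^ t)⁻¹) ?_
      rw [mul_pow, ← hd, inv_pow, ← pow_mul, mul_comm t 2]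
      exact (mul_inv_cancel_comm _ _).symm
    · set e : K := (d : K) / (F.θ : K) ^ t with he
      have hd' : (F.θ : K) ^ (2 * t + 1) * (-1) = (d : K) ^ 2 := by
        have := congrArg Units.val hd
        simpa using this
      have hsq : -(F.θ : K) = e ^ 2 := by
        rw [he, div_pow, ← hd', ← pow_mul]
        field_simp
        ring
      have h2 : (F.θ : K) = σ' e ^ 2 := by
        rw [pow_two, ← hσ'mul, ← pow_two, ← hsq, ← hσθ, hσσ]
      have he0 : σ' e ≠ 0 := fun h0 => F.θ.ne_zero (by rw [h2, h0]; ring)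
      exact hθns (Units.mk0 _ he0) (Units.ext (by simpa using h2))
  have hgC : g ∈ Subgroup.centralizer (F.U : Set H) := by
    refine F.hθ g F.v F.hv hgv ?_
    rw [hσ, hgv, hσθ, hz1, one_mul]
  refine ⟨hgC, smul_right_injective V hu0 ?_⟩
  show u • g • F.p • F.v = u • F.p • F.v
  rw [← F.hlin g hgC, hgz]

theorem T_zero {g : H} (hgv : g • F.v = F.v) : F.Tfun g 0 = 0 := by
  have h := F.T_add hgv 0 0
  rw [add_zero] at h
  exact left_eq_add.mp h

theorem T_nsmul {g : H} (hgv : g • F.v = F.v) (m : ℕ) (x : F.X) :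
    F.Tfun g (m • x) = m • F.Tfun g x := by
  induction m with
  | zero => rw [zero_nsmul, zero_nsmul, F.T_zero hgv]
  | succ m ih => rw [succ_nsmul, succ_nsmul, F.T_add hgv, ih]

theorem T_ker {g : H} (hgv : g • F.v = F.v) {r : ℕ} {x : F.X} (hx : r • x = 0) :
    r • F.Tfun g x = 0 := by
  rw [← F.T_nsmul hgv, hx, F.T_zero hgv]

/-- The invariant of a component along the frame vector. -/
theorem J_inv {g : H} (hgv : g • F.v = F.v) (hgC : g ∈ Subgroup.centralizer (F.U : Set H))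
    {x : F.X} {r : ℕ} (hr : r.Prime) (hx : r • x = 0) {c c' : K} (hc' : c' ≠ 0)
    (heq : g • (F.sec x : H) • c • F.v = (F.sec (F.Tfun g x) : H) • c' • F.v) :
    c' ^ (if r = 2 then 4 else r) *
        (F.ι ⟨(F.sec (F.Tfun g x) : H) ^ r, F.sec_pow hr (F.T_ker hgv hx)⟩ : K) ^
          (if r = 2 then 2 else 1) =
      c ^ (if r = 2 then 4 else r) *
        (F.ι ⟨(F.sec x : H) ^ r, F.sec_pow hr hx⟩ : K) ^ (if r = 2 then 2 else 1) := by
  have hmem' : (F.sec (F.Tfun g x) : H) ^ r ∈ F.U := F.sec_pow hr (F.T_ker hgv hx)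
  set n' : H := ↑(F.sec (F.Tfun g x))
  set n : H := ↑(F.sec x)
  set η : H := n'⁻¹ * (g * n * g⁻¹) with hη
  have hηY : η ∈ F.Y := F.eta_mem g x
  have he : c • η • F.v = c' • F.v := by
    have h1 : g • n • c • F.v = n' • η • c • F.v := by
      rw [hη, ← mul_smul n', mul_inv_cancel_left, mul_smul, mul_smul,
        F.hlin g⁻¹ (Subgroup.inv_mem _ hgC), F.inv_fix hgv]
    rw [heq, smul_left_cancel_iff] at h1
    rw [← F.hlN η (F.hYN hηY), ← h1]
  have hc : c ≠ 0 := fun h => by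
    rw [h, zero_smul, eq_comm, smul_eq_zero] at he
    exact F.hv (he.resolve_left hc')
  have hηA : η ∈ F.A := ⟨F.hYN hηY, c⁻¹ * c', by rw [← smul_smul c⁻¹ c', ← he, inv_smul_smul₀ hc]⟩
  have hχ : F.χ ⟨η, hηA⟩ = c⁻¹ * c' :=
    (F.χ_eq ⟨η, hηA⟩ _ (by rw [← smul_smul c⁻¹ c', ← he, inv_smul_smul₀ hc])).symm
  have hn'N : n' ∈ F.N := (F.sec (F.Tfun g x)).2
  set w := ⁅η, n'⁆ with hw
  have hwU : w ∈ F.U := F.hN.comm η (F.hYN hηY) n' hn'N
  have hwc : ∀ m ∈ F.N, Commute w m := fun m hm => F.cenU hwU hm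
  have hpowbr : ∀ m : ℕ, ⁅η, n'⁆ ^ m = ⁅η, n' ^ m⁆ := by
    intro m
    induction m with
    | zero => rw [pow_zero, pow_zero, commutatorElement_one_right]
    | succ m ih => rw [pow_succ, pow_succ, F.brR (F.hYN hηY) (F.N.pow_mem hn'N m) hn'N, ih]
  have hwr : w ^ r = 1 := by
    rw [hw, hpowbr, commutatorElement_eq_one_iff_mul_comm]
    exact (F.cenU hmem' (F.hYN hηY)).symm
  have hgn : (g * n * g⁻¹) ^ r = n ^ r := by
    rw [conj_pow, ← Subgroup.mem_centralizer_iff.mp hgC _ (F.sec_pow hr hx), mul_inv_cancel_right]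
  have hmul := mul_pow_central (a := n') (b := η) (z := w)
    (by rw [hw]; simp only [commutatorElement_def]; group) (hwc n' hn'N) (hwc η (F.hYN hηY)) r
  rw [show n' * η = g * n * g⁻¹ by rw [hη, mul_inv_cancel_left], hgn] at hmul
  -- read the equation on the frame vector
  have hηpow : ∀ m : ℕ, η ^ m • F.v = (c⁻¹ * c') ^ m • F.v := by
    intro m
    induction m with
    | zero => rw [pow_zero, pow_zero, one_smul, one_smul]
    | succ m ih =>
      rw [pow_succ, mul_smul, show η • F.v = (c⁻¹ * c') • F.v from hχ ▸ F.χ_spec ⟨η, hηA⟩,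
        F.hlN _ (F.N.pow_mem (F.hYN hηY) m), ih, smul_smul, pow_succ, mul_comm]
  have h1 : (F.ι ⟨n ^ r, F.sec_pow hr hx⟩ : K) =
      (F.ι ⟨w, hwU⟩ : K) ^ r.choose 2 * ((F.ι ⟨n' ^ r, hmem'⟩ : K) * (c⁻¹ * c') ^ r) := by
    have h2 : (n ^ r) • F.v = (w ^ r.choose 2 * n' ^ r * η ^ r) • F.v := by rw [hmul]
    rw [show (n ^ r) • F.v = _ from F.hιv ⟨n ^ r, F.sec_pow hr hx⟩ F.v, mul_smul, hηpow, mul_smul,
      F.hlN _ (F.N.pow_mem hn'N r), show (n' ^ r) • F.v = _ from F.hιv ⟨n' ^ r, hmem'⟩ F.v,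
      smul_smul, show ∀ y : V, (w ^ r.choose 2) • y = _ from
        fun y => F.hιv (⟨w, hwU⟩ ^ r.choose 2) y, smul_smul, ← sub_eq_zero, ← sub_smul,
      smul_eq_zero] at h2
    have := sub_eq_zero.mp (h2.resolve_right F.hv)
    rw [this, map_pow, Units.val_pow_eq_pow_val]
    ring
  have hwK : (F.ι ⟨w, hwU⟩ : K) ^ r = 1 := by
    rw [← Units.val_pow_eq_pow_val, ← map_pow, show (⟨w, hwU⟩ : F.U) ^ r = 1 from Subtype.ext hwr,
      map_one, Units.val_one]
  by_cases h2 : r = 2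
  · subst h2
    simp only [if_true]
    rw [Nat.choose_self, pow_one] at h1
    rw [h1, mul_pow, mul_pow, hwK, one_mul, mul_pow, inv_pow]
    field_simp
    first | rfl | skip
  · simp only [if_neg h2, pow_one]
    obtain ⟨t, ht⟩ := hr.dvd_choose_self (k := 2) (by norm_num)
      (lt_of_le_of_ne hr.two_le (Ne.symm h2))
    rw [ht, pow_mul, hwK, one_pow, one_mul] at h1
    rw [h1, mul_pow, inv_pow]
    field_simp
    first | rfl | skip

end FD

end Cfsg.Agent.BT62
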