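import Mathlib
import Cfsg.Agent.BT62.Phase
import Cfsg.Agent.BT62.Colour
import Cfsg.Agent.BT62.ColourData
import Cfsg.Agent.BT62.Count

/-!
# A regular pair from coloured components
-/

set_option autoImplicit false

namespace Cfsg.Agent.BT62

open scoped commutatorElement
open BC85.BaseTwo BC85.BaseThree

theorem Colourable.mono {r D m n : ℕ} (h : Colourable r D m) (hmn : m ≤ n) : Colourable r D n := by
  obtain ⟨col, h1, h2⟩ := h
  exact ⟨col, fun x => (h1 x).trans hmn, h2⟩

/-- The colourings available in characteristic two of the index set. -/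
theorem colourable_two {D n : ℕ} (hn : 1 ≤ n)
    (h : 2 ≤ D → D ≤ 4 → (D = 4 ∧ 2 ≤ n) ∨ 3 ≤ n) : Colourable 2 D n := by
  rcases Nat.lt_or_ge D 2 with hD | hD
  · interval_cases D
    · exact colourable_zero n
    · exact colourable_two_one.mono hn
  rcases Nat.lt_or_ge D 5 with hD' | hD'
  · have := h hD (by omega)
    interval_cases D
    · exact colourable_two_three.mono (by omega)
    · exact colourable_three_three.mono (by omega)
    · exact colourable_four_two.mono (by omega)
  rcases Nat.lt_or_ge D 8 with hD'' | hD''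
  · interval_cases D
    · exact colourable_five.mono hn
    · exact colourable_six.mono hn
    · exact colourable_seven.mono hn
  exact (colourable_large hD'').mono hn

variable {H V K : Type} [Group H] [Finite H] [AddCommGroup V] [DistribMulAction H V] [Field K]
  [Finite K] [Module K V] (F : FD H V K)

namespace FD

/-- The classes killed by `r`. -/
def Xr (r : ℕ) : AddSubgroup F.X where
  carrier := {x | r • x = 0}
  zero_mem' := nsmul_zero r
  add_mem' := fun {a b} ha hb => by
    show r • (a + b) = 0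
    rw [nsmul_add, ha, hb, add_zero]
  neg_mem' := fun {a} ha => by
    show r • (-a) = 0
    rw [neg_nsmul, ha, neg_zero]

theorem exists_coord {r : ℕ} (hr : r.Prime) :
    ∃ D : ℕ, Nonempty (F.Xr r ≃+ (Fin D → ZMod r)) := by
  haveI : Fact r.Prime := ⟨hr⟩
  haveI : Finite F.X := inferInstanceAs (Finite (Additive (F.N ⧸ F.Y.subgroupOf F.N)))
  letI : Module (ZMod r) ↥(F.Xr r) :=
    AddCommGroup.zmodModule (n := r) (G := ↥(F.Xr r)) (fun x => Subtype.ext x.2)
  haveI hf : Finite ↥(F.Xr r) := inferInstance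
  exact ⟨Module.finrank (ZMod r) ↥(F.Xr r), ⟨(Module.finBasis (ZMod r) ↥(F.Xr r)).equivFun.toAddEquiv⟩⟩

theorem prime_eq {r r' : ℕ} (hr : r.Prime) (hr' : r'.Prime) {x : F.X} (hx : x ≠ 0) (h : r • x = 0)
    (h' : r' • x = 0) : r = r' := by
  have h1 : addOrderOf x ∣ Nat.gcd r r' :=
    Nat.dvd_gcd (addOrderOf_dvd_of_nsmul_eq_zero h) (addOrderOf_dvd_of_nsmul_eq_zero h')
  by_contra hne
  rw [(Nat.coprime_primes hr hr').mpr hne, Nat.dvd_one, AddMonoid.addOrderOf_eq_one_iff] at h1
  exact hx h1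

theorem closure_Xr : ∀ x : F.X,
    x ∈ AddSubgroup.closure {y : F.X | ∃ r : ℕ, r.Prime ∧ r • y = 0} := by
  intro x
  obtain ⟨e, he0, hesf, heU⟩ := exists_squarefree F.U F.hN (F.sec x).2
  have hex : e • x = 0 := by
    rw [← F.cls_sec x, ← cls_pow, cls_eq_zero, SubgroupClass.coe_pow]
    exact F.hUY heU
  clear heU he0
  induction e using Nat.strong_induction_on generalizing x with
  | _ e ih =>
    rcases eq_or_ne e 1 with rfl | he
    · rw [one_nsmul] at hex
      rw [hex]
      exact AddSubgroup.zero_mem _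
    obtain ⟨r, hr, t, rfl⟩ : ∃ r : ℕ, r.Prime ∧ ∃ t, e = r * t :=
      ⟨e.minFac, Nat.minFac_prime he, Nat.minFac_dvd e⟩
    have hrt : r.Coprime t := hr.coprime_iff_not_dvd.mpr fun h =>
      hr.ne_one (Nat.isUnit_iff.mp (hesf r (mul_dvd_mul_left r h)))
    have ht0 : t ≠ 0 := fun h => hesf.ne_zero (by rw [h, mul_zero])
    have htlt : t < r * t := lt_mul_left (Nat.pos_of_ne_zero ht0) hr.one_lt
    have h1 : x = (Nat.gcdA r t) • (r • x) + (Nat.gcdB r t) • (t • x) := by
      have h := Nat.gcd_eq_gcd_ab r t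
      rw [hrt] at h
      rw [← natCast_zsmul x r, ← natCast_zsmul x t, smul_smul, smul_smul, ← add_zsmul,
        mul_comm (Nat.gcdA r t), mul_comm (Nat.gcdB r t), ← h, Nat.cast_one, one_zsmul]
    rw [h1]
    refine AddSubgroup.add_mem _ (AddSubgroup.zsmul_mem _ ?_ _) (AddSubgroup.zsmul_mem _
      (AddSubgroup.subset_closure (show t • x ∈ {y : F.X | ∃ r : ℕ, r.Prime ∧ r • y = 0} from
        ⟨r, hr, by rw [smul_smul, hex]⟩)) _)
    refine ih t htlt (r • x) hesf.of_mul_right ?_
    rw [smul_smul, mul_comm, hex]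

/-- The exponent used at a prime. -/
def Lr (r : ℕ) : ℕ := if r = 2 then 4 else r

/-- Enough colours at every prime give a regular pair. -/
theorem exists_pair_generic [FaithfulSMul H V]
    (hcol : ∀ (r D : ℕ), r.Prime → Nonempty (F.Xr r ≃+ (Fin D → ZMod r)) →
      Colourable r D (Nat.card (powMonoidHom (Lr r) : Kˣ →* Kˣ).range)) :
    ∃ x y : V, ∀ g : H, g • x = x → g • y = y → g = 1 := by
  classical
  haveI : Finite F.X := inferInstanceAs (Finite (Additive (F.N ⧸ F.Y.subgroupOf F.N)))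
  haveI : Fintype F.X := Fintype.ofFinite _
  choose D hD using fun r : {r : ℕ // r.Prime} => F.exists_coord r.2
  let e := fun r : {r : ℕ // r.Prime} => (hD r).some
  choose col hcn hrig hrich using fun r : {r : ℕ // r.Prime} => hcol r.1 (D r) r.2 (hD r)
  let col' : F.X → ℕ := fun x =>
    if h : x ≠ 0 ∧ ∃ r : ℕ, r.Prime ∧ r • x = 0 then
      col ⟨h.2.choose, h.2.choose_spec.1⟩ (e ⟨h.2.choose, h.2.choose_spec.1⟩ ⟨x, h.2.choose_spec.2⟩)
    else 0
  have hc' : ∀ (r : {r : ℕ // r.Prime}) (y : F.Xr r.1), y ≠ 0 → col' y = col r (e r y) := by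
    intro r y hy
    have hy' : (y : F.X) ≠ 0 := fun h => hy (Subtype.ext h)
    have h : (y : F.X) ≠ 0 ∧ ∃ r : ℕ, r.Prime ∧ r • (y : F.X) = 0 := ⟨hy', r.1, r.2, y.2⟩
    show dite _ _ _ = _
    rw [dif_pos h]
    have key : ∀ (r' : {r : ℕ // r.Prime}) (q : r'.1 • (y : F.X) = 0), r' = r →
        col r' (e r' ⟨y, q⟩) = col r (e r y) := by
      rintro r' q rfl; rfl
    exact key _ _ (Subtype.ext (F.prime_eq h.2.choose_spec.1 r.2 hy' h.2.choose_spec.2 y.2))
  -- the targets
  let P := fun r : {r : ℕ // r.Prime} => (powMonoidHom (Lr r.1) : Kˣ →* Kˣ).range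
  choose gen hgen using fun r : {r : ℕ // r.Prime} => IsCyclic.exists_generator (α := P r)
  have hgord : ∀ r, orderOf (gen r) = Nat.card (P r) := fun r =>
    orderOf_eq_card_of_forall_mem_zpowers (hgen r)
  let u : ∀ (r : {r : ℕ // r.Prime}), F.Xr r.1 → Kˣ := fun r y =>
    F.ι ⟨(F.sec y.1 : H) ^ r.1, F.sec_pow r.2 y.2⟩ ^ (if r.1 = 2 then 2 else 1)
  let tgt : ∀ (r : {r : ℕ // r.Prime}), F.Xr r.1 → Kˣ := fun r y =>
    (QuotientGroup.mk' (P r) (u r y)).out * ((gen r ^ (col' y.1 - 1) : P r) : Kˣ)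
  have htgt : ∀ r y, ∃ c : Kˣ, c ^ Lr r.1 * u r y = tgt r y := by
    intro r y
    have : tgt r y / u r y ∈ P r := by
      rw [← QuotientGroup.eq_one_iff, ← QuotientGroup.mk'_apply, map_div, map_mul]
      rw [show QuotientGroup.mk' (P r) (QuotientGroup.mk' (P r) (u r y)).out =
          QuotientGroup.mk' (P r) (u r y) from Quotient.out_eq _,
        show QuotientGroup.mk' (P r) ((gen r ^ (col' y.1 - 1) : P r) : Kˣ) = 1 from
          (QuotientGroup.eq_one_iff _).mpr (gen r ^ (col' y.1 - 1) : P r).2, mul_one, div_self']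
    obtain ⟨c, hc⟩ := this
    exact ⟨c, by rw [show c ^ Lr r.1 = tgt r y / u r y from hc, div_mul_cancel]⟩
  choose cc hcc using htgt
  let cf : F.X → K := fun x =>
    if h : x ≠ 0 ∧ col' x ≠ 0 ∧ ∃ r : ℕ, r.Prime ∧ r • x = 0 then
      (cc ⟨h.2.2.choose, h.2.2.choose_spec.1⟩ ⟨x, h.2.2.choose_spec.2⟩ : K)
    else 0
  have hcf : ∀ (r : {r : ℕ // r.Prime}) (y : F.Xr r.1), y ≠ 0 → col' y ≠ 0 →
      cf y = (cc r y : K) := by
    intro r y hy hc
    have hy' : (y : F.X) ≠ 0 := fun h => hy (Subtype.ext h)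
    have h : (y : F.X) ≠ 0 ∧ col' y ≠ 0 ∧ ∃ r : ℕ, r.Prime ∧ r • (y : F.X) = 0 :=
      ⟨hy', hc, r.1, r.2, y.2⟩
    show dite _ _ _ = _
    rw [dif_pos h]
    have key : ∀ (r' : {r : ℕ // r.Prime}) (q : r'.1 • (y : F.X) = 0), r' = r →
        (cc r' ⟨y, q⟩ : K) = (cc r y : K) := by
      rintro r' q rfl; rfl
    exact key _ _ (Subtype.ext (F.prime_eq h.2.2.choose_spec.1 r.2 hy' h.2.2.choose_spec.2 y.2))
  have hcf0 : ∀ x, x ≠ 0 → col' x ≠ 0 → cf x ≠ 0 := by
    intro x hx hc
    have h : x ≠ 0 ∧ ∃ r : ℕ, r.Prime ∧ r • x = 0 := by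
      by_contra h
      exact hc (dif_neg h)
    obtain ⟨r, hr, hrx⟩ := h.2
    rw [show cf x = cf ((⟨x, hrx⟩ : F.Xr r) : F.X) from rfl,
      hcf ⟨r, hr⟩ ⟨x, hrx⟩ (fun h' => hx (congrArg Subtype.val h')) hc]
    exact Units.ne_zero _
  obtain ⟨z0, hz0, hz0'⟩ := F.exists_origin
  let w : F.X → V := fun x => if x = 0 then z0 else cf x • F.v
  refine ⟨F.v, ∑ x, (F.sec x : H) • w x, fun g hgv hgy => ?_⟩
  have hwm : ∀ x, w x ∈ F.Eig 0 := fun x => by
    show ite _ _ _ ∈ _
    split
    · exact hz0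
    · exact (F.Eig 0).smul_mem _ F.v_mem
  have hcomp := F.fix_comp hgv w hwm hgy
  have hT0 := F.T_zero hgv
  have h0 := hcomp 0
  rw [hT0, F.sec_zero, OneMemClass.coe_one, one_smul] at h0
  have hw0 : w 0 = z0 := if_pos rfl
  rw [hw0] at h0
  obtain ⟨hgC, hgp⟩ := hz0' g hgv h0
  have hTne : ∀ x, x ≠ 0 → F.Tfun g x ≠ 0 := fun x hx h => hx (F.T_inj hgv (h.trans hT0.symm))
  have hne : ∀ (a : H) (k : K), k ≠ 0 → a • k • F.v ≠ 0 := fun a k hk h => by
    rw [smul_eq_zero_iff_eq, smul_eq_zero] at h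
    exact F.hv (h.resolve_left hk)
  have hcompx : ∀ x, x ≠ 0 →
      g • (F.sec x : H) • cf x • F.v = (F.sec (F.Tfun g x) : H) • cf (F.Tfun g x) • F.v := fun x hx => by
    have h := hcomp x
    simp only [w, if_neg hx, if_neg (hTne x hx)] at h
    exact h
  have hcfz : ∀ x, x ≠ 0 → (cf x = 0 ↔ col' x = 0) := fun x hx =>
    ⟨fun h => by_contra fun hc => hcf0 x hx hc h, fun h => dif_neg fun h' => h'.2.1 h⟩
  have hpres : ∀ (r : {r : ℕ // r.Prime}) (y : F.Xr r.1), y ≠ 0 →
      col' (F.Tfun g y) = col' y := by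
    intro r y hy
    have hy' : (y : F.X) ≠ 0 := fun h => hy (Subtype.ext h)
    have h := hcompx y hy'
    by_cases hc : col' y = 0
    · rw [(hcfz _ hy').mpr hc, zero_smul, smul_zero, smul_zero, eq_comm] at h
      rw [hc, ← hcfz _ (hTne _ hy')]
      by_contra hne'
      exact hne _ _ hne' h
    have hcT : col' (F.Tfun g y) ≠ 0 := fun h0 => by
      rw [(hcfz _ (hTne _ hy')).mpr h0, zero_smul, smul_zero, smul_eq_zero_iff_eq] at h
      exact hne _ _ (hcf0 _ hy' hc) h
    set y' : F.Xr r.1 := ⟨F.Tfun g y, F.T_ker hgv y.2⟩ with hy'def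
    have hy'0 : y' ≠ 0 := fun h => hTne _ hy' (congrArg Subtype.val h)
    rw [hcf r y hy hc, show cf (F.Tfun g y) = (cc r y' : K) from hcf r y' hy'0 hcT] at h
    have hJ := F.J_inv hgv hgC r.2 y.2 (Units.ne_zero _) h
    have hJ' : tgt r y' = tgt r y := by
      rw [← hcc r y', ← hcc r y]
      apply Units.ext
      simp only [u, Units.val_mul, Units.val_pow_eq_pow_val, Lr]
      exact hJ
    have hmk : QuotientGroup.mk' (P r) (u r y') = QuotientGroup.mk' (P r) (u r y) := by
      have h1 := congrArg (QuotientGroup.mk' (P r)) hJ'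
      simp only [tgt, map_mul] at h1
      rwa [show QuotientGroup.mk' (P r) ((gen r ^ (col' y'.1 - 1) : P r) : Kˣ) = 1 from
          (QuotientGroup.eq_one_iff _).mpr (gen r ^ (col' y'.1 - 1) : P r).2,
        show QuotientGroup.mk' (P r) ((gen r ^ (col' y.1 - 1) : P r) : Kˣ) = 1 from
          (QuotientGroup.eq_one_iff _).mpr (gen r ^ (col' y.1 - 1) : P r).2, mul_one, mul_one,
        show QuotientGroup.mk' (P r) (QuotientGroup.mk' (P r) (u r y')).out =
          QuotientGroup.mk' (P r) (u r y') from Quotient.out_eq _,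
        show QuotientGroup.mk' (P r) (QuotientGroup.mk' (P r) (u r y)).out =
          QuotientGroup.mk' (P r) (u r y) from Quotient.out_eq _] at h1
    simp only [tgt, hmk] at hJ'
    have h2 : gen r ^ (col' y'.1 - 1) = gen r ^ (col' y.1 - 1) := Subtype.ext (mul_left_cancel hJ')
    have hb : ∀ y : F.Xr r.1, y ≠ 0 → col' y.1 ≤ orderOf (gen r) := fun y hy => by
      rw [hgord, hc' r y hy]
      exact hcn r _
    have hlt : ∀ a b : ℕ, a ≤ b → a ≠ 0 → a - 1 < b := fun a b h1 h2 => by omega
    have h3 : col' y'.1 - 1 = col' y.1 - 1 :=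
      pow_injOn_Iio_orderOf (hlt _ _ (hb y' hy'0) hcT) (hlt _ _ (hb y hy) hc) h2
    have h4 : col' y'.1 ≠ 0 := hcT
    show col' y'.1 = col' y.1
    omega
  have hTid : ∀ (r : {r : ℕ // r.Prime}) (y : F.Xr r.1), F.Tfun g y = y := by
    intro r y
    let Tr : F.Xr r.1 →+ F.Xr r.1 := AddMonoidHom.mk' (fun y => ⟨F.Tfun g y, F.T_ker hgv y.2⟩)
      fun a b => Subtype.ext (F.T_add hgv a b)
    let T' : (Fin (D r) → ZMod r.1) →+ (Fin (D r) → ZMod r.1) :=
      ((e r).toAddMonoidHom.comp Tr).comp (e r).symm.toAddMonoidHom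
    have hTr : Function.Injective Tr := fun a b h =>
      Subtype.ext (F.T_inj hgv (congrArg Subtype.val h))
    have hT' : Function.Injective T' := (e r).injective.comp (hTr.comp (e r).symm.injective)
    have h := hrig r T' hT' (fun x hx => by
      have hy : (e r).symm x ≠ 0 := fun h => hx (by simpa using congrArg (e r) h)
      have hy2 : Tr ((e r).symm x) ≠ 0 := fun h => hy (hTr (h.trans (map_zero Tr).symm))
      have h1 := hc' r _ hy2
      rw [show ((Tr ((e r).symm x) : F.Xr r.1) : F.X) = F.Tfun g ((e r).symm x) from rfl,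
        hpres r _ hy, hc' r _ hy, (e r).apply_symm_apply] at h1
      exact h1.symm) (e r y)
    have h' : e r (Tr ((e r).symm (e r y))) = e r y := h
    rw [(e r).symm_apply_apply] at h'
    exact congrArg Subtype.val ((e r).injective h')
  let S : Set F.X := {x | x ≠ 0 ∧ col' x ≠ 0}
  have hS : ∀ (r : {r : ℕ // r.Prime}) (x : Fin (D r) → ZMod r.1), x ∈ supp (col r) →
      ((e r).symm x : F.X) ∈ S := by
    intro r x hx
    have hy : (e r).symm x ≠ 0 := fun h => hx.1 (by simpa using congrArg (e r) h)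
    refine ⟨fun h => hy (Subtype.ext h), ?_⟩
    rw [hc' r _ hy, (e r).apply_symm_apply]
    exact hx.2
  have hgenS : AddSubgroup.closure S = ⊤ := by
    rw [eq_top_iff]
    intro x _
    refine (AddSubgroup.closure_le _).mpr ?_ (F.closure_Xr x)
    rintro y ⟨r, hr, hry⟩
    obtain ⟨G, hG, hGtop, -⟩ := hrich ⟨r, hr⟩
    have key : ∀ z, z ∈ AddSubgroup.closure G →
        ((e ⟨r, hr⟩).symm z : F.X) ∈ AddSubgroup.closure S := fun z hz => by
      induction hz using AddSubgroup.closure_induction with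
      | mem w hw => exact AddSubgroup.subset_closure (hS _ w (hG hw))
      | zero => rw [map_zero]; exact AddSubgroup.zero_mem _
      | add a b _ _ ha hb => rw [map_add]; exact AddSubgroup.add_mem _ ha hb
      | neg a _ ha => rw [map_neg]; exact AddSubgroup.neg_mem _ ha
    have := key (e ⟨r, hr⟩ ⟨y, hry⟩) (hGtop ▸ AddSubgroup.mem_top _)
    rwa [AddEquiv.symm_apply_apply] at this
  refine F.eq_one hgv hgC hgp S hgenS ?_ ?_
  · intro B hBl hBr hBS
    have b0l : ∀ b, B 0 b = 1 := fun b => by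
      have := hBl 0 0 b; rw [add_zero] at this; exact left_eq_mul.mp this
    have b0r : ∀ a, B a 0 = 1 := fun a => by
      have := hBr a 0 0; rw [add_zero] at this; exact left_eq_mul.mp this
    have bnl : ∀ (k : ℕ) (a b : F.X), B (k • a) b = B a b ^ k := fun k a b => by
      induction k with
      | zero => rw [zero_nsmul, b0l, pow_zero]
      | succ k ih => rw [succ_nsmul, hBl, ih, pow_succ]
    have bnr : ∀ (k : ℕ) (a b : F.X), B a (k • b) = B a b ^ k := fun k a b => by
      induction k with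
      | zero => rw [zero_nsmul, b0r, pow_zero]
      | succ k ih => rw [succ_nsmul, hBr, ih, pow_succ]
    let kerR : F.X → AddSubgroup F.X := fun a =>
      { carrier := {b | B a b = 1}
        zero_mem' := b0r a
        add_mem' := fun {b b'} h h' => by
          show B a (b + b') = 1
          rw [hBr, h, h', one_mul]
        neg_mem' := fun {b} h => by
          show B a (-b) = 1
          have := hBr a b (-b)
          rw [add_neg_cancel, b0r, h, one_mul] at this
          exact this.symm }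
    let kerL : F.X → AddSubgroup F.X := fun b =>
      { carrier := {a | B a b = 1}
        zero_mem' := b0l b
        add_mem' := fun {a a'} h h' => by
          show B (a + a') b = 1
          rw [hBl, h, h', one_mul]
        neg_mem' := fun {a} h => by
          show B (-a) b = 1
          have := hBl a (-a) b
          rw [add_neg_cancel, b0l, h, one_mul] at this
          exact this.symm }
    have hcross : ∀ r r' : ℕ, r.Prime → r'.Prime → r ≠ r' → ∀ a b : F.X, r • a = 0 → r' • b = 0 →
        B a b = 1 := fun r r' hr hr' hne a b ha hb => by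
      have h1 : B a b ^ r = 1 := by rw [← bnl, ha, b0l]
      have h2 : B a b ^ r' = 1 := by rw [← bnr, hb, b0r]
      have h3 := pow_gcd_eq_one.mpr ⟨h1, h2⟩
      rwa [(Nat.coprime_primes hr hr').mpr hne, pow_one] at h3
    have hsame : ∀ (r : {r : ℕ // r.Prime}) (a b : F.Xr r.1), B a b = 1 := by
      intro r a b
      obtain ⟨G, hG, hGtop, hpart⟩ := hrich r
      have hGb : ∀ w ∈ G, B ((e r).symm w : F.X) b = 1 := by
        intro w hw
        have key : ∀ z, z ∈ AddSubgroup.closure {m | m ∈ supp (col r) ∧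
            (w + m ∈ supp (col r) ∨ w + m = 0)} →
            ((e r).symm z : F.X) ∈ kerR ((e r).symm w : F.X) := fun z hz => by
          induction hz using AddSubgroup.closure_induction with
          | mem m hm =>
            refine hBS _ (hS r w (hG hw)) _ (hS r m hm.1) ?_
            rcases hm.2 with h | h
            · left
              rw [← AddSubgroup.coe_add, ← map_add]
              exact hS r _ h
            · right
              rw [← AddSubgroup.coe_add, ← map_add, h, map_zero]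
              rfl
          | zero => rw [map_zero]; exact AddSubgroup.zero_mem _
          | add a b _ _ ha hb => rw [map_add]; exact AddSubgroup.add_mem _ ha hb
          | neg a _ ha => rw [map_neg]; exact AddSubgroup.neg_mem _ ha
        have := key (e r b) (hpart w hw ▸ AddSubgroup.mem_top _)
        rw [AddEquiv.symm_apply_apply] at this
        exact this
      have key : ∀ z, z ∈ AddSubgroup.closure G → ((e r).symm z : F.X) ∈ kerL (b : F.X) :=
        fun z hz => by
          induction hz using AddSubgroup.closure_induction with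
          | mem m hm => exact hGb m hm
          | zero => rw [map_zero]; exact AddSubgroup.zero_mem _
          | add a b _ _ ha hb => rw [map_add]; exact AddSubgroup.add_mem _ ha hb
          | neg a _ ha => rw [map_neg]; exact AddSubgroup.neg_mem _ ha
      have := key (e r a) (hGtop ▸ AddSubgroup.mem_top _)
      rw [AddEquiv.symm_apply_apply] at this
      exact this
    intro a b
    refine (AddSubgroup.closure_le (kerL b)).mpr ?_ (F.closure_Xr a)
    rintro a' ⟨r, hr, ha'⟩
    refine (AddSubgroup.closure_le (kerR a')).mpr ?_ (F.closure_Xr b)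
    rintro b' ⟨r', hr', hb'⟩
    rcases eq_or_ne r r' with rfl | hne
    · exact hsame ⟨r, hr⟩ ⟨a', ha'⟩ ⟨b', hb'⟩
    · exact hcross r r' hr hr' hne a' b' ha' hb'
  · rintro x ⟨hx, hc⟩
    have h : x ≠ 0 ∧ ∃ r : ℕ, r.Prime ∧ r • x = 0 := by
      by_contra h; exact hc (dif_neg h)
    obtain ⟨r, hr, hrx⟩ := h.2
    have hT : F.Tfun g x = x := hTid ⟨r, hr⟩ ⟨x, hrx⟩
    have h2 := hcompx x hx
    rw [hT, F.hlN _ (F.sec x).2, F.hlin g hgC] at h2
    exact smul_right_injective V (hcf0 x hx hc) h2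

end FD

end Cfsg.Agent.BT62
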