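import Mathlib
import Cfsg.Agent.BT62.Generic

/-!
# Counting colours
-/

set_option autoImplicit false

namespace Cfsg.Agent.BT62

open scoped commutatorElement
open BC85.BaseTwo BC85.BaseThree

section Range

variable {K : Type} [Field K] [Finite K]

theorem card_range_pow (L : ℕ) :
    Nat.card (powMonoidHom L : Kˣ →* Kˣ).range = (Nat.card K - 1) / Nat.gcd (Nat.card K - 1) L := by
  rw [← Nat.card_units K]
  exact IsCyclic.card_powMonoidHom_range Kˣ L

theorem two_le_range (hchar : (2 : K) ≠ 0) {r : ℕ} (hr : r.Prime) (hr2 : r ≠ 2) :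
    2 ≤ Nat.card (powMonoidHom r : Kˣ →* Kˣ).range := by
  have hodd : Odd r := hr.odd_of_ne_two hr2
  have hne : (-1 : Kˣ) ≠ 1 := fun h => hchar (by
    have := congrArg Units.val h
    rw [Units.val_neg, Units.val_one] at this
    linear_combination -this)
  exact Finite.one_lt_card_iff_nontrivial.mpr
    ⟨⟨1, ⟨1, one_pow r⟩⟩, ⟨-1, ⟨-1, hodd.neg_one_pow⟩⟩, fun h => hne (congrArg Subtype.val h).symm⟩

/-- The fields with few fourth powers. -/
theorem range_four (hchar : (2 : K) ≠ 0) (h5 : Nat.card K ≠ 5) (h3 : Nat.card K ≠ 3) :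
    2 ≤ Nat.card (powMonoidHom 4 : Kˣ →* Kˣ).range ∧
      (Nat.card K ≠ 9 → 3 ≤ Nat.card (powMonoidHom 4 : Kˣ →* Kˣ).range) := by
  rw [card_range_pow]
  haveI := Fintype.ofFinite K
  have hodd : Nat.card K % 2 = 1 := by
    rw [Nat.card_eq_fintype_card]
    exact FiniteField.odd_card_of_char_ne_two fun h => hchar (by
      haveI := ringChar.of_eq h
      exact CharTwo.two_eq_zero)
  have h1 : 1 < Nat.card K := Finite.one_lt_card
  rcases Nat.lt_or_ge (Nat.card K) 13 with hlt | hge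
  · interval_cases hq : Nat.card K <;> first | omega | exact ⟨by decide, fun h => by first | omega | decide⟩
  · have hle : Nat.gcd (Nat.card K - 1) 4 ≤ 4 := Nat.gcd_le_right _ (by norm_num)
    have h4 : 3 ≤ (Nat.card K - 1) / 4 := by omega
    have := Nat.div_le_div_left (a := Nat.card K - 1) hle (Nat.gcd_pos_of_pos_right _ (by norm_num))
    exact ⟨by omega, fun _ => by omega⟩

end Range

variable {H V K : Type} [Group H] [Finite H] [AddCommGroup V] [DistribMulAction H V] [Field K]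
  [Finite K] [Module K V] (F : FD H V K)

namespace FD

omit [Finite K] in
theorem exists_pairing_ne {x : F.X} (hx : x ≠ 0) : ∃ a : F.A, F.ψ (F.sec x) a ≠ 1 := by
  by_contra h
  push Not at h
  refine hx ?_
  rw [← F.cls_sec x, ← F.cls_one]
  refine F.ψ_inj fun a => ?_
  rw [h a]
  refine ((?_ : F.ψ 1 a = 1)).symm
  show F.ι _ = 1
  rw [← map_one F.ι]
  congr 1
  apply Subtype.ext
  show ⁅(a : H), ((1 : F.N) : H)⁆ = 1
  rw [OneMemClass.coe_one, commutatorElement_one_right]

omit [Finite K] in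
theorem pairing_pow {x : F.X} {r : ℕ} (hr : r.Prime) (hx : r • x = 0) (a : F.A) :
    F.ψ (F.sec x) a ^ r = 1 := by
  show F.ι _ ^ r = 1
  rw [← map_pow, ← map_one F.ι]
  congr 1
  apply Subtype.ext
  show ⁅(a : H), (F.sec x : H)⁆ ^ r = 1
  have hpow : ∀ m : ℕ, ⁅(a : H), (F.sec x : H)⁆ ^ m = ⁅(a : H), (F.sec x : H) ^ m⁆ := by
    intro m
    induction m with
    | zero => rw [pow_zero, pow_zero, commutatorElement_one_right]
    | succ m ih =>
      rw [pow_succ, pow_succ, F.brR (F.hAN a.2) (F.N.pow_mem (F.sec x).2 m) (F.sec x).2, ih]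
  rw [hpow, commutatorElement_eq_one_iff_mul_comm]
  exact (F.cenU (F.sec_pow hr hx) (F.hAN a.2)).symm

theorem prime_dvd {x : F.X} (hx : x ≠ 0) {r : ℕ} (hr : r.Prime) (hrx : r • x = 0) :
    r ∣ Nat.card K - 1 := by
  haveI : Fact r.Prime := ⟨hr⟩
  obtain ⟨a, ha⟩ := F.exists_pairing_ne hx
  rw [← orderOf_eq_prime (F.pairing_pow hr hrx a) ha, ← Nat.card_units K]
  exact orderOf_dvd_natCard _

/-- Outside a few small cases the frame gives a regular pair. -/
theorem exists_pair_or_small [FaithfulSMul H V] (hchar : (2 : K) ≠ 0) :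
    (∃ x y : V, ∀ g : H, g • x = x → g • y = y → g = 1) ∨
      ∃ D, Nonempty (F.Xr 2 ≃+ (Fin D → ZMod 2)) ∧ 2 ≤ D ∧ D ≤ 4 ∧ (∀ x : F.X, 2 • x = 0) ∧
        (Nat.card K = 3 ∨ Nat.card K = 5 ∨ (Nat.card K = 9 ∧ D ≤ 3)) := by
  obtain ⟨D, hD⟩ := F.exists_coord Nat.prime_two
  by_cases hc : 2 ≤ D ∧ D ≤ 4 ∧ (Nat.card K = 3 ∨ Nat.card K = 5 ∨ (Nat.card K = 9 ∧ D ≤ 3))
  · right
    obtain ⟨h1, h2, h3⟩ := hc
    refine ⟨D, hD, h1, h2, fun x => ?_, h3⟩
    refine (AddSubgroup.closure_le (F.Xr 2)).mpr ?_ (F.closure_Xr x)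
    rintro y ⟨r, hr, hry⟩
    rcases eq_or_ne y 0 with rfl | hy
    · exact (F.Xr 2).zero_mem
    have hdvd := F.prime_dvd hy hr hry
    have : r ∣ 2 ^ 3 := by
      rcases h3 with h | h | ⟨h, -⟩ <;> rw [h] at hdvd
      · exact hdvd.trans (by norm_num)
      · exact hdvd.trans (by norm_num)
      · exact hdvd
    rw [← (Nat.prime_dvd_prime_iff_eq hr Nat.prime_two).mp (hr.dvd_of_dvd_pow this)]
    exact hry
  left
  refine F.exists_pair_generic fun r D' hr hD' => ?_
  by_cases hr2 : r = 2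
  · subst hr2
    have hDD : D' = D := by
      have := Nat.card_congr ((hD'.some.symm.trans hD.some).toEquiv)
      simp only [Nat.card_fun, Nat.card_zmod, Nat.card_fin] at this
      exact Nat.pow_right_injective le_rfl this
    subst hDD
    rw [show Lr 2 = 4 from if_pos rfl]
    refine colourable_two Nat.card_pos fun h2 h4 => ?_
    push Not at hc
    obtain ⟨h3, h5, h9⟩ := hc h2 h4
    obtain ⟨hr2', hr3⟩ := range_four hchar h5 h3
    by_cases hq : Nat.card K = 9
    · exact Or.inl ⟨by have := h9 hq; omega, hr2'⟩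
    · exact Or.inr (hr3 hq)
  · haveI : Fact r.Prime := ⟨hr⟩
    rw [show Lr r = r from if_neg hr2]
    exact (colourable_odd hr2 D').mono (two_le_range hchar hr hr2)

end FD

end Cfsg.Agent.BT62
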