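import Mathlib
import Cfsg.Agent.BT62.Cases

/-!
# Symplectic bases in the small cases
-/

set_option autoImplicit false

namespace Cfsg.Agent.BT62

open scoped commutatorElement
open BC85.BaseTwo BC85.BaseThree

variable {H V K : Type} [Group H] [Finite H] [AddCommGroup V] [DistribMulAction H V] [Field K]
  [Module K V] (F : FD H V K)

namespace FD

/-- The action of an element of the section as a linear map. -/
def lmap (n : F.N) : Module.End K V where
  toFun w := (n : H) • w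
  map_add' := smul_add (n : H)
  map_smul' k w := F.hlN n n.2 k w

@[simp] theorem lmap_apply (n : F.N) (w : V) : F.lmap n w = (n : H) • w := rfl

theorem lmap_mul (n m : F.N) : F.lmap (n * m) = F.lmap n * F.lmap m :=
  LinearMap.ext fun w => mul_smul (n : H) (m : H) w

theorem lmap_one : F.lmap 1 = 1 := LinearMap.ext fun w => one_smul H w

/-- The commutator as a scalar. -/
noncomputable def sgn (n m : F.N) : K :=
  (F.ι ⟨⁅(n : H), (m : H)⁆, F.hN.comm n n.2 m m.2⟩ : K)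

theorem sgn_ne (n m : F.N) : F.sgn n m ≠ 0 := Units.ne_zero _

theorem lmap_swap (n m : F.N) : F.lmap n * F.lmap m = F.sgn n m • (F.lmap m * F.lmap n) := by
  refine LinearMap.ext fun w => ?_
  show (n : H) • (m : H) • w = F.sgn n m • (m : H) • (n : H) • w
  rw [sgn, ← F.hιv ⟨⁅(n : H), (m : H)⁆, F.hN.comm n n.2 m m.2⟩]
  simp only [← mul_smul, commutatorElement_def]
  congr 1
  group

theorem sgn_mulL (n n' m : F.N) : F.sgn (n * n') m = F.sgn n m * F.sgn n' m := by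
  rw [sgn, sgn, sgn, ← Units.val_mul, ← map_mul]
  congr 3
  exact F.brL n.2 n'.2 m.2

theorem sgn_mulR (n m m' : F.N) : F.sgn n (m * m') = F.sgn n m * F.sgn n m' := by
  rw [sgn, sgn, sgn, ← Units.val_mul, ← map_mul]
  congr 3
  exact F.brR n.2 m.2 m'.2

theorem sgn_eq_one {n m : F.N} (h : (n : H) * m = m * n) : F.sgn n m = 1 := by
  rw [sgn, show (⟨⁅(n : H), (m : H)⁆, F.hN.comm n n.2 m m.2⟩ : F.U) = 1 from
    Subtype.ext (commutatorElement_eq_one_iff_mul_comm.mpr h), map_one, Units.val_one]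

theorem sgn_one_iff {n m : F.N} : F.sgn n m = 1 ↔ (n : H) * m = m * n := by
  refine ⟨fun h => ?_, F.sgn_eq_one⟩
  rw [← commutatorElement_eq_one_iff_mul_comm]
  exact congrArg Subtype.val (F.hι ((Units.ext h : F.ι _ = 1).trans (map_one F.ι).symm))

theorem sgn_self (n : F.N) : F.sgn n n = 1 := F.sgn_eq_one rfl

theorem sgn_symm (n m : F.N) : F.sgn m n = (F.sgn n m)⁻¹ := by
  rw [sgn, sgn, ← Units.val_inv_eq_inv_val, ← map_inv]
  congr 2
  apply Subtype.ext
  exact (commutatorElement_inv (n : H) (m : H)).symm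

theorem sgn_A {a a' : F.N} (ha : (a : H) ∈ F.A) (ha' : (a' : H) ∈ F.A) : F.sgn a a' = 1 :=
  F.sgn_eq_one (F.habel _ ha _ ha')

theorem sgn_YA {y a : F.N} (hy : (y : H) ∈ F.Y) (ha : (a : H) ∈ F.A) : F.sgn y a = 1 :=
  F.sgn_eq_one ((F.mem_Y.mp hy).2 _ ha).symm

theorem sgn_cls {a n n' : F.N} (ha : (a : H) ∈ F.A) (h : F.cls n = F.cls n') :
    F.sgn a n = F.sgn a n' := by
  rw [sgn, sgn]
  congr 3
  exact F.bracket_congr ha h

section Two

variable (hX : ∀ x : F.X, 2 • x = 0)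
include hX

/-- All commutators square to one. -/
theorem sgn_sq (n m : F.N) : F.sgn n m ^ 2 = 1 := by
  have hsec : ∀ (x : F.X) (m : F.N), F.sgn (F.sec x) m ^ 2 = 1 := fun x m => by
    rw [pow_two, ← F.sgn_mulL]
    refine F.sgn_eq_one ?_
    rw [Subgroup.coe_mul, ← pow_two]
    exact F.cenU (F.sec_pow Nat.prime_two (hX x)) m.2
  have hA : ∀ (a m : F.N), (a : H) ∈ F.A → F.sgn a m ^ 2 = 1 := fun a m ha => by
    rw [F.sgn_cls ha (F.cls_sec (F.cls m)).symm, F.sgn_symm, inv_pow, hsec, inv_one]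
  have hY : ∀ (y m : F.N), (y : H) ∈ F.Y → F.sgn y m ^ 2 = 1 := by
    intro y m hy
    let C : F.N → Subgroup H := fun n =>
      { carrier := {x | ∃ h : x ∈ F.N, F.sgn n ⟨x, h⟩ ^ 2 = 1}
        one_mem' := ⟨F.N.one_mem, by
          rw [show (⟨1, F.N.one_mem⟩ : F.N) = 1 from rfl, F.sgn_eq_one (by simp), one_pow]⟩
        mul_mem' := fun {a b} ⟨ha, ha'⟩ ⟨hb, hb'⟩ => ⟨F.N.mul_mem ha hb, by
          rw [show (⟨a * b, F.N.mul_mem ha hb⟩ : F.N) = ⟨a, ha⟩ * ⟨b, hb⟩ from rfl, F.sgn_mulR,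
            mul_pow, ha', hb', one_mul]⟩
        inv_mem' := fun {a} ⟨ha, ha'⟩ => ⟨F.N.inv_mem ha, by
          have h1 : F.sgn n (⟨a, ha⟩ * ⟨a⁻¹, F.N.inv_mem ha⟩) = 1 := F.sgn_eq_one (by
            show (n : H) * (a * a⁻¹) = a * a⁻¹ * n
            rw [mul_inv_cancel, mul_one, one_mul])
          rw [F.sgn_mulR] at h1
          have := congrArg (· ^ 2) h1
          simp only [mul_pow, ha', one_mul, one_pow] at this
          exact this⟩ }
    have hYC : ∀ n : F.N, ((n : H) ∈ F.Y) → F.Y ≤ C n := by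
      intro n hn z hz
      have hAC : F.A ≤ C n := fun a ha => ⟨F.hAN ha, by
        rw [F.sgn_YA hn (a := ⟨a, F.hAN ha⟩) ha, one_pow]⟩
      rcases F.shape with ⟨-, hYA⟩ | ⟨p2, hp2N, hp2c, -, -, -, -, hsqp, hsqp2, hYle, -, -⟩
      · exact hAC (hYA z (F.mem_Y.mp hz).1 (F.mem_Y.mp hz).2)
      refine (sup_le hAC ?_ : F.A ⊔ Subgroup.closure {F.p, p2} ≤ C n)
        (hYle z (F.mem_Y.mp hz).1 (F.mem_Y.mp hz).2)
      rw [Subgroup.closure_le]
      have key : ∀ q : F.N, (q : H) ^ 2 ∈ F.A → F.sgn n q ^ 2 = 1 := fun q hq => by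
        rw [pow_two, ← F.sgn_mulR]
        refine F.sgn_YA hn ?_
        rw [Subgroup.coe_mul, ← pow_two]
        exact hq
      rintro q (rfl | rfl)
      · exact ⟨F.hp, key ⟨F.p, F.hp⟩ hsqp⟩
      · exact ⟨hp2N, key ⟨q, hp2N⟩ hsqp2⟩
    have e : F.sgn y m = F.sgn y (F.sec (F.cls m)) * F.sgn y ((F.sec (F.cls m))⁻¹ * m) := by
      rw [← F.sgn_mulR, mul_inv_cancel_left]
    obtain ⟨h', h1⟩ := hYC y hy ((F.cls_eq_iff (F.sec (F.cls m)) m).mp (F.cls_sec _))
    rw [e, mul_pow, F.sgn_symm (F.sec _) y, inv_pow, hsec, inv_one, one_mul]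
    exact h1
  have e : F.sgn n m = F.sgn (F.sec (F.cls n)) m * F.sgn ((F.sec (F.cls n))⁻¹ * n) m := by
    rw [← F.sgn_mulL, mul_inv_cancel_left]
  rw [e, mul_pow, hsec, hY _ _ ((F.cls_eq_iff (F.sec (F.cls n)) n).mp (F.cls_sec _)), one_mul]

theorem sgn_pm (n m : F.N) : F.sgn n m = 1 ∨ F.sgn n m = -1 := sq_eq_one_iff.mp (F.sgn_sq hX n m)

theorem sgn_symm' (n m : F.N) : F.sgn m n = F.sgn n m := by
  rw [F.sgn_symm n m]
  rcases F.sgn_pm hX n m with h | h <;> simp [h]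

/-- Squares are scalars. -/
theorem sq_mem (n : F.N) : (n : H) ^ 2 ∈ F.U := by
  refine F.hN.centre _ (F.hN.cen (F.N.pow_mem n.2 2)) fun y hy => ?_
  have h := F.sgn_mulL n n ⟨y, hy⟩
  rw [← pow_two (F.sgn n ⟨y, hy⟩), F.sgn_sq hX, F.sgn_one_iff, Subgroup.coe_mul, ← pow_two] at h
  exact h

theorem lmap_sq (n : F.N) : ∃ u : K, u ≠ 0 ∧ F.lmap n * F.lmap n = u • 1 := by
  refine ⟨(F.ι ⟨(n : H) ^ 2, F.sq_mem hX n⟩ : K), Units.ne_zero _, LinearMap.ext fun w => ?_⟩
  show (n : H) • (n : H) • w = _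
  rw [← mul_smul, ← pow_two]
  exact F.hιv ⟨(n : H) ^ 2, F.sq_mem hX n⟩ w

/-- A square of an element is a square scalar. -/
def IsSq (n : F.N) : Prop := ∃ c : K, c ≠ 0 ∧ F.lmap n * F.lmap n = c ^ 2 • 1

omit hX in
theorem isSq_A {a : F.N} (ha : (a : H) ∈ F.A) (hX : ∀ x : F.X, 2 • x = 0) : F.IsSq a := by
  refine ⟨F.χ ⟨a, ha⟩, F.χ_ne _, ?_⟩
  obtain ⟨u, -, hu⟩ := F.lmap_sq hX a
  have h1 := congrArg (fun f : Module.End K V => f F.v) hu
  simp only [Module.End.mul_apply, lmap_apply, LinearMap.smul_apply, Module.End.one_apply] at h1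
  rw [show (a : H) • F.v = F.χ ⟨a, ha⟩ • F.v from F.χ_spec ⟨a, ha⟩, F.hlN a a.2,
    show (a : H) • F.v = F.χ ⟨a, ha⟩ • F.v from F.χ_spec ⟨a, ha⟩, smul_smul, ← pow_two,
    ← sub_eq_zero, ← sub_smul, smul_eq_zero] at h1
  rw [hu, sub_eq_zero.mp (h1.resolve_right F.hv)]

omit hX in
theorem lmap_mul_sq (hX : ∀ x : F.X, 2 • x = 0) {n m : F.N} {c d : K}
    (hn : F.lmap n * F.lmap n = c • 1) (hm : F.lmap m * F.lmap m = d • 1) :
    F.lmap (n * m) * F.lmap (n * m) = (F.sgn n m * (c * d)) • 1 := by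
  rw [lmap_mul, mul_assoc, ← mul_assoc (F.lmap m), F.lmap_swap m n, F.sgn_symm' hX n m,
    smul_mul_assoc, mul_smul_comm, mul_assoc (F.lmap n), hm, mul_smul_comm, mul_one, mul_smul_comm, hn,
    smul_smul, smul_smul]
  ring_nf

variable [Finite K]

/-- For a square minus one every square is a square scalar. -/
theorem all_isSq
    (hmax : ∀ A : Subgroup H, A.Normal → F.U ≤ A → (∀ a ∈ A, ∀ b ∈ A, a * b = b * a) → A = F.U)
    {i : K} (hi : i ^ 2 = -1) (n : F.N) : F.IsSq n := by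
  classical
  have hi0 : i ≠ 0 := fun h => by rw [h] at hi; norm_num at hi
  have hmulsq : ∀ n m : F.N, F.IsSq n → F.IsSq m → F.IsSq (n * m) := by
    rintro n m ⟨c, hc0, hc⟩ ⟨d, hd0, hd⟩
    rcases F.sgn_pm hX n m with h | h
    · exact ⟨c * d, mul_ne_zero hc0 hd0, by rw [F.lmap_mul_sq hX hc hd, h, one_mul, mul_pow]⟩
    · exact ⟨i * (c * d), mul_ne_zero hi0 (mul_ne_zero hc0 hd0), by
        rw [F.lmap_mul_sq hX hc hd, h, mul_pow i, hi, mul_pow]⟩
  let W : Subgroup H :=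
    { carrier := {x | ∃ h : x ∈ F.N, F.IsSq ⟨x, h⟩}
      one_mem' := ⟨F.N.one_mem, 1, one_ne_zero, by
        rw [show (⟨1, F.N.one_mem⟩ : F.N) = 1 from rfl, F.lmap_one, one_mul, one_pow, one_smul]⟩
      mul_mem' := fun {a b} ⟨ha, ha'⟩ ⟨hb, hb'⟩ => ⟨F.N.mul_mem ha hb, hmulsq ⟨a, ha⟩ ⟨b, hb⟩ ha' hb'⟩
      inv_mem' := fun {a} ⟨ha, c, hc0, hc⟩ => ⟨F.N.inv_mem ha, c⁻¹, inv_ne_zero hc0,
        LinearMap.ext fun w => by
          show a⁻¹ • a⁻¹ • w = c⁻¹ ^ 2 • w
          have h := congrArg (fun f : Module.End K V => f (a⁻¹ • a⁻¹ • w)) hc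
          simp only [Module.End.mul_apply, lmap_apply, smul_inv_smul, LinearMap.smul_apply,
            Module.End.one_apply] at h
          conv_rhs => rw [h]
          rw [smul_smul (c⁻¹ ^ 2), ← mul_pow, inv_mul_cancel₀ hc0, one_pow, one_smul]⟩ }
  have hUW : F.U ≤ W := fun u hu => ⟨F.hN.le hu, F.ι ⟨u, hu⟩, Units.ne_zero _, LinearMap.ext fun w => by
    show u • u • w = _
    rw [F.hιv ⟨u, hu⟩, F.hιv ⟨u, hu⟩, smul_smul, ← pow_two]
    rfl⟩
  have hWn : W.Normal := ⟨fun x ⟨hx, c, hc0, hc⟩ g => by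
    obtain ⟨c', hc'⟩ := F.hsemi g c
    have key : ∀ w : V, (g * x * g⁻¹) • (g * x * g⁻¹) • w = (c' ^ 2) • w := fun w => by
      have h := congrArg (fun f : Module.End K V => f (g⁻¹ • w)) hc
      simp only [Module.End.mul_apply, lmap_apply, LinearMap.smul_apply, Module.End.one_apply] at h
      rw [mul_smul, mul_smul, mul_smul, mul_smul, inv_smul_smul, h, pow_two, ← smul_smul, hc', hc',
        smul_inv_smul, smul_smul, ← pow_two]
    refine ⟨F.hN.normal.conj_mem x hx g, c', fun h0 => ?_, LinearMap.ext key⟩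
    have h1 := key F.v
    rw [h0, zero_pow two_ne_zero, zero_smul, smul_eq_zero_iff_eq, smul_eq_zero_iff_eq] at h1
    exact F.hv h1⟩
  have hWN : W ≤ F.N := fun x ⟨hx, _⟩ => hx
  obtain ⟨W', hW'n, hUW', hW'N, hinf, hsup⟩ := F.hN.compl W hWn hUW hWN
  have hW'U : ∀ x ∈ W', x ∈ W → x ∈ F.U := fun x h1 h2 => hinf.le ⟨h2, h1⟩
  have hnon : ∀ x : F.N, ¬F.IsSq x → ∀ c : K, F.lmap x * F.lmap x = c • 1 → ∀ d : K, c ≠ d ^ 2 := by
    intro x hx c hc d hd
    refine hx ⟨d, ?_, by rw [hc, hd]⟩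
    rintro rfl
    obtain ⟨u, hu0, hu⟩ := F.lmap_sq hX x
    have h1 := congrArg (fun f : Module.End K V => f F.v) (hu.symm.trans hc)
    simp only [LinearMap.smul_apply, Module.End.one_apply, hd, zero_pow two_ne_zero, zero_smul, LinearMap.zero_apply,
      smul_eq_zero] at h1
    exact h1.elim hu0 F.hv
  have hW'ab : ∀ a ∈ W', ∀ b ∈ W', a * b = b * a := by
    intro a ha b hb
    by_cases haU : a ∈ F.U
    · exact F.cenU haU (hW'N hb)
    by_cases hbU : b ∈ F.U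
    · exact (F.cenU hbU (hW'N ha)).symm
    set x : F.N := ⟨a, hW'N ha⟩
    set y : F.N := ⟨b, hW'N hb⟩
    have hxn : ¬F.IsSq x := fun h => haU (hW'U a ha ⟨x.2, h⟩)
    have hyn : ¬F.IsSq y := fun h => hbU (hW'U b hb ⟨y.2, h⟩)
    obtain ⟨c, hc0, hc⟩ := F.lmap_sq hX x
    obtain ⟨d, hd0, hd⟩ := F.lmap_sq hX y
    have hcn : ∀ e : Kˣ, Units.mk0 c hc0 ≠ e ^ 2 := fun e he => hnon x hxn c hc e (by
      simpa using congrArg Units.val he)
    obtain ⟨j, e, he⟩ := exists_pow_mul_eq_pow Nat.prime_two hcn (Units.mk0 d hd0)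
    have he' : c ^ j * d = (e : K) ^ 2 := by simpa using congrArg Units.val he
    have hsq : F.IsSq (x * y) := by
      have hcd : ∃ f : K, c * d = f ^ 2 := by
        rcases Nat.even_or_odd' j with ⟨t, rfl | rfl⟩
        · exfalso
          refine hnon y hyn d hd ((e : K) / c ^ t) ?_
          rw [div_pow, ← he', ← pow_mul, mul_comm t 2]
          field_simp
        · refine ⟨(e : K) / c ^ t, ?_⟩
          rw [div_pow, ← he', ← pow_mul, mul_comm t 2, pow_succ]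
          field_simp
      obtain ⟨f, hf⟩ := hcd
      have hf0 : f ≠ 0 := fun h => mul_ne_zero hc0 hd0 (by rw [hf, h]; ring)
      rcases F.sgn_pm hX x y with h | h
      · exact ⟨f, hf0, by rw [F.lmap_mul_sq hX hc hd, h, one_mul, hf]⟩
      · exact ⟨i * f, mul_ne_zero hi0 hf0, by rw [F.lmap_mul_sq hX hc hd, h, hf, mul_pow, hi]⟩
    have hxy : a * b ∈ F.U := hW'U _ (W'.mul_mem ha hb) ⟨(x * y).2, hsq⟩
    have := F.cenU hxy (hW'N ha)
    calc a * b = a⁻¹ * (a * (a * b)) := by group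
      _ = a⁻¹ * (a * b * a) := by rw [this]
      _ = b * a := by group
  have hW' : W' = F.U := hmax W' hW'n hUW' hW'ab
  have hWtop : F.N ≤ W := by rw [← hsup, hW', sup_eq_left.mpr hUW]
  obtain ⟨_, h⟩ := hWtop n.2
  exact h

omit [Finite K] in
/-- Prescribed commutators with the basis of the classes. -/
theorem exists_char {D : ℕ} (e : F.X ≃+ (Fin D → ZMod 2)) (f : Fin D → ZMod 2) :
    ∃ a : F.N, (a : H) ∈ F.A ∧ ∀ j, F.sgn a (F.sec (e.symm (ev j))) = if f j = 0 then 1 else -1 := by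
  classical
  have hchar2 : ∀ (a : F.N) (x : F.X), F.sgn a (F.sec x) = 1 ∨ F.sgn a (F.sec x) = -1 :=
    fun a x => F.sgn_pm hX _ _
  let Φ : F.N → (Fin D → ZMod 2) := fun a j =>
    if F.sgn a (F.sec (e.symm (ev j))) = 1 then 0 else 1
  by_cases hm : (-1 : K) = 1
  · refine ⟨1, F.A.one_mem, fun j => ?_⟩
    rw [F.sgn_eq_one (by simp)]
    split <;> simp [hm]
  have hΦ : ∀ a b, Φ (a * b) = Φ a + Φ b := fun a b => by
    funext j
    simp only [Φ, Pi.add_apply, F.sgn_mulL]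
    rcases hchar2 a (e.symm (ev j)) with h | h <;> rcases hchar2 b (e.symm (ev j)) with h' | h' <;>
      simp [h, h', hm] <;> decide
  let I : AddSubgroup (Fin D → ZMod 2) :=
    { carrier := {g | ∃ a : F.N, (a : H) ∈ F.A ∧ Φ a = g}
      zero_mem' := ⟨1, F.A.one_mem, funext fun j => if_pos (F.sgn_eq_one (by simp))⟩
      add_mem' := fun {g g'} ⟨a, ha, h⟩ ⟨b, hb, h'⟩ => ⟨a * b, F.A.mul_mem ha hb, by rw [hΦ, h, h']⟩
      neg_mem' := fun {g} hg => by
        have : -g = g := funext fun j => by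
          show -g j = g j
          generalize g j = z; revert z; decide
        rwa [this] }
  have hI : I = ⊤ := by
    by_contra hne
    obtain ⟨l, hl, hlI⟩ := colourable_large.exists_dual hne
    obtain ⟨a, ha⟩ := F.exists_pairing_ne (x := e.symm l) (fun h => hl (by simpa using congrArg e h))
    apply ha
    apply Units.ext
    rw [Units.val_one]
    show F.sgn ⟨(a : H), F.hAN a.2⟩ (F.sec (e.symm l)) = 1
    set a' : F.N := ⟨(a : H), F.hAN a.2⟩
    let βa : F.X → ZMod 2 := fun x => if F.sgn a' (F.sec x) = 1 then 0 else 1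
    have hadd : ∀ x x', βa (x + x') = βa x + βa x' := fun x x' => by
      simp only [βa]
      rw [F.sgn_cls (a := a') a.2 (n' := F.sec x * F.sec x') (by rw [F.cls_sec, F.cls_mul, F.cls_sec, F.cls_sec]),
        F.sgn_mulR]
      rcases hchar2 a' x with h | h <;> rcases hchar2 a' x' with h' | h' <;> simp [h, h', hm] <;> decide
    let β : (Fin D → ZMod 2) →+ ZMod 2 :=
      AddMonoidHom.mk' (fun g => βa (e.symm g)) fun g g' => by rw [map_add, hadd]
    have h0 : dot l (Φ a') = 0 := hlI _ ⟨a', a.2, rfl⟩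
    have hsum : β l = dot l (Φ a') := by
      conv_lhs => rw [← Finset.univ_sum_single l]
      rw [map_sum]
      refine Finset.sum_congr rfl fun j _ => ?_
      rcases zmod2 (l j) with h | h
      · rw [h, Pi.single_zero, map_zero, zero_mul]
      · rw [h, one_mul]; rfl
    have := hsum.trans h0
    by_contra hne1
    exact one_ne_zero ((if_neg hne1).symm.trans this)
  obtain ⟨a, ha, h⟩ := (hI ▸ AddSubgroup.mem_top f : f ∈ I)
  refine ⟨a, ha, fun j => ?_⟩
  have hj := congrFun h j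
  simp only [Φ] at hj
  rcases hchar2 a (e.symm (ev j)) with hs | hs <;> rw [hs] at hj ⊢
  · rw [if_pos rfl] at hj; rw [if_pos hj.symm]
  · rw [if_neg hm] at hj
    rw [if_neg (by rw [← hj]; decide)]

end Two

end FD

end Cfsg.Agent.BT62
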