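import Mathlib
import Cfsg.Agent.BT62.Small

/-!
# Commuting shifts dual to commuting signs
-/

set_option autoImplicit false

namespace Cfsg.Agent.BT62

open scoped commutatorElement
open BC85.BaseTwo BC85.BaseThree

variable {H V K : Type} [Group H] [Finite H] [AddCommGroup V] [DistribMulAction H V] [Field K]
  [Module K V] (F : FD H V K)

namespace FD

/-- A basis adapted to the frame and to two further elements of the plane. -/
structure SB (D : ℕ) (e : F.X ≃+ (Fin D → ZMod 2)) (P R : F.N) where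
  /-- the signs -/
  a : ℕ → F.N
  /-- the shifts -/
  b : ℕ → F.N
  haA : ∀ i < D, (a i : H) ∈ F.A
  hcls : ∀ i : Fin D, F.cls (b i) = e.symm (ev i)
  hab : ∀ i < D, ∀ j < D, F.sgn (a i) (b j) = if i = j then -1 else 1
  hbb : ∀ i < D, ∀ j < D, F.sgn (b i) (b j) = 1
  hb2 : ∀ i < D, F.IsSq (b i)
  hbP : ∀ i < D, F.sgn (b i) P = 1
  hbR : ∀ i < D, F.sgn (b i) R = 1

theorem cls_mul_Y (n : F.N) {y : F.N} (hy : (y : H) ∈ F.Y) : F.cls (n * y) = F.cls n := by
  rw [F.cls_mul, (F.cls_eq_zero y).mpr hy, add_zero]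

theorem exists_basis (hX : ∀ x : F.X, 2 • x = 0) (h2 : (2 : K) ≠ 0) {D : ℕ}
    (e : F.X ≃+ (Fin D → ZMod 2)) (P R : F.N) (hP : (P : H) ∈ F.Y) (hR : (R : H) ∈ F.Y)
    (hPR : F.sgn P R = -1 ∨ (P = 1 ∧ R = 1))
    (hfix : ∀ (n : F.N) (u : K), F.lmap n * F.lmap n = u • 1 → F.IsSq n ∨ ∃ c : K, c ≠ 0 ∧ -u = c ^ 2) :
    Nonempty (F.SB D e P R) := by
  classical
  have hm : (-1 : K) ≠ 1 := fun h => h2 (by linear_combination -h)
  have hPR' : ∀ n : F.N, ∃ b : F.N, F.cls b = F.cls n ∧ F.sgn b P = 1 ∧ F.sgn b R = 1 := by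
    intro n
    rcases hPR with h | ⟨rfl, rfl⟩
    swap
    · exact ⟨n, rfl, F.sgn_eq_one (by simp), F.sgn_eq_one (by simp)⟩
    have hRP : F.sgn R P = -1 := by rw [F.sgn_symm' hX P R, h]
    let b1 : F.N := if F.sgn n P = 1 then n else n * R
    let b2 : F.N := if F.sgn b1 R = 1 then b1 else b1 * P
    have c1 : F.cls b1 = F.cls n := by
      simp only [b1]; split
      · rfl
      · exact F.cls_mul_Y n hR
    have h1 : F.sgn b1 P = 1 := by
      simp only [b1]; split_ifs with hc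
      · exact hc
      · rw [F.sgn_mulL, hRP, (F.sgn_pm hX n P).resolve_left hc]; ring
    refine ⟨b2, ?_, ?_, ?_⟩
    · simp only [b2]; split
      · exact c1
      · rw [F.cls_mul_Y _ hP, c1]
    · simp only [b2]; split
      · exact h1
      · rw [F.sgn_mulL, h1, F.sgn_self, one_mul]
    · simp only [b2]; split_ifs with hc
      · exact hc
      · rw [F.sgn_mulL, h, (F.sgn_pm hX b1 R).resolve_left hc]; ring
  choose orth ho1 ho2 ho3 using hPR'
  choose a haA ha using fun i : Fin D => F.exists_char hX e (Pi.single i 1)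
  have hac : ∀ (i j : Fin D) (n : F.N), F.cls n = e.symm (ev j) →
      F.sgn (a i) n = if i = j then -1 else 1 := by
    intro i j n hn
    rw [F.sgn_cls (haA i) (hn.trans (F.cls_sec _).symm), ha i j]
    rcases eq_or_ne i j with rfl | hij
    · rw [if_pos rfl, Pi.single_eq_same, if_neg one_ne_zero]
    · rw [if_neg hij, Pi.single_eq_of_ne hij.symm, if_pos rfl]
  have hstep2 : ∀ j : Fin D, ∃ b : F.N, F.cls b = e.symm (ev j) ∧ F.sgn b P = 1 ∧ F.sgn b R = 1 ∧
      F.IsSq b := by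
    intro j
    set b0 := orth (F.sec (e.symm (ev j)))
    have hc0 : F.cls b0 = e.symm (ev j) := by rw [ho1, F.cls_sec]
    by_cases hs : F.IsSq b0
    · exact ⟨b0, hc0, ho2 _, ho3 _, hs⟩
    obtain ⟨u, hu0, hu⟩ := F.lmap_sq hX b0
    obtain ⟨c, hc, hcu⟩ := (hfix b0 u hu).resolve_left hs
    obtain ⟨d, hd, hd2⟩ := F.isSq_A (haA j) hX
    refine ⟨b0 * a j, by rw [F.cls_mul_Y _ (F.hAY (haA j)), hc0], ?_, ?_, c * d, mul_ne_zero hc hd, ?_⟩
    · rw [F.sgn_mulL, ho2, one_mul, F.sgn_symm' hX P (a j), F.sgn_YA hP (haA j)]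
    · rw [F.sgn_mulL, ho3, one_mul, F.sgn_symm' hX R (a j), F.sgn_YA hR (haA j)]
    · rw [F.lmap_mul_sq hX hu hd2, F.sgn_symm' hX (a j) b0, hac j j b0 hc0, if_pos rfl, mul_pow, ← hcu]
      ring_nf
  choose b hbc hbP hbR hb2 using hstep2
  choose a' ha'A ha' using fun j : Fin D => F.exists_char hX e
    (fun i => if i < j ∧ F.sgn (b i) (b j) = -1 then 1 else 0)
  have hac' : ∀ (i j : Fin D) (n : F.N), F.cls n = e.symm (ev j) →
      F.sgn (a' i) n = if j < i ∧ F.sgn (b j) (b i) = -1 then -1 else 1 := by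
    intro i j n hn
    rw [F.sgn_cls (ha'A i) (hn.trans (F.cls_sec _).symm), ha' i j]
    by_cases hc : j < i ∧ F.sgn (b j) (b i) = -1
    · rw [if_pos hc, if_pos hc, if_neg one_ne_zero]
    · rw [if_neg hc, if_neg hc, if_pos rfl]
  let bb : Fin D → F.N := fun i => b i * a' i
  have hbbc : ∀ i, F.cls (bb i) = e.symm (ev i) := fun i => by
    rw [F.cls_mul_Y _ (F.hAY (ha'A i)), hbc]
  refine ⟨{ a := fun i => if h : i < D then a ⟨i, h⟩ else 1
            b := fun i => if h : i < D then bb ⟨i, h⟩ else 1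
            haA := fun i hi => by simpa [hi] using haA ⟨i, hi⟩
            hcls := fun i => by simpa [i.2] using hbbc i
            hab := fun i hi j hj => by
              simp only [hi, hj, dif_pos]
              rw [hac ⟨i, hi⟩ ⟨j, hj⟩ _ (hbbc _)]
              simp only [Fin.mk.injEq]
            hbb := ?_
            hb2 := ?_
            hbP := ?_
            hbR := ?_ }⟩
  · intro i hi j hj
    simp only [hi, hj, dif_pos]
    set I : Fin D := ⟨i, hi⟩
    set J : Fin D := ⟨j, hj⟩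
    simp only [bb]
    rw [F.sgn_mulL, F.sgn_mulR, F.sgn_mulR, F.sgn_A (ha'A I) (ha'A J), F.sgn_symm' hX (a' J) (b I),
      hac' I J _ (hbc J), hac' J I _ (hbc I), mul_one]
    rcases lt_trichotomy I J with h | h | h
    · rw [if_neg (show ¬(J < I ∧ F.sgn (b J) (b I) = -1) from fun hh => lt_asymm h hh.1), mul_one]
      rcases F.sgn_pm hX (b I) (b J) with hs | hs
      · rw [if_neg (fun hh => hm (hh.2.symm.trans hs)), hs, mul_one]
      · rw [if_pos ⟨h, hs⟩, hs, neg_mul_neg, one_mul]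
    · rw [h, F.sgn_self, if_neg (fun hh => lt_irrefl _ hh.1)]; ring
    · rw [if_neg (show ¬(I < J ∧ F.sgn (b I) (b J) = -1) from fun hh => lt_asymm h hh.1), mul_one,
        F.sgn_symm' hX (b J) (b I)]
      rcases F.sgn_pm hX (b J) (b I) with hs | hs
      · rw [if_neg (fun hh => hm (hh.2.symm.trans hs)), hs, mul_one]
      · rw [if_pos ⟨h, hs⟩, hs, neg_mul_neg, one_mul]
  · intro i hi
    simp only [hi, dif_pos, bb]
    obtain ⟨c, hc0, hc⟩ := hb2 ⟨i, hi⟩
    obtain ⟨d, hd0, hd⟩ := F.isSq_A (ha'A ⟨i, hi⟩) hX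
    refine ⟨c * d, mul_ne_zero hc0 hd0, ?_⟩
    rw [F.lmap_mul_sq hX hc hd, F.sgn_symm' hX (a' ⟨i, hi⟩) (b ⟨i, hi⟩), hac' _ _ _ (hbc _),
      if_neg (fun hh => lt_irrefl _ hh.1), one_mul, mul_pow]
  · intro i hi
    simp only [hi, dif_pos, bb]
    rw [F.sgn_mulL, hbP, one_mul, F.sgn_symm' hX P, F.sgn_YA hP (ha'A _)]
  · intro i hi
    simp only [hi, dif_pos, bb]
    rw [F.sgn_mulL, hbR, one_mul, F.sgn_symm' hX R, F.sgn_YA hR (ha'A _)]

/-- A subgroup containing the basis and the centraliser generators contains the section. -/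
theorem SB.gen {D : ℕ} {e : F.X ≃+ (Fin D → ZMod 2)} {P R : F.N} (B : F.SB D e P R)
    (hX : ∀ x : F.X, 2 • x = 0) (h2 : (2 : K) ≠ 0) {M : Subgroup H} (hU : F.U ≤ M)
    (ha : ∀ i < D, (B.a i : H) ∈ M) (hb : ∀ i < D, (B.b i : H) ∈ M) (hY : F.A ≤ M → F.Y ≤ M) :
    F.N ≤ M := by
  classical
  have hm : (-1 : K) ≠ 1 := fun h => h2 (by linear_combination -h)
  let Φ : F.N → (Fin D → ZMod 2) := fun a j => if F.sgn a (B.b j) = 1 then 0 else 1
  have hΦ : ∀ a b, Φ (a * b) = Φ a + Φ b := fun a b => by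
    funext j
    simp only [Φ, Pi.add_apply, F.sgn_mulL]
    rcases F.sgn_pm hX a (B.b j) with h | h <;> rcases F.sgn_pm hX b (B.b j) with h' | h' <;>
      simp [h, h', hm] <;> decide
  let I : AddSubgroup (Fin D → ZMod 2) :=
    { carrier := {g | ∃ a : F.N, (a : H) ∈ F.A ⊓ M ∧ Φ a = g}
      zero_mem' := ⟨1, (F.A ⊓ M).one_mem, funext fun j => if_pos (F.sgn_eq_one (by simp))⟩
      add_mem' := fun {g g'} ⟨a, ha, h⟩ ⟨b, hb, h'⟩ =>
        ⟨a * b, (F.A ⊓ M).mul_mem ha hb, by rw [hΦ, h, h']⟩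
      neg_mem' := fun {g} hg => by
        have : -g = g := funext fun j => by
          show -g j = g j
          generalize g j = z; revert z; decide
        rwa [this] }
  have hI : I = ⊤ := by
    rw [eq_top_iff, ← closure_ev, AddSubgroup.closure_le]
    rintro _ ⟨i, rfl⟩
    refine ⟨B.a i, ⟨B.haA i i.2, ha i i.2⟩, funext fun j => ?_⟩
    simp only [Φ, ev]
    rw [B.hab i i.2 j j.2]
    rcases eq_or_ne i j with rfl | hij
    · rw [if_pos rfl, if_neg hm, Pi.single_eq_same]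
    · rw [if_neg (fun h => hij (Fin.ext h)), if_pos rfl, Pi.single_eq_of_ne hij.symm]
  have hcl : ∀ x : F.X, ∃ n : F.N, (n : H) ∈ M ∧ F.cls n = x := by
    let C : AddSubgroup F.X :=
      { carrier := {x | ∃ n : F.N, (n : H) ∈ M ∧ F.cls n = x}
        zero_mem' := ⟨1, M.one_mem, F.cls_one⟩
        add_mem' := fun {x x'} ⟨n, hn, h⟩ ⟨n', hn', h'⟩ =>
          ⟨n * n', M.mul_mem hn hn', by rw [F.cls_mul, h, h']⟩
        neg_mem' := fun {x} hx => by
          rw [neg_eq_of_add_eq_zero_left (show x + x = 0 by rw [← two_nsmul, hX])]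
          exact hx }
    intro x
    have key : ∀ g, g ∈ AddSubgroup.closure (Set.range (ev (r := 2) (D := D))) → e.symm g ∈ C :=
      fun g hg => by
        induction hg using AddSubgroup.closure_induction with
        | mem y hy => obtain ⟨i, rfl⟩ := hy; exact ⟨B.b i, hb i i.2, B.hcls i⟩
        | zero => rw [map_zero]; exact C.zero_mem
        | add a b _ _ ha hb => rw [map_add]; exact C.add_mem ha hb
        | neg a _ ha => rw [map_neg]; exact C.neg_mem ha
    have := key (e x) (closure_ev.symm ▸ AddSubgroup.mem_top _)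
    rwa [e.symm_apply_apply] at this
  have hA : F.A ≤ M := by
    intro a haA
    obtain ⟨a', ⟨ha'A, ha'M⟩, h⟩ := (hI ▸ AddSubgroup.mem_top (Φ ⟨a, F.hAN haA⟩) : Φ ⟨a, F.hAN haA⟩ ∈ I)
    set aN : F.N := ⟨a, F.hAN haA⟩
    have hkill : ∀ j : Fin D, F.sgn (aN * a') (B.b j) = 1 := fun j => by
      have h1 := congrFun (hΦ aN a') j
      rw [h, show Φ aN + Φ aN = 0 from two_self _, Pi.zero_apply] at h1
      simp only [Φ] at h1
      by_contra hne
      rw [if_neg hne] at h1
      exact one_ne_zero h1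
    have hmemA : (aN * a' : F.N).1 ∈ F.A := F.A.mul_mem haA ha'A
    let K0 : AddSubgroup (Fin D → ZMod 2) :=
      { carrier := {g | F.sgn (aN * a') (F.sec (e.symm g)) = 1}
        zero_mem' := by
          show F.sgn _ _ = 1
          rw [map_zero, F.sec_zero]; exact F.sgn_eq_one (by simp)
        add_mem' := fun {g g'} hg hg' => by
          show F.sgn _ _ = 1
          rw [map_add, F.sgn_cls hmemA (n' := F.sec (e.symm g) * F.sec (e.symm g'))
            (by rw [F.cls_sec, F.cls_mul, F.cls_sec, F.cls_sec]), F.sgn_mulR, hg, hg', one_mul]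
        neg_mem' := fun {g} hg => by
          have : -g = g := funext fun j => by
            show -g j = g j
            generalize g j = z; revert z; decide
          rwa [this] }
    have hK0 : AddSubgroup.closure (Set.range (ev (r := 2) (D := D))) ≤ K0 := by
      rw [AddSubgroup.closure_le]
      rintro _ ⟨j, rfl⟩
      show F.sgn _ _ = 1
      rw [F.sgn_cls hmemA (n' := B.b j) (by rw [F.cls_sec, B.hcls])]
      exact hkill j
    have hall : ∀ n : F.N, ((aN * a' : F.N) : H) * n = n * (aN * a' : F.N) := fun n => by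
      rw [← F.sgn_one_iff, F.sgn_cls hmemA (F.cls_sec (F.cls n)).symm]
      have h3 : F.sgn (aN * a') (F.sec (e.symm (e (F.cls n)))) = 1 :=
        hK0 (closure_ev.symm ▸ AddSubgroup.mem_top (e (F.cls n)))
      rwa [e.symm_apply_apply] at h3
    have hU' : ((aN * a' : F.N) : H) ∈ F.U :=
      F.hN.centre _ (F.hN.cen (aN * a' : F.N).2) fun y hy => hall ⟨y, hy⟩
    have := M.mul_mem (hU hU') (M.inv_mem ha'M)
    rwa [Subgroup.coe_mul, mul_inv_cancel_right] at this
  intro n hn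
  obtain ⟨m, hm, hmc⟩ := hcl (F.cls ⟨n, hn⟩)
  have := M.mul_mem hm (hY hA ((F.cls_eq_iff m ⟨n, hn⟩).mp hmc))
  rwa [mul_inv_cancel_left] at this

end FD

end Cfsg.Agent.BT62
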