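import Mathlib
import Cfsg.Agent.BT62.Basic

/-!
# Inequivalent regular pairs
-/

set_option autoImplicit false

namespace Cfsg.Agent.BT62

open BC85.BaseTwo

variable {H V : Type} [Group H] [Finite H] [AddCommGroup V] [Finite V] [DistribMulAction H V]

/-- A coprime module of exponent `p` with a regular pair has `p` inequivalent ones. -/
theorem pairs_of_pair {p : ℕ} (hp : p.Prime) (hexp : ∀ v : V, p • v = 0)
    (hnp : ¬ p ∣ Nat.card H) (hV : ∃ v : V, v ≠ 0) {t : V × V} (ht : Reg H V t) :
    ∃ f : Fin p → V × V, (∀ k, Reg H V (f k)) ∧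
      ∀ (h : H) k l, h • f k = f l → k = l := by
  classical
  haveI : Fact p.Prime := ⟨hp⟩
  haveI : Module (ZMod p) V := AddCommGroup.zmodModule hexp
  have hlinh : ∀ (h : H) (c : ZMod p) (v : V), h • (c • v) = c • (h • v) := fun h c v =>
    ZMod.map_smul (DistribMulAction.toAddMonoidHom V h) c v
  let e : Fin p ≃ ZMod p := Fintype.equivOfCardEq (by rw [Fintype.card_fin, ZMod.card])
  obtain ⟨a, b⟩ := t
  have single : ∀ x : V, x ≠ 0 → (∀ h : H, h • x = x → Triv V h) →
      ∃ f : Fin p → V × V, (∀ k, Reg H V (f k)) ∧ ∀ (h : H) k l, h • f k = f l → k = l := by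
    intro x hx hreg
    refine ⟨fun k => (x, e k • x), fun k h h1 _ => hreg h h1, fun h k l he => ?_⟩
    have h1 : h • x = x := congrArg Prod.fst he
    have h2 : h • (e k • x) = e l • x := congrArg Prod.snd he
    rw [hlinh, h1, ← sub_eq_zero, ← sub_smul, smul_eq_zero] at h2
    exact e.injective (sub_eq_zero.mp (h2.resolve_right hx))
  by_cases ha : a = 0
  · subst ha
    have hreg : ∀ h : H, h • b = b → Triv V h := fun h hb => ht h (smul_zero h) hb
    by_cases hb : b = 0
    · subst hb
      obtain ⟨v, hv⟩ := hV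
      exact single v hv fun h _ => hreg h (smul_zero h)
    · exact single b hb hreg
  by_cases hdep : ∃ c : ZMod p, b = c • a
  · obtain ⟨c, rfl⟩ := hdep
    exact single a ha fun h h1 => ht h h1 (by show h • (c • a) = c • a; rw [hlinh, h1])
  push Not at hdep
  let t : Fin 2 → V := ![a, b]
  let L : (Fin 2 → ZMod p) → V := fun c => ∑ i, c i • t i
  have hLinj : ∀ c d : Fin 2 → ZMod p, L c = L d → c = d := by
    intro c d h
    simp only [L, t, Fin.sum_univ_two, Matrix.cons_val_zero, Matrix.cons_val_one,
      Matrix.cons_val_fin_one] at h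
    have h1 : (c 1 - d 1) • b = (d 0 - c 0) • a := by
      rw [sub_smul, sub_smul, sub_eq_sub_iff_add_eq_add, add_comm (c 1 • b) (c 0 • a), h]
    by_cases hz : c 1 - d 1 = 0
    · rw [hz, zero_smul, eq_comm, smul_eq_zero] at h1
      funext i
      fin_cases i
      · exact (sub_eq_zero.mp (h1.resolve_right ha)).symm
      · exact sub_eq_zero.mp hz
    · exact absurd (by rw [← smul_smul, ← h1, inv_smul_smul₀ hz])
        (hdep ((c 1 - d 1)⁻¹ * (d 0 - c 0)))
  let act : (Fin 2 → V) → Matrix (Fin 2) (Fin 2) (ZMod p) → Fin 2 → V := fun s M j => ∑ i, M i j • s i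
  have hactmul : ∀ s M M', act s (M * M') = act (act s M) M' := by
    intro s M M'
    funext j
    simp only [act, Matrix.mul_apply, Finset.sum_smul, Finset.smul_sum, smul_smul]
    rw [Finset.sum_comm]
    exact Finset.sum_congr rfl fun k _ => Finset.sum_congr rfl fun i _ => by rw [mul_comm]
  have hact1 : ∀ s, act s 1 = s := by
    intro s
    funext j
    fin_cases j <;> simp [act, Matrix.one_apply, Fin.sum_univ_two]
  have hacth : ∀ (h : H) s M, (fun j => h • act s M j) = act (fun i => h • s i) M := by
    intro h s M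
    funext j
    simp only [act, Finset.smul_sum, hlinh]
  have hactinj : ∀ M M', act t M = act t M' → M = M' := by
    intro M M' he
    ext i j
    exact congrFun (hLinj (fun i => M i j) (fun i => M' i j) (congrFun he j)) i
  let D : Subgroup H :=
    { carrier := {h | ∃ M : GL (Fin 2) (ZMod p), (fun i => h • t i) = act t M}
      one_mem' := ⟨1, by rw [Units.val_one, hact1]; funext i; rw [one_smul]⟩
      mul_mem' := fun {a b} ha hb => by
        obtain ⟨M, hM⟩ := ha
        obtain ⟨M', hM'⟩ := hb
        refine ⟨M * M', ?_⟩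
        rw [Units.val_mul, hactmul, ← hM, ← hacth, ← hM']
        funext i
        rw [mul_smul]
      inv_mem' := fun {a} ha => by
        obtain ⟨M, hM⟩ := ha
        refine ⟨M⁻¹, ?_⟩
        have h1 : act (fun i => a⁻¹ • t i) M = t := by
          rw [← hacth]
          funext j
          rw [← congrFun hM j, inv_smul_smul]
        have h2 : act (act (fun i => a⁻¹ • t i) M) ((M⁻¹ : GL (Fin 2) (ZMod p))) =
            fun i => a⁻¹ • t i := by
          rw [← hactmul, ← Units.val_mul, mul_inv_cancel, Units.val_one, hact1]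
        rw [h1] at h2
        exact h2.symm }
  have hDex : ∀ h : D, ∃ M : GL (Fin 2) (ZMod p), (fun i => (h : H) • t i) = act t M := fun h => h.2
  choose mat hmat using hDex
  let φ : D →* GL (Fin 2) (ZMod p) := MonoidHom.mk' mat fun a b => Units.ext (hactinj _ _ (by
    rw [Units.val_mul, hactmul, ← hmat a, ← hacth, ← hmat b, ← hmat (a * b)]
    funext i
    rw [Subgroup.coe_mul, mul_smul]))
  have hidx : p ∣ φ.range.index := by
    obtain ⟨u, hu⟩ : ∃ u : GL (Fin 2) (ZMod p),
        (u : Matrix (Fin 2) (Fin 2) (ZMod p)) = Matrix.transvection 0 1 1 :=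
      ⟨⟨Matrix.transvection 0 1 1, Matrix.transvection 0 1 (-1),
        by rw [Matrix.transvection_mul_transvection_same 0 1 (by decide), add_neg_cancel,
          Matrix.transvection_zero],
        by rw [Matrix.transvection_mul_transvection_same 0 1 (by decide), neg_add_cancel,
          Matrix.transvection_zero]⟩, rfl⟩
    have hpow : ∀ n : ℕ, ((u ^ n : GL (Fin 2) (ZMod p)) : Matrix (Fin 2) (Fin 2) (ZMod p)) =
        Matrix.transvection 0 1 (n : ZMod p) := by
      intro n
      induction n with
      | zero => simp [Matrix.transvection_zero]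
      | succ n ih =>
        rw [pow_succ, Units.val_mul, ih, hu,
          Matrix.transvection_mul_transvection_same 0 1 (by decide), Nat.cast_succ]
    have hord : orderOf u = p := by
      refine orderOf_eq_prime (Units.ext ?_) fun h => ?_
      · rw [hpow, ZMod.natCast_self, Matrix.transvection_zero, Units.val_one]
      · rw [h, Units.val_one] at hu
        have := congrFun (congrFun hu 0) 1
        simp [Matrix.transvection] at this
    have h1 : p ∣ Nat.card φ.range * φ.range.index := by
      rw [Subgroup.card_mul_index]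
      exact (dvd_of_eq hord.symm).trans (orderOf_dvd_natCard u)
    refine (hp.dvd_mul.mp h1).resolve_left fun h2 => hnp ?_
    exact (h2.trans (Subgroup.card_range_dvd φ)).trans (Subgroup.card_subgroup_dvd_card D)
  have hle : p ≤ φ.range.index :=
    Nat.le_of_dvd (Nat.pos_of_ne_zero Subgroup.index_ne_zero_of_finite) hidx
  haveI : Fintype (GL (Fin 2) (ZMod p) ⧸ φ.range) := Fintype.ofFinite _
  obtain ⟨q⟩ : Nonempty (Fin p ↪ GL (Fin 2) (ZMod p) ⧸ φ.range) :=
    Function.Embedding.nonempty_of_card_le (by
      rw [Fintype.card_fin, ← Nat.card_eq_fintype_card]; exact hle)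
  let pr : (Fin 2 → V) → V × V := fun s => (s 0, s 1)
  refine ⟨fun k => pr (act t ((q k).out⁻¹ : GL (Fin 2) (ZMod p))), fun k h h0 h1' => ?_,
    fun h k l hkl => ?_⟩
  · have h1 : act (fun i => h • t i) ((q k).out⁻¹ : GL (Fin 2) (ZMod p)) =
        act t ((q k).out⁻¹ : GL (Fin 2) (ZMod p)) := by
      rw [← hacth]; funext i
      fin_cases i
      · exact h0
      · exact h1'
    have h2 := congrArg (fun s => act s ((q k).out : GL (Fin 2) (ZMod p))) h1
    rw [← hactmul, ← hactmul, ← Units.val_mul, inv_mul_cancel, Units.val_one, hact1, hact1] at h2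
    exact ht h (congrFun h2 0) (congrFun h2 1)
  · have h1 : act (fun i => h • t i) ((q k).out⁻¹ : GL (Fin 2) (ZMod p)) =
        act t ((q l).out⁻¹ : GL (Fin 2) (ZMod p)) := by
      rw [← hacth]; funext i
      fin_cases i
      · exact congrArg Prod.fst hkl
      · exact congrArg Prod.snd hkl
    have h2 := congrArg (fun s => act s ((q k).out : GL (Fin 2) (ZMod p))) h1
    rw [← hactmul, ← hactmul, ← Units.val_mul, ← Units.val_mul, inv_mul_cancel, Units.val_one,
      hact1] at h2
    have hmem : h ∈ D := ⟨(q l).out⁻¹ * (q k).out, h2⟩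
    have h3 : φ ⟨h, hmem⟩ = (q l).out⁻¹ * (q k).out :=
      Units.ext (hactinj _ _ ((hmat ⟨h, hmem⟩).symm.trans h2))
    refine (q.injective ?_).symm
    rw [← QuotientGroup.out_eq' (q k), ← QuotientGroup.out_eq' (q l), QuotientGroup.eq, ← h3]
    exact ⟨_, rfl⟩

end Cfsg.Agent.BT62
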