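import Mathlib
import Cfsg.Agent.BC85.BaseThree.Colour
import Cfsg.Agent.BT62.Prim3.All
import Cfsg.Agent.BT62.Pairs

/-!
# Imprimitive coprime modules have regular pairs
-/

set_option autoImplicit false

namespace Cfsg.Agent.BT62

open MulAction BC85.BaseTwo

/-- A colouring of a permutation domain preserved only trivially, with a prime number of colours. -/
theorem exists_colouring {H I : Type} [Group H] [Finite H] [MulAction H I] [Finite I] [Nonempty I]
    (hsol : Group.IsSolvable H) {p : ℕ} (hp : p.Prime) (hp2 : p ≠ 2)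
    (hnp : (Nat.card H).Coprime p) :
    ∃ c : I → Fin p, ∀ g : H, (∀ i : I, c (g • i) = c i) → ∀ i : I, g • i = i := by
  by_cases h3 : p = 3
  · subst h3
    obtain ⟨c, hc⟩ := exists_three3 (I := I) hsol hnp
    exact ⟨c 0, fun g hg => (hc g 0 0 hg).2⟩
  have h5 : 5 ≤ p := by
    have h2 := hp.two_le
    by_contra hlt
    obtain rfl : p = 4 := by omega
    exact absurd hp (by norm_num)
  obtain ⟨c, hc⟩ := BC85.BaseThree.exists_five5 (G := H) (I := I) hsol
  exact ⟨fun i => Fin.castLE h5 (c 0 i), fun g hg =>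
    (hc g 0 0 fun i => Fin.castLE_injective h5 (hg i)).2⟩

/-- An irreducible module with a permuted complete family of orthogonal idempotents. -/
theorem pair_of_blocks {n : ℕ} (hlin : LinC n)
    {H V : Type} [Group H] [Finite H] [AddCommGroup V] [Finite V] [DistribMulAction H V]
    (hn : Nat.card V ≤ n + 1) (hodd : Odd (Nat.card V)) (hsol : Group.IsSolvable H)
    (hcop : (Nat.card H).Coprime (Nat.card V)) (hirr : Irr H V)
    {I : Type} [Fintype I] [MulAction H I] (e : I → V →+ V)
    (hidem : ∀ i v, e i (e i v) = e i v) (horth : ∀ i j v, i ≠ j → e i (e j v) = 0)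
    (hsum : ∀ v, ∑ i, e i v = v) (hequiv : ∀ (h : H) i v, h • e i v = e (h • i) (h • v))
    (hne : ∀ i, ∃ v, e i v ≠ 0) (i0 i1 : I) (h01 : i0 ≠ i1) :
    ∃ p : V × V, Reg H V p := by
  classical
  have htrans : ∀ i : I, ∃ h : H, h • i0 = i := by
    intro i
    let T : AddSubgroup V :=
      { carrier := {v | ∀ j, j ∉ orbit H i0 → e j v = 0}
        zero_mem' := fun j _ => map_zero (e j)
        add_mem' := fun {a b} ha hb j hj => by rw [map_add, ha j hj, hb j hj, add_zero]
        neg_mem' := fun {a} ha j hj => by rw [map_neg, ha j hj, neg_zero] }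
    have hT : Inv H V T := by
      intro h v hv j hj
      have h1 : h⁻¹ • j ∉ orbit H i0 := by
        rintro ⟨g, hg⟩
        exact hj ⟨h * g, by show (h * g) • i0 = j; rw [mul_smul]; exact (inv_smul_eq_iff.mp hg.symm).symm⟩
      have h2 := hequiv h (h⁻¹ • j) v
      rw [hv _ h1, smul_zero, smul_inv_smul] at h2
      exact h2.symm
    rcases hirr.2 T hT with hb | ht
    · obtain ⟨v, hv⟩ := hne i0
      refine absurd ?_ hv
      have : e i0 v ∈ T := fun j hj => horth j i0 v fun h => hj (h.symm ▸ (mem_orbit_self i0 : i0 ∈ orbit H i0))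
      rwa [hb, AddSubgroup.mem_bot] at this
    · by_contra hno
      obtain ⟨v, hv⟩ := hne i
      exact hv ((ht ▸ AddSubgroup.mem_top v : v ∈ T) i fun ⟨g, hg⟩ => hno ⟨g, hg⟩)
  choose tr htr using htrans
  let W : AddSubgroup V :=
    { carrier := {v | e i0 v = v}
      zero_mem' := map_zero _
      add_mem' := fun {a b} ha hb => by
        show e i0 (a + b) = a + b
        rw [map_add, ha, hb]
      neg_mem' := fun {a} ha => by
        show e i0 (-a) = -a
        rw [map_neg, ha] }
  let H0 : Subgroup H := stabilizer H i0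
  have hW : Inv H0 V W := by
    intro h v hv
    have h1 : (h : H) • i0 = i0 := h.2
    show e i0 ((h : H) • v) = (h : H) • v
    have h2 := hequiv (h : H) i0 v
    rw [h1, show e i0 v = v from hv] at h2
    exact h2.symm
  letI : DistribMulAction H0 W := restrict W hW
  have hcomp : ∀ (i : I) (v : V), (tr i)⁻¹ • e i v ∈ W := by
    intro i v
    have h1 := hequiv (tr i)⁻¹ i v
    rw [inv_smul_eq_iff.mpr (htr i).symm] at h1
    show e i0 _ = _
    rw [h1, hidem]
  have hirrW : Irr H0 W := by
    refine ⟨?_, fun X hX => ?_⟩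
    · obtain ⟨v, hv⟩ := hne i0
      exact ⟨⟨e i0 v, hidem i0 v⟩, fun h => hv (congrArg Subtype.val h)⟩
    let X' : AddSubgroup V := X.map W.subtype
    let T : AddSubgroup V :=
      { carrier := {v | ∀ (h : H), h⁻¹ • e (h • i0) v ∈ X'}
        zero_mem' := fun h => by rw [map_zero, smul_zero]; exact X'.zero_mem
        add_mem' := fun {a b} ha hb h => by rw [map_add, smul_add]; exact X'.add_mem (ha h) (hb h)
        neg_mem' := fun {a} ha h => by rw [map_neg, smul_neg]; exact X'.neg_mem (ha h) }
    have hT : Inv H V T := by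
      intro g v hv h
      have h1 := hv (g⁻¹ * h)
      have h2 := hequiv g ((g⁻¹ * h) • i0) v
      rw [← mul_smul, mul_inv_cancel_left] at h2
      rw [← h2, ← mul_smul]
      simpa [mul_smul] using h1
    rcases hirr.2 T hT with hb | ht
    · left
      rw [eq_bot_iff]
      intro x hx
      have hxT : (x : V) ∈ T := by
        intro h
        by_cases hh : h • i0 = i0
        · rw [hh, show e i0 (x : V) = x from x.2]
          exact AddSubgroup.mem_map.mpr ⟨_, hX ⟨h⁻¹, inv_mem (mem_stabilizer_iff.mpr hh)⟩ x hx, rfl⟩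
        · rw [← show e i0 (x : V) = x from x.2, horth _ _ _ hh, smul_zero]
          exact X'.zero_mem
      rw [hb, AddSubgroup.mem_bot] at hxT
      exact AddSubgroup.mem_bot.mpr (Subtype.ext hxT)
    · right
      rw [eq_top_iff]
      intro x _
      have h1 := (ht ▸ AddSubgroup.mem_top (x : V) : (x : V) ∈ T) 1
      rw [inv_one, one_smul, one_smul, show e i0 (x : V) = x from x.2] at h1
      obtain ⟨y, hy, he⟩ := AddSubgroup.mem_map.mp h1
      exact (Subtype.ext he : y = x) ▸ hy
  have hWlt : Nat.card W < Nat.card V := by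
    refine card_lt_of_ne_top fun h => ?_
    obtain ⟨v, hv⟩ := hne i1
    have h1 : e i0 v = v := (h ▸ AddSubgroup.mem_top v : v ∈ W)
    exact hv (by rw [← h1]; exact horth i1 i0 v h01.symm)
  haveI : Group.IsSolvable H := hsol
  have hsol0 : Group.IsSolvable H0 := inferInstance
  have hWdvd := AddSubgroup.card_addSubgroup_dvd_card W
  have hcop0 : (Nat.card H0).Coprime (Nat.card W) :=
    (hcop.coprime_dvd_left (Subgroup.card_subgroup_dvd_card H0)).coprime_dvd_right hWdvd
  obtain ⟨t, ht⟩ := hlin W H0 (by omega) (Odd.of_dvd_nat hodd hWdvd) hsol0 hcop0 (irr_cr hirrW)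
  obtain ⟨p, hp, hpW, hpexp⟩ := exists_exponent hirrW
  have hp2 : p ≠ 2 := fun h => by
    have := (Odd.of_dvd_nat hodd (hpW.trans hWdvd))
    rw [h] at this
    exact absurd this (by decide)
  obtain ⟨q, hq, hqinj⟩ := pairs_of_pair hp hpexp
    (fun h => hp.one_lt.ne' (Nat.eq_one_of_dvd_coprimes hcop0 h hpW)) hirrW.1 ht
  -- a colouring of the blocks
  haveI : Nonempty I := ⟨i0⟩
  obtain ⟨c, hc⟩ := exists_colouring (H := H) (I := I) hsol hp hp2
    (hcop.coprime_dvd_right (hpW.trans hWdvd))
  refine ⟨(∑ i, tr i • ((q (c i)).1 : V), ∑ i, tr i • ((q (c i)).2 : V)), fun h hh hh' => ?_⟩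
  have hsel : ∀ (f : I → W) (j : I), e j (∑ i, tr i • (f i : V)) = tr j • (f j : V) := by
    intro f j
    have hval : ∀ i, tr i • (f i : V) = e i (tr i • (f i : V)) := by
      intro i
      have h3 := hequiv (tr i) i0 (f i : V)
      rwa [htr i, show e i0 (f i : V) = f i from (f i).2] at h3
    rw [map_sum, Finset.sum_eq_single j]
    · exact (hval j).symm
    · intro i _ hij
      rw [hval i]
      exact horth j i _ hij.symm
    · exact fun hj => absurd (Finset.mem_univ j) hj
  have hmove : ∀ (f : I → W) (j : I), h • (∑ i, tr i • (f i : V)) = ∑ i, tr i • (f i : V) →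
      ((tr (h • j))⁻¹ * h * tr j) • (f j : V) = (f (h • j) : V) := by
    intro f j hfix
    have h3 := hequiv h j (∑ i, tr i • (f i : V))
    rw [hfix, hsel, hsel] at h3
    rw [mul_smul, mul_smul, h3, inv_smul_smul]
  have hk : ∀ j : I, (tr (h • j))⁻¹ * h * tr j ∈ H0 := fun j => by
    rw [mem_stabilizer_iff, mul_smul, mul_smul, htr j, inv_smul_eq_iff, htr]
  have hpair : ∀ j : I, (⟨_, hk j⟩ : H0) • q (c j) = q (c (h • j)) := fun j =>
    Prod.ext (Subtype.ext (hmove (fun i => (q (c i)).1) j hh))
      (Subtype.ext (hmove (fun i => (q (c i)).2) j hh'))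
  have hfix : ∀ j, h • j = j := hc h fun j => (hqinj _ _ _ (hpair j)).symm
  intro v
  rw [← hsum v, Finset.smul_sum]
  refine Finset.sum_congr rfl fun j _ => ?_
  have htriv : Triv W (⟨_, hk j⟩ : H0) :=
    hq (c j) _ ((congrArg Prod.fst (hpair j)).trans (by rw [hfix j]))
      ((congrArg Prod.snd (hpair j)).trans (by rw [hfix j]))
  have h3 : ((tr (h • j))⁻¹ * h * tr j) • ((tr j)⁻¹ • e j v) = (tr j)⁻¹ • e j v :=
    congrArg Subtype.val (htriv ⟨_, hcomp j v⟩)
  rwa [hfix, mul_smul, mul_smul, smul_inv_smul, smul_left_cancel_iff] at h3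

end Cfsg.Agent.BT62
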