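import Mathlib
import Cfsg.Agent.BT62.Check

/-!
# The certificates of the small cases
-/

set_option autoImplicit false
set_option maxRecDepth 100000

namespace Cfsg.Agent.BT62.Check

/-- The split model over a prime field. -/
def split (q k : ℕ) : Model := ⟨arithP q, k, split0 (q - 1)⟩

/-- The split model over the field with nine elements. -/
def split9 (k : ℕ) : Model := ⟨arith9, k, split0 2⟩

/-- The nonsplit model over the field with three elements. -/
def nonsplit (k : ℕ) : Model := ⟨arithP 3, k, quat0⟩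

/-- All admissible images of the generators of a certificate are in the list. -/
def listLeaf (L : List (List (ℕ × ℕ))) (f : Bool) (ims : List (ℕ × ℕ)) : Bool := (!f) && L.contains ims

/-- The certificate forces the trivial images. -/
def checkTriv (M : Model) (C : Cert) (fs : List Bool) : Bool :=
  relsOK M C && fs.all fun f => explore M C.X C.Y f (trivialLeaf C) (withCands M C f) [] []

/-- The certificate leaves the listed images. -/
def checkList (M : Model) (C : Cert) (L : List (List (ℕ × ℕ))) : Bool :=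
  relsOK M C && explore M C.X C.Y false (listLeaf L) (withCands M C false) [] []

/-- The image of a word. -/
def timg (G : List ℕ) (ims : List (ℕ × ℕ)) (s : ℕ) : ℕ :=
  (G.zip ims).foldr (fun p acc => if s &&& p.1 == 0 then acc else p.2.2 ^^^ acc) 0

/-- An iterate. -/
def iter (T : ℕ → ℕ) : ℕ → ℕ → ℕ
  | 0, s => s
  | n + 1, s => iter T n (T s)

/-- The first return, if there is one. -/
def ret (T : ℕ → ℕ) (s : ℕ) : ℕ → ℕ → ℕ → ℕ
  | 0, _, _ => 0
  | fuel + 1, n, x => if T x == s then n else ret T s fuel (n + 1) (T x)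

/-- A word whose period is a multiple of three. -/
def per3 (N : ℕ) (T : ℕ → ℕ) : Bool :=
  (List.range N).any fun s =>
    let n := ret T s N 1 s
    (n != 0) && (n % 3 == 0) && (iter T n s == s) &&
      ((List.range n).all fun j => j == 0 || iter T j s != s)

/-- The images of the trivial element. -/
def trivIms (G : List ℕ) : List (ℕ × ℕ) := G.map fun s => (1, s)

/-- Any choice of nontrivial images has a period divisible by three. -/
def checkChoice (k : ℕ) (G : List ℕ) : List (List (List (ℕ × ℕ))) → List (List (ℕ × ℕ)) → Bool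
  | [], acc =>
      (acc.any fun e => per3 (4 ^ k) (timg G e)) ||
      (acc.any fun e => acc.any fun e' => per3 (4 ^ k) fun s => timg G e (timg G e' s))
  | L :: r, acc => L.all fun e => e == trivIms G || checkChoice k G r (e :: acc)

/-- The generators decompose every word. -/
def checkGens (k : ℕ) (G : List ℕ) : Bool :=
  ((List.range (4 ^ k)).all fun s => timg G (trivIms G) s == s) && G.all fun g => g < 4 ^ k

/-- The words are told apart by anticommutation. -/
def checkSep (M : Model) : Bool :=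
  (List.range (4 ^ M.k)).all fun r => r == 0 || (List.range (4 ^ M.k)).any fun u => anti M r u == 1

def cert5_2 : Cert where
  X := 0x2101
  Y := 0x4023
  steps := [
    (4, []),
    (2, [[(0, 1), (1, 2), (2, 3), (4, 1)]]),
    (8, [[(0, 3), (1, 1), (2, 4), (3, 3), (8, 1)]]),
    (1, [[(0, 4), (1, 3), (3, 2), (16, 1)]])]

def cert9_2 : Cert where
  X := 0x3800
  Y := 0x7881
  steps := [
    (8, [[(0, 3), (1, 2), (2, 6), (3, 1)]]),
    (4, [[(0, 1), (4, 1)]]),
    (1, [[(1, 8), (5, 8), (10, 1)]]),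
    (2, [[(0, 4), (1, 8), (5, 4), (16, 1)]])]

def cert5_3 : Cert where
  X := 0x00000231
  Y := 0x03244240
  steps := [
    (16, [[(0, 4), (2, 1)]]),
    (32, [[(1, 3), (3, 2), (4, 1)]]),
    (1, []),
    (8, [[(1, 3), (5, 1), (8, 2), (9, 4), (13, 3), (19, 1)]]),
    (4, [[(0, 4), (1, 3), (3, 3), (9, 3), (11, 3), (32, 1)]]),
    (2, [[(0, 2), (9, 4), (11, 4), (64, 1)]])]

def cert9_3 : Cert where
  X := 0x00002234
  Y := 0x17562181
  steps := [
    (16, [[(0, 2), (2, 1)]]),
    (32, [[(0, 4), (3, 6), (4, 5), (5, 1)]]),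
    (4, [[(0, 4), (1, 3), (4, 7), (9, 6), (15, 1)]]),
    (8, [[(1, 1), (3, 1), (8, 5), (16, 1), (24, 1)]]),
    (1, [[(0, 6), (8, 4), (16, 5), (56, 1)]]),
    (2, [[(0, 5), (8, 7), (16, 1), (88, 1)]])]

def cert5_4 : Cert where
  X := 0x0000000000000321
  Y := 0x3344001303210100
  steps := [
    (16, [[(0, 4), (2, 1)]]),
    (64, [[(0, 4), (4, 1)]]),
    (32, [[(1, 1), (3, 4), (5, 1), (7, 4), (8, 1)]]),
    (4, [[(5, 1), (7, 1), (17, 1), (19, 1)], [(0, 4), (1, 4), (3, 4), (5, 4), (7, 4), (16, 1)]]),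
    (1, [[(0, 1), (7, 2), (11, 3), (13, 2), (17, 2), (41, 1), (43, 1)]]),
    (128, [[(5, 2), (9, 3), (11, 4), (13, 2), (17, 3), (25, 4), (32, 2), (41, 3), (80, 1)]]),
    (8, [[(0, 2), (5, 4), (7, 2), (13, 4), (17, 1), (25, 4), (32, 3), (65, 1), (179, 1)]]),
    (2, [[(5, 2), (7, 3), (9, 4), (25, 2), (32, 3), (37, 4), (41, 2), (65, 3), (424, 1)]])]

def cert3_4 : Cert where
  X := 0x0000000000000112
  Y := 0x0022212001201210
  steps := [
    (16, [[(0, 2), (2, 1)]]),
    (128, [[(1, 1), (3, 1), (5, 1), (7, 1)]]),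
    (64, [[(0, 2), (8, 1)]]),
    (32, [[(0, 2), (4, 2), (17, 1), (21, 1)]]),
    (2, [[(0, 2), (1, 1), (3, 1), (17, 2), (19, 1), (33, 1), (35, 1)]]),
    (8, [[(17, 1), (19, 2), (25, 1), (27, 2), (32, 2), (64, 1)]]),
    (1, [[(0, 1), (1, 1), (3, 1), (9, 1), (11, 1), (160, 1)]]),
    (4, [[(1, 2), (3, 2), (9, 2), (11, 2), (352, 1)]])]

theorem cert5_2_ok : checkTriv (split 5 2) cert5_2 [false] = true := by decide +kernel

theorem cert5_3_ok : checkTriv (split 5 3) cert5_3 [false] = true := by decide +kernel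

theorem cert5_4_ok : checkTriv (split 5 4) cert5_4 [false] = true := by decide +kernel

theorem cert9_2_ok : checkTriv (split9 2) cert9_2 [false, true] = true := by decide +kernel

theorem cert9_3_ok : checkTriv (split9 3) cert9_3 [false, true] = true := by decide +kernel

theorem cert3_4_ok : checkTriv (split 3 4) cert3_4 [false] = true := by decide +kernel

def c2_0 : Cert where
  X := 0x1100
  Y := 0x2121
  steps := [
    (4, [[(0, 1), (2, 1)]]),
    (1, [[(1, 1), (3, 2), (4, 1)]]),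
    (8, [[(1, 2), (9, 1)]]),
    (2, [[(0, 2), (16, 1)]])]

def c2_0L : List (List (ℕ × ℕ)) := [[(1, 4), (1, 1), (1, 8), (1, 2)], [(1, 4), (2, 5), (2, 10), (1, 2)], [(1, 6), (1, 9), (1, 8), (1, 2)], [(1, 6), (1, 15), (2, 10), (1, 2)]]

theorem c2_0_ok : checkList (split 3 2) c2_0 c2_0L = true := by decide +kernel

def c2_1 : Cert where
  X := 0x2210
  Y := 0x1220
  steps := [
    (4, [[(0, 1), (1, 1), (2, 1), (3, 1)]]),
    (1, [[(1, 2), (4, 1)]]),
    (8, [[(0, 2), (1, 1), (8, 2), (9, 1)]]),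
    (2, [[(2, 2), (8, 2), (17, 1)]])]

def c2_1L : List (List (ℕ × ℕ)) := [[(1, 4), (1, 1), (1, 8), (1, 2)], [(1, 4), (1, 1), (2, 9), (2, 6)], [(1, 5), (1, 1), (1, 8), (2, 10)], [(1, 5), (1, 1), (2, 9), (1, 15)]]

theorem c2_1_ok : checkList (split 3 2) c2_1 c2_1L = true := by decide +kernel

def c2_2 : Cert where
  X := 0x0110
  Y := 0x2122
  steps := [
    (4, []),
    (1, [[(2, 1), (4, 1)], [(0, 1), (3, 2), (5, 1)]]),
    (8, [[(1, 1), (13, 1)]]),
    (2, [[(3, 2), (17, 1)]])]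

def c2_2L : List (List (ℕ × ℕ)) := [[(2, 1), (2, 4), (1, 2), (1, 8)], [(1, 2), (2, 8), (2, 1), (1, 4)], [(1, 4), (1, 1), (1, 8), (1, 2)], [(1, 8), (2, 2), (1, 4), (2, 1)]]

theorem c2_2_ok : checkList (split 3 2) c2_2 c2_2L = true := by decide +kernel

def c2G : List ℕ := [4, 1, 8, 2]

theorem c2_choice : checkChoice 2 c2G [c2_0L, c2_1L, c2_2L] [] = true := by decide +kernel

theorem c2_gens : checkGens 2 c2G = true := by decide +kernel

theorem c2_sep : checkSep (split 3 2) = true := by decide +kernel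

theorem c2_steps : [c2_0.steps.map Prod.fst, c2_1.steps.map Prod.fst, c2_2.steps.map Prod.fst] = List.replicate 3 c2G := by
  decide +kernel

def c3_0 : Cert where
  X := 0x00001201
  Y := 0x11022202
  steps := [
    (16, [[(0, 2), (2, 1)]]),
    (4, [[(0, 2), (1, 1), (3, 1), (4, 2), (5, 1), (7, 1)]]),
    (1, [[(4, 2), (9, 1), (11, 1)], [(1, 2), (5, 2), (9, 1), (13, 1)]]),
    (32, [[(5, 2), (17, 1)]]),
    (8, [[(0, 2), (4, 2), (32, 2), (44, 1)]]),
    (2, [[(4, 2), (32, 2), (72, 1)]])]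

def c3_0L : List (List (ℕ × ℕ)) := [[(1, 16), (2, 1), (2, 4), (2, 37), (1, 18), (1, 24)], [(1, 16), (2, 1), (2, 4), (2, 37), (2, 22), (1, 25)], [(1, 16), (1, 4), (1, 1), (1, 32), (1, 8), (1, 2)], [(1, 16), (1, 4), (1, 1), (1, 32), (1, 9), (2, 6)]]

theorem c3_0_ok : checkList (split 3 3) c3_0 c3_0L = true := by decide +kernel

def c3_1 : Cert where
  X := 0x00002101
  Y := 0x22101220
  steps := [
    (16, [[(0, 2), (2, 1)]]),
    (4, [[(0, 1), (1, 2), (3, 2), (4, 2), (5, 1), (7, 1)]]),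
    (1, [[(1, 1), (5, 1), (9, 1), (13, 1)], [(0, 2), (4, 2), (8, 1), (12, 1)]]),
    (32, [[(9, 2), (17, 1)]]),
    (8, [[(1, 2), (8, 2), (16, 2), (37, 1)]]),
    (2, [[(1, 2), (3, 2), (68, 1)]])]

def c3_1L : List (List (ℕ × ℕ)) := [[(1, 16), (1, 4), (1, 1), (1, 32), (1, 8), (1, 2)], [(1, 16), (1, 4), (1, 5), (1, 36), (2, 26), (1, 2)], [(1, 16), (2, 18), (2, 8), (2, 41), (2, 1), (2, 20)], [(1, 16), (2, 18), (1, 26), (2, 59), (2, 5), (2, 20)]]

theorem c3_1_ok : checkList (split 3 3) c3_1 c3_1L = true := by decide +kernel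

def c3_2 : Cert where
  X := 0x00002011
  Y := 0x10110202
  steps := [
    (16, [[(0, 2), (2, 1)]]),
    (4, []),
    (1, [[(1, 2), (3, 2), (9, 1), (11, 1)], [(0, 1), (1, 2), (3, 2), (5, 2), (7, 2), (8, 1)], [(3, 1), (7, 2), (9, 2), (13, 1)]]),
    (32, [[(5, 1), (7, 2), (16, 1)]]),
    (8, [[(0, 1), (1, 2), (3, 2), (32, 1)]]),
    (2, [[(7, 2), (9, 2), (17, 1), (65, 1)]])]

def c3_2L : List (List (ℕ × ℕ)) := [[(1, 16), (1, 4), (1, 1), (1, 32), (1, 8), (1, 2)], [(1, 16), (1, 5), (1, 1), (1, 33), (1, 8), (2, 26)], [(1, 16), (2, 6), (1, 25), (2, 34), (1, 8), (1, 2)], [(1, 16), (1, 31), (1, 25), (2, 59), (1, 8), (2, 26)]]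

theorem c3_2_ok : checkList (split 3 3) c3_2 c3_2L = true := by decide +kernel

def c3G : List ℕ := [16, 4, 1, 32, 8, 2]

theorem c3_choice : checkChoice 3 c3G [c3_0L, c3_1L, c3_2L] [] = true := by decide +kernel

theorem c3_gens : checkGens 3 c3G = true := by decide +kernel

theorem c3_sep : checkSep (split 3 3) = true := by decide +kernel

theorem c3_steps : [c3_0.steps.map Prod.fst, c3_1.steps.map Prod.fst, c3_2.steps.map Prod.fst] = List.replicate 3 c3G := by
  decide +kernel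

def c3m_0 : Cert where
  X := 0x00112201
  Y := 0x02210001
  steps := [
    (16, []),
    (4, [[(1, 2), (2, 1), (3, 2), (4, 1)]]),
    (1, [[(3, 1), (5, 2), (8, 2), (10, 1)]]),
    (32, [[(3, 2), (11, 2), (20, 1)]]),
    (8, [[(0, 1), (3, 1), (5, 1), (48, 1)]]),
    (2, [[(5, 2), (11, 2), (67, 1)]])]

def c3m_0L : List (List (ℕ × ℕ)) := [[(1, 8), (1, 49), (1, 1), (1, 13), (1, 16), (1, 26)], [(1, 16), (1, 4), (1, 1), (1, 32), (1, 8), (1, 2)]]

theorem c3m_0_ok : checkList (nonsplit 3) c3m_0 c3m_0L = true := by decide +kernel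

def c3m_1 : Cert where
  X := 0x12120002
  Y := 0x00112102
  steps := [
    (16, []),
    (4, [[(0, 2), (2, 2), (3, 1), (5, 1)]]),
    (1, [[(2, 2), (4, 1), (9, 2), (11, 1)]]),
    (32, [[(0, 1), (4, 1), (8, 1), (25, 1)]]),
    (8, [[(1, 2), (3, 2), (4, 1), (9, 2), (45, 1)]]),
    (2, [[(2, 2), (8, 2), (64, 1)]])]

def c3m_1L : List (List (ℕ × ℕ)) := [[(1, 16), (1, 4), (1, 1), (1, 32), (1, 8), (1, 2)], [(1, 29), (2, 53), (1, 1), (1, 45), (2, 57), (2, 62)]]

theorem c3m_1_ok : checkList (nonsplit 3) c3m_1 c3m_1L = true := by decide +kernel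

def c3mG : List ℕ := [16, 4, 1, 32, 8, 2]

theorem c3m_choice : checkChoice 3 c3mG [c3m_0L, c3m_1L] [] = true := by decide +kernel

theorem c3m_gens : checkGens 3 c3mG = true := by decide +kernel

theorem c3m_sep : checkSep (nonsplit 3) = true := by decide +kernel

theorem c3m_steps : [c3m_0.steps.map Prod.fst, c3m_1.steps.map Prod.fst] = List.replicate 2 c3mG := by
  decide +kernel

end Cfsg.Agent.BT62.Check
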