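import Mathlib
import Cfsg.Agent.BT62.Colour

/-!
# Supports whose labelling admits no affine symmetry
-/

set_option autoImplicit false
set_option maxRecDepth 20000

namespace Cfsg.Agent.BT62

/-- The label of a vector, shifted by one; zero outside the support. -/
def lab (code j : ℕ) : ℕ := (code >>> (4 * j)) % 16

/-- In the support. -/
def onL (code j : ℕ) : Bool := j != 0 && lab code j != 0

/-- The extension of a table of images and shifts is admissible. -/
def okExt2 (code t φ : ℕ) : ℕ → List (ℕ × ℕ) → Bool
  | _, [] => true
  | j, y :: ys => (t ^^^ y.1) != 0 && onL code (t ^^^ y.1) == onL code j &&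
      (!(onL code j) || (φ ^^^ y.2) == ((lab code j - 1) ^^^ (lab code (t ^^^ y.1) - 1))) &&
      okExt2 code t φ (j + 1) ys

/-- Every admissible table is the identity. -/
def search2 (N code : ℕ) : ℕ → List (ℕ × ℕ) → Bool
  | 0, tbl => tbl.map Prod.fst == List.range N
  | i + 1, tbl => (List.range N).all fun t => (List.range 4).all fun φ =>
      !(okExt2 code t φ tbl.length tbl) ||
        search2 N code i (tbl ++ tbl.map fun y => (t ^^^ y.1, φ ^^^ y.2))

/-- The support has enough triangles. -/
def richL (D code : ℕ) (G : List ℕ) : Bool :=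
  (G.all fun a => decide (a < 2 ^ D) && onL code a && full D ((List.range (2 ^ D)).filter
    fun m => onL code m && (m == a || onL code (a ^^^ m)))) && full D G &&
  (List.range (2 ^ D)).all fun j => lab code j ≤ 4

/-- The two bits of a number. -/
def two (c : ℕ) : Fin 2 → ZMod 2 := dec 2 c

theorem xor_four {a b : ℕ} (ha : a < 4) (hb : b < 4) : a ^^^ b < 4 :=
  Nat.xor_lt_two_pow (n := 2) ha hb

/-- What a checked labelling gives. -/
theorem plane_of_check {D code : ℕ} {G : List ℕ} (hs : search2 (2 ^ D) code D [(0, 0)] = true)
    (hr : richL D code G = true) :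
    ∃ (S : Set (Fin D → ZMod 2)) (f : (Fin D → ZMod 2) → ℕ),
      (∀ x ∈ S, x ≠ 0) ∧ (∀ x, f x < 4) ∧
      (∃ G' ⊆ S, AddSubgroup.closure G' = ⊤ ∧ ∀ a ∈ G',
        AddSubgroup.closure {m | m ∈ S ∧ (a + m ∈ S ∨ a + m = 0)} = ⊤) ∧
      ∀ (T : (Fin D → ZMod 2) →+ (Fin D → ZMod 2)) (φ : (Fin D → ZMod 2) →+ (Fin 2 → ZMod 2)),
        Function.Injective T → (∀ x, x ≠ 0 → (T x ∈ S ↔ x ∈ S)) →
        (∀ x ∈ S, φ x = two (f x) + two (f (T x))) → ∀ x, T x = x := by
  classical
  simp only [richL, Bool.and_eq_true, List.all_eq_true, List.mem_range, decide_eq_true_eq] at hr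
  obtain ⟨⟨hG, hGf⟩, hlab⟩ := hr
  choose inv hinv1 hinv2 using fun x : Fin D → ZMod 2 => dec_surj x
  have hinv : ∀ j < 2 ^ D, inv (dec D j) = j := fun j hj => dec_inj (hinv1 _) hj (hinv2 _)
  let S : Set (Fin D → ZMod 2) := {x | onL code (inv x) = true}
  let f : (Fin D → ZMod 2) → ℕ := fun x => lab code (inv x) - 1
  have hS : ∀ j < 2 ^ D, (dec D j ∈ S ↔ onL code j = true) := fun j hj => by
    show onL code _ = true ↔ _; rw [hinv j hj]
  have hf : ∀ j < 2 ^ D, f (dec D j) = lab code j - 1 := fun j hj => by
    show lab code _ - 1 = _; rw [hinv j hj]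
  have hflt : ∀ x, f x < 4 := fun x => by
    have := hlab (inv x) (hinv1 x)
    show lab code (inv x) - 1 < 4
    omega
  refine ⟨S, f, fun x hx h0 => ?_, hflt, ?_, ?_⟩
  · subst h0
    have h1 : inv 0 = 0 := by
      have := hinv 0 (Nat.two_pow_pos D)
      rwa [dec_zero] at this
    have h2 : onL code (inv 0) = true := hx
    rw [h1] at h2
    simp [onL] at h2
  · refine ⟨dec D '' {a | a ∈ G}, ?_, ?_, ?_⟩
    · rintro _ ⟨a, ha, rfl⟩
      exact (hS a (hG a ha).1.1).mpr (hG a ha).1.2
    · exact full_spec hGf fun v hv => AddSubgroup.subset_closure ⟨v, hv, rfl⟩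
    · rintro _ ⟨a, ha, rfl⟩
      refine full_spec (hG a ha).2 fun v hv => AddSubgroup.subset_closure ?_
      rw [List.mem_filter, List.mem_range] at hv
      obtain ⟨hv, hv'⟩ := hv
      simp only [Bool.and_eq_true, Bool.or_eq_true, beq_iff_eq] at hv'
      refine ⟨(hS v hv).mpr hv'.1, ?_⟩
      rcases hv'.2 with rfl | h
      · right; rw [← dec_xor, Nat.xor_self, dec_zero]
      · left; rw [← dec_xor]; exact (hS _ (Nat.xor_lt_two_pow (hG a ha).1.1 hv)).mpr h
  · intro T φ hT hTS hφ
    choose ph hph1 hph2 using fun y : Fin 2 → ZMod 2 => dec_surj y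
    have walk : ∀ (i d : ℕ) (tbl : List (ℕ × ℕ)), i + d = D → tbl.length = 2 ^ i →
        (∀ j (hj : j < tbl.length), tbl[j].1 < 2 ^ D ∧ dec D tbl[j].1 = T (dec D j) ∧
          tbl[j].2 < 4 ∧ dec 2 tbl[j].2 = φ (dec D j)) →
        search2 (2 ^ D) code d tbl = true → ∀ x, T x = x := by
      intro i d
      induction d generalizing i with
      | zero =>
        intro tbl hid hlen htbl hs x
        rw [search2, beq_iff_eq] at hs
        obtain ⟨j, hj, rfl⟩ := dec_surj x
        have hj' : j < tbl.length := by
          rw [← List.length_map (f := Prod.fst), hs, List.length_range]; exact hj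
        have h1 : tbl[j].1 = j := by
          have h := List.getElem_map Prod.fst (l := tbl) (i := j) (h := by simpa using hj')
          simp only [hs, List.getElem_range] at h
          exact h.symm
        have := (htbl j hj').2.1
        rw [h1] at this
        exact this.symm
      | succ d ih =>
        intro tbl hid hlen htbl hs
        rw [search2, List.all_eq_true] at hs
        set t := inv (T (dec D (2 ^ i))) with ht
        set s := ph (φ (dec D (2 ^ i))) with hsdef
        have hs4 : s < 4 := hph1 _
        have hs' := hs t (List.mem_range.mpr (hinv1 _))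
        rw [List.all_eq_true] at hs'
        have hs'' := hs' s (List.mem_range.mpr hs4)
        have hi2 : 2 ^ i + 2 ^ i ≤ 2 ^ D := by
          rw [← two_mul, ← pow_succ']
          exact Nat.pow_le_pow_right two_pos (by omega)
        have himg : ∀ j (hj : j < tbl.length),
            dec D (t ^^^ tbl[j].1) = T (dec D (2 ^ i + j)) ∧
              dec 2 (s ^^^ tbl[j].2) = φ (dec D (2 ^ i + j)) := fun j hj => by
          constructor
          · rw [dec_xor, (htbl j hj).2.1, ht, hinv2, dec_two_pow_add (hlen ▸ hj), map_add]
          · rw [dec_xor, (htbl j hj).2.2.2, hsdef, hph2, dec_two_pow_add (hlen ▸ hj), map_add]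
        have hok : okExt2 code t s tbl.length tbl = true := by
          have : ∀ (b : ℕ) (l : List (ℕ × ℕ)), (∀ j (hj : j < l.length),
              (t ^^^ l[j].1) ≠ 0 ∧ onL code (t ^^^ l[j].1) = onL code (b + j) ∧
                (onL code (b + j) = true → s ^^^ l[j].2 =
                  (lab code (b + j) - 1) ^^^ (lab code (t ^^^ l[j].1) - 1))) →
              okExt2 code t s b l = true := by
            intro b l
            induction l generalizing b with
            | nil => intro _; rfl
            | cons y ys ihl =>
              intro hall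
              have h0 := hall 0 (by simp)
              simp only [List.getElem_cons_zero, add_zero] at h0
              simp only [okExt2, Bool.and_eq_true, bne_iff_ne, beq_iff_eq, Bool.or_eq_true,
                Bool.not_eq_true']
              refine ⟨⟨⟨h0.1, h0.2.1⟩, ?_⟩, ihl (b + 1) fun j hj => ?_⟩
              · cases hb : onL code b
                · exact Or.inl rfl
                · exact Or.inr (h0.2.2 hb)
              have h1 := hall (j + 1) (by simpa using hj)
              simp only [List.getElem_cons_succ] at h1
              rwa [add_assoc, add_comm 1 j]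
          refine this _ _ fun j hj => ?_
          have hb : tbl.length + j < 2 ^ D := by omega
          have hne : dec D (2 ^ i + j) ≠ 0 := by
            intro h
            have := dec_inj (by omega) (Nat.two_pow_pos D) (h.trans (dec_zero D).symm)
            have := Nat.two_pow_pos i
            omega
          have hlt : t ^^^ tbl[j].1 < 2 ^ D := Nat.xor_lt_two_pow (hinv1 _) (htbl j hj).1
          have hST := hTS _ hne
          rw [← (himg j hj).1, hS _ hlt, hS _ (by omega), ← Bool.eq_iff_iff] at hST
          refine ⟨fun h0 => hne (hT ?_), by rw [hlen]; exact hST, fun hon => ?_⟩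
          · rw [← (himg j hj).1, h0, dec_zero, map_zero]
          · rw [hlen] at hon hb ⊢
            have h1 := hφ _ ((hS _ hb).mpr hon)
            rw [← (himg j hj).2, ← (himg j hj).1, hf _ hb, hf _ hlt] at h1
            simp only [two, ← dec_xor] at h1
            refine dec_inj (D := 2) (xor_four hs4 (htbl j hj).2.2.1) (xor_four ?_ ?_) h1
            · have := hlab _ hb; omega
            · have := hlab _ hlt; omega
        rw [hok] at hs''
        simp only [Bool.not_true, Bool.false_or] at hs''
        refine ih (i + 1) _ (by omega) (by simp [hlen, pow_succ]; omega) ?_ hs''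
        intro j hj
        by_cases hj' : j < tbl.length
        · rw [List.getElem_append_left hj']
          exact htbl j hj'
        · rw [List.getElem_append_right (by omega), List.getElem_map]
          have hjl : j - tbl.length < tbl.length := by
            simp only [List.length_append, List.length_map] at hj; omega
          have h := himg _ hjl
          rw [show 2 ^ i + (j - tbl.length) = j by omega] at h
          exact ⟨Nat.xor_lt_two_pow (hinv1 _) (htbl _ hjl).1, h.1, xor_four hs4 (htbl _ hjl).2.2.1, h.2⟩
    refine walk 0 D [(0, 0)] (by omega) rfl ?_ hs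
    intro j hj
    simp only [List.length_singleton, Nat.lt_one_iff] at hj
    subst hj
    exact ⟨by simp, by simp [dec_zero], by simp, by simp [dec_zero]⟩

theorem search2_three : search2 (2 ^ 3) 286462016 3 [(0, 0)] = true := by decide +kernel

theorem rich_three : richL 3 286462016 [1, 3, 4] = true := by decide +kernel

theorem search2_four : search2 (2 ^ 4) 4918830267724153888 4 [(0, 0)] = true := by decide +kernel

theorem rich_four : richL 4 4918830267724153888 [1, 2, 4, 8] = true := by decide +kernel

end Cfsg.Agent.BT62
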