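import Mathlib
import Cfsg.Agent.BT62.Basis
import Cfsg.Agent.BT62.Plane

/-!
# Regular pairs from labelled components in the nonsplit case
-/

set_option autoImplicit false

namespace Cfsg.Agent.BT62

open scoped commutatorElement
open BC85.BaseTwo BC85.BaseThree

variable {H V K : Type} [Group H] [Finite H] [AddCommGroup V] [DistribMulAction H V] [Field K]
  [Finite K] [Module K V] (F : FD H V K)

namespace FD

/-- A labelled support without affine symmetries gives a regular pair. -/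
theorem exists_pair_plane [FaithfulSMul H V] (hX : ∀ x : F.X, 2 • x = 0) (h2 : (2 : K) ≠ 0)
    (hpA : F.p ∉ F.A) {D : ℕ} (e : F.X ≃+ (Fin D → ZMod 2))
    (hfix : ∀ (n : F.N) (u : K), F.lmap n * F.lmap n = u • 1 → F.IsSq n ∨ ∃ c : K, c ≠ 0 ∧ -u = c ^ 2)
    (S : Set (Fin D → ZMod 2)) (f : (Fin D → ZMod 2) → ℕ) (hS0 : ∀ x ∈ S, x ≠ 0) (hf : ∀ x, f x < 4)
    (hrich : ∃ G' ⊆ S, AddSubgroup.closure G' = ⊤ ∧ ∀ a ∈ G',
      AddSubgroup.closure {m | m ∈ S ∧ (a + m ∈ S ∨ a + m = 0)} = ⊤)
    (hrig : ∀ (T : (Fin D → ZMod 2) →+ (Fin D → ZMod 2)) (φ : (Fin D → ZMod 2) →+ (Fin 2 → ZMod 2)),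
      Function.Injective T → (∀ x, x ≠ 0 → (T x ∈ S ↔ x ∈ S)) →
      (∀ x ∈ S, φ x = two (f x) + two (f (T x))) → ∀ x, T x = x) :
    ∃ x y : V, ∀ g : H, g • x = x → g • y = y → g = 1 := by
  classical
  haveI : Finite F.X := inferInstanceAs (Finite (Additive (F.N ⧸ F.Y.subgroupOf F.N)))
  haveI : Fintype F.X := Fintype.ofFinite _
  have hm : (-1 : K) ≠ 1 := fun h => h2 (by linear_combination -h)
  rcases F.shape with ⟨hp1, -⟩ | ⟨p2, hp2N, hp2c, -, hp2A, -, hanti, -, -, hYle, -, -⟩
  · exact absurd (hp1 ▸ F.A.one_mem) hpA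
  set P : F.N := ⟨F.p, F.hp⟩ with hPdef
  set R : F.N := ⟨p2, hp2N⟩ with hRdef
  have hPY : (P : H) ∈ F.Y := F.hpY
  have hRY : (R : H) ∈ F.Y := F.mem_Y.mpr ⟨hp2N, hp2c⟩
  have hPR : F.sgn P R = -1 := by
    rw [F.sgn_symm' hX R P]
    have h := congrArg (fun φ : Module.End K V => φ F.v) (F.lmap_swap R P)
    simp only [LinearMap.smul_apply, Module.End.mul_apply, lmap_apply, hPdef, hRdef] at h
    rw [hanti, ← sub_eq_zero, ← sub_smul, smul_eq_zero] at h
    refine (sub_eq_zero.mp (h.resolve_right fun h0 => ?_)).symm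
    simp only [smul_eq_zero_iff_eq] at h0
    exact F.hv h0
  obtain ⟨B⟩ := F.exists_basis hX h2 e P R hPY hRY (Or.inl hPR) hfix
  -- the class in the plane
  let bit : K → ZMod 2 := fun x => if x = 1 then 0 else 1
  let cl : F.N → (Fin 2 → ZMod 2) := fun n i => bit (F.sgn n (if i = 0 then R else P))
  have hclmul : ∀ n m, cl (n * m) = cl n + cl m := fun n m => by
    funext i
    simp only [cl, bit, Pi.add_apply, F.sgn_mulL]
    rcases F.sgn_pm hX n (if i = 0 then R else P) with h | h <;>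
      rcases F.sgn_pm hX m (if i = 0 then R else P) with h' | h' <;> simp [h, h', hm] <;> decide
  have hclA : ∀ n : F.N, (n : H) ∈ F.A → cl n = 0 := fun n hn => by
    funext i
    refine if_pos ?_
    rw [F.sgn_symm' hX (if i = 0 then R else P) n]
    exact F.sgn_YA (by split <;> assumption) hn
  let yrep : ℕ → F.N := fun c => P ^ (c % 2) * R ^ (c / 2)
  have hyY : ∀ c, (yrep c : H) ∈ F.Y := fun c => by
    simp only [yrep, Subgroup.coe_mul, SubgroupClass.coe_pow]
    exact F.Y.mul_mem (F.Y.pow_mem hPY _) (F.Y.pow_mem hRY _)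
  have hcl1 : cl 1 = 0 := hclA 1 F.A.one_mem
  have hclinv : ∀ n, cl n⁻¹ = cl n := fun n => by
    have h := hclmul n⁻¹ n
    rw [inv_mul_cancel, hcl1] at h
    have := congrArg (· + cl n) h
    simp only [zero_add, add_assoc, two_self, add_zero] at this
    exact this.symm
  have hclP : ∀ c < 4, cl (yrep c) = two c := by
    intro c hc
    have hcP : cl P = two 1 := by
      funext i
      fin_cases i <;> simp [cl, bit, two, dec, hPR, hm, F.sgn_self] <;> decide
    have hcR : cl R = two 2 := by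
      funext i
      fin_cases i <;> simp [cl, bit, two, dec, hm, F.sgn_self, F.sgn_symm' hX P R, hPR,
        Nat.testBit]
    simp only [yrep]
    interval_cases c <;> simp [hcl1, hclmul, hcP, hcR, two]
    · exact (dec_zero 2).symm
    · exact (dec_xor 2 1 2).symm
  -- the shift section
  let InB : F.N → Prop := fun n =>
    F.sgn n P = 1 ∧ F.sgn n R = 1 ∧ ∀ j < D, F.sgn n (B.b j) = 1
  have hBmul : ∀ n m, InB n → InB m → InB (n * m) := fun n m ⟨h1, h2, h3⟩ ⟨h4, h5, h6⟩ =>
    ⟨by rw [F.sgn_mulL, h1, h4, one_mul], by rw [F.sgn_mulL, h2, h5, one_mul],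
      fun j hj => by rw [F.sgn_mulL, h3 j hj, h6 j hj, one_mul]⟩
  have hBinv : ∀ n, InB n → InB n⁻¹ := fun n ⟨h1, h2, h3⟩ => by
    have key : ∀ q, F.sgn n q = 1 → F.sgn n⁻¹ q = 1 := fun q h => by
      have h' := F.sgn_mulL n⁻¹ n q
      rw [inv_mul_cancel, h, mul_one, F.sgn_eq_one (by simp)] at h'
      exact h'.symm
    exact ⟨key _ h1, key _ h2, fun j hj => key _ (h3 j hj)⟩
  have hBcl : ∀ n, InB n → cl n = 0 := fun n ⟨h1, h2, _⟩ => by
    funext i
    refine if_pos ?_
    fin_cases i <;> simp [h1, h2]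
  have hBex : ∀ x : F.X, ∃ n : F.N, InB n ∧ F.cls n = x := by
    let C : AddSubgroup F.X :=
      { carrier := {x | ∃ n : F.N, InB n ∧ F.cls n = x}
        zero_mem' := ⟨1, ⟨F.sgn_eq_one (by simp), F.sgn_eq_one (by simp),
          fun _ _ => F.sgn_eq_one (by simp)⟩, F.cls_one⟩
        add_mem' := fun {x x'} ⟨n, hn, h⟩ ⟨n', hn', h'⟩ =>
          ⟨n * n', hBmul n n' hn hn', by rw [F.cls_mul, h, h']⟩
        neg_mem' := fun {x} hx => by
          rw [neg_eq_of_add_eq_zero_left (show x + x = 0 by rw [← two_nsmul, hX])]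
          exact hx }
    intro x
    have key : ∀ g, g ∈ AddSubgroup.closure (Set.range (ev (r := 2) (D := D))) → e.symm g ∈ C :=
      fun g hg => by
        induction hg using AddSubgroup.closure_induction with
        | mem y hy =>
          obtain ⟨i, rfl⟩ := hy
          exact ⟨B.b i, ⟨B.hbP i i.2, B.hbR i i.2, fun j hj => B.hbb i i.2 j hj⟩, B.hcls i⟩
        | zero => rw [map_zero]; exact C.zero_mem
        | add a b _ _ ha hb => rw [map_add]; exact C.add_mem ha hb
        | neg a _ ha => rw [map_neg]; exact C.neg_mem ha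
    have := key (e x) (closure_ev.symm ▸ AddSubgroup.mem_top _)
    rwa [e.symm_apply_apply] at this
  choose s hs1 hs2 using hBex
  have hBU : ∀ n, InB n → F.cls n = 0 → (n : H) ∈ F.U := by
    intro n hn h0
    have hnY := (F.cls_eq_zero n).mp h0
    let M : Subgroup H :=
      { carrier := {x | ∃ h : x ∈ F.N, F.sgn n ⟨x, h⟩ = 1}
        one_mem' := ⟨F.N.one_mem, F.sgn_eq_one (by simp)⟩
        mul_mem' := fun {a b} ⟨ha, ha'⟩ ⟨hb, hb'⟩ => ⟨F.N.mul_mem ha hb, by
          rw [show (⟨a * b, F.N.mul_mem ha hb⟩ : F.N) = ⟨a, ha⟩ * ⟨b, hb⟩ from rfl, F.sgn_mulR, ha',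
            hb', one_mul]⟩
        inv_mem' := fun {a} ⟨ha, ha'⟩ => ⟨F.N.inv_mem ha, by
          rw [F.sgn_one_iff] at ha' ⊢
          exact Commute.inv_right ha'⟩ }
    have hNM : F.N ≤ M := B.gen F hX h2
      (fun u hu => ⟨F.hN.le hu, F.sgn_eq_one (F.cenU hu n.2).symm⟩)
      (fun i hi => ⟨(B.a i).2, F.sgn_YA hnY (B.haA i hi)⟩)
      (fun i hi => ⟨(B.b i).2, hn.2.2 i hi⟩)
      (fun hA y hy => (sup_le hA (by
        rw [Subgroup.closure_le]
        rintro q (rfl | rfl)
        · exact ⟨F.hp, hn.1⟩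
        · exact ⟨hp2N, hn.2.1⟩) : F.A ⊔ Subgroup.closure {F.p, p2} ≤ M)
        (hYle y (F.mem_Y.mp hy).1 (F.mem_Y.mp hy).2))
    refine F.hN.centre _ (F.hN.cen n.2) fun y hy => ?_
    obtain ⟨h, h'⟩ := hNM hy
    exact F.sgn_one_iff.mp h'
  -- the vectors
  obtain ⟨z0, hz0, hz0'⟩ := F.exists_origin
  let u : F.X → F.N := fun x => (F.sec x)⁻¹ * s x * yrep (f (e x))
  let w : F.X → V := fun x => if x = 0 then z0 else if e x ∈ S then (u x : H) • F.v else 0
  refine ⟨F.v, ∑ x, (F.sec x : H) • w x, fun g hgv hgy => ?_⟩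
  have hwm : ∀ x, w x ∈ F.Eig 0 := fun x => by
    show ite _ _ _ ∈ _
    split_ifs
    · exact hz0
    · refine F.Y_smul_mem ?_ F.v_mem
      simp only [u, Subgroup.coe_mul, Subgroup.coe_inv]
      exact F.Y.mul_mem ((F.cls_eq_iff (F.sec x) (s x)).mp (by rw [F.cls_sec, hs2])) (hyY _)
    · exact (F.Eig 0).zero_mem
  have hcomp := F.fix_comp hgv w hwm hgy
  have hT0 := F.T_zero hgv
  have h0 := hcomp 0
  rw [hT0, F.sec_zero, OneMemClass.coe_one, one_smul] at h0
  have hw0 : w 0 = z0 := if_pos rfl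
  rw [hw0] at h0
  obtain ⟨hgC, hgp⟩ := hz0' g hgv h0
  have hTne : ∀ x, x ≠ 0 → F.Tfun g x ≠ 0 := fun x hx h => hx (F.T_inj hgv (h.trans hT0.symm))
  have hC : ∀ x, x ≠ 0 → e x ∈ S →
      (F.sec x : H) • w x = ((s x : H) * (yrep (f (e x)) : H)) • F.v := fun x hx hxS => by
    show (F.sec x : H) • ite _ _ _ = _
    rw [if_neg hx, if_pos hxS, ← mul_smul]
    simp only [u, Subgroup.coe_mul, Subgroup.coe_inv, ← mul_assoc, mul_inv_cancel, one_mul]
  have hne : ∀ n : H, n • F.v ≠ 0 := fun n h => F.hv ((smul_eq_zero_iff_eq n).mp h)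
  have hTS : ∀ x, x ≠ 0 → (e (F.Tfun g x) ∈ S ↔ e x ∈ S) := by
    intro x hx
    have h := hcomp x
    constructor
    · intro h1
      by_contra h2'
      rw [show w x = 0 from (if_neg hx).trans (if_neg h2'), smul_zero, smul_zero,
        hC _ (hTne x hx) h1] at h
      exact hne _ h.symm
    · intro h1
      by_contra h2'
      rw [show w (F.Tfun g x) = 0 from (if_neg (hTne x hx)).trans (if_neg h2'), smul_zero, hC _ hx h1,
        smul_eq_zero_iff_eq] at h
      exact hne _ h
  let η : F.X → F.N := fun x => (s (F.Tfun g x))⁻¹ * F.cj g (s x)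
  have hηY : ∀ x, (η x : H) ∈ F.Y := fun x => by
    refine (F.cls_eq_iff (s (F.Tfun g x)) (F.cj g (s x))).mp ?_
    rw [hs2, ← F.T_cls hgv, hs2]
  have hgy : ∀ (y : H), y ∈ F.Y → g • y • F.v = y • F.v := fun y hy => F.fix_span hgv hgC hgp hy
  have hkey : ∀ x, x ≠ 0 → e x ∈ S →
      ((yrep (f (e (F.Tfun g x))))⁻¹ * η x * yrep (f (e x)) : F.N).1 ∈ F.A := by
    intro x hx hxS
    have hg' : g • (s x : H) • (yrep (f (e x)) : H) • F.v =
        ((g * s x * g⁻¹) * (yrep (f (e x)) : H)) • F.v := by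
      conv_rhs => rw [mul_smul, mul_smul, mul_smul]
      rw [inv_smul_eq_iff.mpr (hgy _ (hyY _)).symm]
    have h := hcomp x
    rw [hC x hx hxS, hC _ (hTne x hx) ((hTS x hx).mpr hxS), mul_smul, hg'] at h
    refine ⟨((yrep (f (e (F.Tfun g x))))⁻¹ * η x * yrep (f (e x)) : F.N).2, 1, ?_⟩
    have e1 : ((yrep (f (e (F.Tfun g x))))⁻¹ * η x * yrep (f (e x)) : F.N).1 =
        ((s (F.Tfun g x) : H) * (yrep (f (e (F.Tfun g x))) : H))⁻¹ *
          ((g * s x * g⁻¹) * (yrep (f (e x)) : H)) := by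
      simp only [η, FD.cj, Subgroup.coe_mul, Subgroup.coe_inv, mul_inv_rev, mul_assoc]
    rw [one_smul, e1, mul_smul, h, inv_smul_smul]
  have hclconj : ∀ x, cl (F.cj g (s x)) = cl (η x) := fun x => by
    rw [hclmul, hclinv, hBcl _ (hs1 _), zero_add]
  have hcjmul : ∀ n m : F.N, F.cj g (n * m) = F.cj g n * F.cj g m := fun n m => Subtype.ext (by
    show g * ((n : H) * m) * g⁻¹ = g * n * g⁻¹ * (g * m * g⁻¹)
    group)
  let φ0 : F.X → (Fin 2 → ZMod 2) := fun x => cl (F.cj g (s x))
  have hφadd : ∀ x x', φ0 (x + x') = φ0 x + φ0 x' := fun x x' => by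
    set d : F.N := (s x * s x')⁻¹ * s (x + x')
    have hd : (d : H) ∈ F.U := by
      refine hBU d (hBmul _ _ (hBinv _ (hBmul _ _ (hs1 x) (hs1 x'))) (hs1 _)) ?_
      rw [F.cls_eq_zero]
      exact (F.cls_eq_iff (s x * s x') (s (x + x'))).mp (by rw [F.cls_mul, hs2, hs2, hs2])
    have hcd : F.cj g d = d := Subtype.ext (by
      show g * (d : H) * g⁻¹ = d
      rw [← Subgroup.mem_centralizer_iff.mp hgC _ hd, mul_inv_cancel_right])
    show cl (F.cj g (s (x + x'))) = cl (F.cj g (s x)) + cl (F.cj g (s x'))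
    rw [show s (x + x') = s x * s x' * d from (mul_inv_cancel_left _ _).symm, hcjmul, hcjmul, hclmul,
      hclmul, hcd, hclA d (F.hUA hd), add_zero]
  let T' : (Fin D → ZMod 2) →+ (Fin D → ZMod 2) :=
    AddMonoidHom.mk' (fun x => e (F.Tfun g (e.symm x))) fun a b => by
      rw [map_add, F.T_add hgv, map_add]
  let φ : (Fin D → ZMod 2) →+ (Fin 2 → ZMod 2) :=
    AddMonoidHom.mk' (fun x => φ0 (e.symm x)) fun a b => by rw [map_add, hφadd]
  have hsne : ∀ x : Fin D → ZMod 2, x ≠ 0 → e.symm x ≠ 0 := fun x hx h =>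
    hx (by simpa using congrArg e h)
  have hid := hrig T' φ (e.injective.comp ((F.T_inj hgv).comp e.symm.injective))
    (fun x hx => by
      have := hTS _ (hsne x hx)
      rwa [e.apply_symm_apply] at this)
    (fun x hx => by
      have h := hkey _ (hsne x (hS0 x hx)) (by rwa [e.apply_symm_apply])
      have h1 := hclA _ h
      rw [hclmul, hclmul, hclinv, hclP _ (hf _), hclP _ (hf _), e.apply_symm_apply, ← hclconj] at h1
      show φ0 (e.symm x) = two (f x) + two (f (e (F.Tfun g (e.symm x))))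
      have h2' := congrArg (fun q => two (f (e (F.Tfun g (e.symm x)))) + q + two (f x)) h1
      simp only [add_zero] at h2'
      rw [add_comm (two (f x)), ← h2', ← add_assoc, ← add_assoc, two_self, zero_add, add_assoc,
        two_self, add_zero])
  have hTid : ∀ x, F.Tfun g x = x := fun x => by
    have : e (F.Tfun g (e.symm (e x))) = e x := hid (e x)
    rw [e.symm_apply_apply] at this
    exact e.injective this
  obtain ⟨G', hG', hGtop, hpart⟩ := hrich
  let S' : Set F.X := {x | e x ∈ S}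
  refine F.eq_one hgv hgC hgp S' ?_ ?_ ?_
  · rw [eq_top_iff]
    intro x _
    have key : ∀ z, z ∈ AddSubgroup.closure G' → e.symm z ∈ AddSubgroup.closure S' := fun z hz => by
      induction hz using AddSubgroup.closure_induction with
      | mem y hy =>
        exact AddSubgroup.subset_closure (show e (e.symm y) ∈ S by rw [e.apply_symm_apply]; exact hG' hy)
      | zero => rw [map_zero]; exact AddSubgroup.zero_mem _
      | add a b _ _ ha hb => rw [map_add]; exact AddSubgroup.add_mem _ ha hb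
      | neg a _ ha => rw [map_neg]; exact AddSubgroup.neg_mem _ ha
    have := key (e x) (hGtop ▸ AddSubgroup.mem_top _)
    rwa [e.symm_apply_apply] at this
  · intro β hBl hBr hBS
    have b0l : ∀ b, β 0 b = 1 := fun b => by
      have := hBl 0 0 b; rw [add_zero] at this; exact left_eq_mul.mp this
    have b0r : ∀ a, β a 0 = 1 := fun a => by
      have := hBr a 0 0; rw [add_zero] at this; exact left_eq_mul.mp this
    have hn : ∀ y : F.X, -y = y := fun y =>
      neg_eq_of_add_eq_zero_left (by rw [← two_nsmul, hX])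
    intro a b
    have hGb : ∀ q ∈ G', β (e.symm q) b = 1 := by
      intro q hq
      have key : ∀ z, z ∈ AddSubgroup.closure {m | m ∈ S ∧ (q + m ∈ S ∨ q + m = 0)} →
          β (e.symm q) (e.symm z) = 1 := fun z hz => by
        induction hz using AddSubgroup.closure_induction with
        | mem m hm =>
          refine hBS _ (show e _ ∈ S by rw [e.apply_symm_apply]; exact hG' hq) _
            (show e _ ∈ S by rw [e.apply_symm_apply]; exact hm.1) ?_
          rw [← map_add]
          rcases hm.2 with h | h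
          · left; show e _ ∈ S; rwa [e.apply_symm_apply]
          · right; rw [h, map_zero]
        | zero => rw [map_zero, b0r]
        | add a b _ _ ha hb => rw [map_add, hBr, ha, hb, one_mul]
        | neg a _ ha => rw [map_neg, hn, ha]
      have := key (e b) (hpart q hq ▸ AddSubgroup.mem_top _)
      rwa [e.symm_apply_apply] at this
    have key : ∀ z, z ∈ AddSubgroup.closure G' → β (e.symm z) b = 1 := fun z hz => by
      induction hz using AddSubgroup.closure_induction with
      | mem m hm => exact hGb m hm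
      | zero => rw [map_zero, b0l]
      | add a b _ _ ha hb => rw [map_add, hBl, ha, hb, one_mul]
      | neg a _ ha => rw [map_neg, hn, ha]
    have := key (e a) (hGtop ▸ AddSubgroup.mem_top _)
    rwa [e.symm_apply_apply] at this
  · intro x hxS
    have hx : x ≠ 0 := fun h => hS0 _ hxS (by rw [h, map_zero])
    have hA := hkey x hx hxS
    rw [hTid x] at hA
    set y : H := ((yrep (f (e x)) : F.N) : H) with hy
    have hyY' : y ∈ F.Y := hyY _
    set a : H := y⁻¹ * (η x : H) * y with ha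
    have hA' : a ∈ F.A := by simpa [ha, hy] using hA
    have hηa : (η x : H) = a := by
      calc (η x : H) = y * a * y⁻¹ := by rw [ha]; group
        _ = a := by rw [← (F.mem_Y.mp hyY').2 a hA', mul_inv_cancel_right]
    -- the scalar is trivial
    have hg' : ∀ q ∈ F.Y, g • (s x : H) • q • F.v = (s x : H) • (η x : H) • q • F.v := fun q hq => by
      have e1 : (η x : H) = (s x : H)⁻¹ * (g * s x * g⁻¹) := by
        show ((s (F.Tfun g x))⁻¹ * F.cj g (s x) : F.N).1 = _
        rw [hTid]; rfl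
      rw [e1, mul_smul, smul_inv_smul, mul_smul, mul_smul, inv_smul_eq_iff.mpr (hgy q hq).symm]
    have h := hcomp x
    rw [hTid x, hC x hx hxS, mul_smul, hg' y hyY', hηa, smul_left_cancel_iff, ← mul_smul,
      (F.mem_Y.mp hyY').2 a hA', mul_smul, smul_left_cancel_iff] at h
    set y0 : H := (s x : H)⁻¹ * (F.sec x : H) with hy0
    have hy0Y : y0 ∈ F.Y := (F.cls_eq_iff (s x) (F.sec x)).mp (by rw [hs2, F.cls_sec])
    have e2 : (F.sec x : H) • F.v = (s x : H) • y0 • F.v := by
      rw [hy0, mul_smul, smul_inv_smul]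
    rw [e2, hg' y0 hy0Y, hηa, ← mul_smul a, (F.mem_Y.mp hy0Y).2 a hA', mul_smul, h]

end FD

end Cfsg.Agent.BT62
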