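import Mathlib
import Cfsg.Agent.BT62.Setup

/-!
# The statement proved for modules with a symplectic section
-/

set_option autoImplicit false

namespace Cfsg.Agent.BT62

/-- A coprime linear group with a frame over a maximal abelian normal subgroup has a regular
pair. -/
def SecPair : Prop :=
  ∀ (H V K : Type) [Group H] [Finite H] [AddCommGroup V] [Finite V] [DistribMulAction H V]
    [FaithfulSMul H V] [Field K] [Finite K] [Module K V] (F : FD H V K),
    (∀ A : Subgroup H, A.Normal → F.U ≤ A → (∀ a ∈ A, ∀ b ∈ A, a * b = b * a) → A = F.U) →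
    (2 : K) ≠ 0 → (Nat.card H).Coprime (Nat.card K) →
    ∃ x y : V, ∀ g : H, g • x = x → g • y = y → g = 1

end Cfsg.Agent.BT62
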