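import Mathlib
import Cfsg.Agent.BT62.Blocks
import Cfsg.Agent.BT62.Sec
import Cfsg.Agent.BC85.BaseTwo.Field

/-!
# Irreducible faithful coprime modules of solvable groups
-/

set_option autoImplicit false

namespace Cfsg.Agent.BT62

open BC85.BaseTwo BC85.BaseThree

section

variable {H V : Type} [Group H] [Finite H] [AddCommGroup V] [Finite V] [DistribMulAction H V]

/-- The irreducible faithful case. -/
theorem pair_irr [FaithfulSMul H V] (hsec : SecPair) {n : ℕ} (hlinn : LinC n)
    (hn : Nat.card V ≤ n + 1) (hodd : Odd (Nat.card V)) (hsol : Group.IsSolvable H)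
    (hcop : (Nat.card H).Coprime (Nat.card V)) (hirr : Irr H V) :
    ∃ p : V × V, Reg H V p := by
  classical
  haveI : Group.IsSolvable H := hsol
  obtain ⟨U, ⟨hUn, hUab⟩, hUmax⟩ := Set.Finite.exists_maximal
    (s := {A : Subgroup H | A.Normal ∧ ∀ a ∈ A, ∀ b ∈ A, a * b = b * a}) (Set.toFinite _)
    ⟨⊥, inferInstance, fun a ha b hb => by
      rw [Subgroup.mem_bot.mp ha, Subgroup.mem_bot.mp hb]⟩
  haveI := hUn
  have hmax : ∀ A : Subgroup H, A.Normal → U ≤ A → (∀ a ∈ A, ∀ b ∈ A, a * b = b * a) → A = U :=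
    fun A hA hUA hAab => le_antisymm (hUmax ⟨hA, hAab⟩ hUA) hUA
  set Φ := DistribMulAction.toAddMonoidEnd H V with hΦ
  let G : Set (AddMonoid.End V) := Φ '' (U : Set H)
  let R : Subring (AddMonoid.End V) := Subring.closure G
  haveI : Finite (AddMonoid.End V) := Finite.of_injective _ DFunLike.coe_injective
  have hcomm : ∀ a ∈ R, ∀ b ∈ R, a * b = b * a := by
    have h1 : R ≤ Subring.centralizer G := by
      rw [Subring.closure_le]
      rintro _ ⟨u, hu, rfl⟩
      refine Subring.mem_centralizer_iff.mpr ?_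
      rintro _ ⟨w, hw, rfl⟩
      rw [← map_mul, ← map_mul, hUab w hw u hu]
    have h2 : R ≤ Subring.centralizer (R : Set (AddMonoid.End V)) := by
      rw [Subring.closure_le]
      intro g hg
      refine Subring.mem_centralizer_iff.mpr fun r hr => ?_
      exact (Subring.mem_centralizer_iff.mp (h1 hr) g hg).symm
    exact fun a ha b hb => (Subring.mem_centralizer_iff.mp (h2 ha) b hb).symm
  have hconj : ∀ h : H, ∀ f ∈ R, endConj h f ∈ R := by
    intro h
    have h1 : R ≤ R.comap (endConj h) := by
      rw [Subring.closure_le]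
      rintro _ ⟨u, hu, rfl⟩
      refine Subring.mem_comap.mpr (Subring.subset_closure ⟨h * u * h⁻¹, hUn.conj_mem u hu h, ?_⟩)
      show Φ (h * u * h⁻¹) = Φ h * Φ u * Φ h⁻¹
      rw [map_mul, map_mul]
    exact fun f hf => h1 hf
  letI : CommRing R := { (inferInstance : Ring R) with mul_comm := fun a b => Subtype.ext (hcomm a a.2 b b.2) }
  -- nilpotent elements vanish
  have hnil : ∀ f : R, IsNilpotent f → f = 0 := by
    let J : AddSubgroup V :=
      { carrier := {v | ∀ f : R, IsNilpotent f → (f : AddMonoid.End V) v = 0}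
        zero_mem' := fun f _ => map_zero (f : AddMonoid.End V)
        add_mem' := fun {a b} ha hb f hf => by rw [map_add, ha f hf, hb f hf, add_zero]
        neg_mem' := fun {a} ha f hf => by rw [map_neg, ha f hf, neg_zero] }
    have hJ : Inv H V J := by
      intro h v hv f hf
      have hf' : IsNilpotent (⟨endConj h⁻¹ f, hconj h⁻¹ f f.2⟩ : R) := by
        obtain ⟨k, hk⟩ := hf
        refine ⟨k, Subtype.ext ?_⟩
        rw [SubmonoidClass.coe_pow, ← map_pow, ← SubmonoidClass.coe_pow, hk]
        exact map_zero _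
      have h1 : endConj h⁻¹ (f : AddMonoid.End V) v = 0 := hv _ hf'
      rw [endConj_apply, inv_inv, smul_eq_zero_iff_eq] at h1
      exact h1
    rcases hirr.2 J hJ with hb | ht
    · exfalso
      -- a minimal invariant subgroup of the ring
      obtain ⟨W, ⟨hW0, hWinv⟩, hWmin⟩ := Set.Finite.exists_minimal
        (s := {W : AddSubgroup V | W ≠ ⊥ ∧ ∀ f : R, ∀ w ∈ W, (f : AddMonoid.End V) w ∈ W}) (Set.toFinite _)
        ⟨⊤, fun h => by
          obtain ⟨v, hv⟩ := hirr.1
          exact hv (AddSubgroup.mem_bot.mp (h ▸ AddSubgroup.mem_top v)), fun _ _ _ => trivial⟩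
      apply hW0
      rw [eq_bot_iff, ← hb]
      intro w hw f hf
      by_contra hne
      let W' : AddSubgroup V := W.map (f : AddMonoid.End V)
      have hle : W' ≤ W := by
        intro x hx
        obtain ⟨y, hy, rfl⟩ := AddSubgroup.mem_map.mp hx
        exact hWinv f y hy
      have hmem : W' ∈ {W : AddSubgroup V | W ≠ ⊥ ∧ ∀ f : R, ∀ w ∈ W, (f : AddMonoid.End V) w ∈ W} := by
        refine ⟨fun h => hne (AddSubgroup.mem_bot.mp (h ▸ AddSubgroup.mem_map_of_mem _ hw)), ?_⟩
        intro g x hx
        obtain ⟨y, hy, rfl⟩ := AddSubgroup.mem_map.mp hx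
        refine AddSubgroup.mem_map.mpr ⟨(g : AddMonoid.End V) y, hWinv g y hy, ?_⟩
        show ((f : AddMonoid.End V) * g) y = ((g : AddMonoid.End V) * f) y
        rw [hcomm f f.2 g g.2]
      have heq : W' = W := le_antisymm hle (hWmin hmem hle)
      obtain ⟨k, hk⟩ := hf
      have hpow : ∀ m, ∀ x ∈ W, ∃ y ∈ W, (((f ^ m : R) : AddMonoid.End V)) y = x := by
        intro m
        induction m with
        | zero => exact fun x hx => ⟨x, hx, by rw [pow_zero]; rfl⟩
        | succ m ih =>
          intro x hx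
          obtain ⟨y, hy, rfl⟩ := ih x hx
          obtain ⟨z, hz, rfl⟩ := AddSubgroup.mem_map.mp (heq ▸ hy : y ∈ W')
          exact ⟨z, hz, by rw [pow_succ]; rfl⟩
      obtain ⟨y, -, hy⟩ := hpow k w hw
      rw [hk] at hy
      exact hne (by rw [← hy]; exact map_zero _)
    · exact fun f hf => Subtype.ext (AddMonoidHom.ext fun v => (ht ▸ AddSubgroup.mem_top v : v ∈ J) f hf)
  -- idempotents
  by_cases hid : ∃ f : R, f * f = f ∧ f ≠ 0 ∧ f ≠ 1
  · obtain ⟨f0, hf0, hf00, hf01⟩ := hid
    let At : Type := {e : R // e * e = e ∧ e ≠ 0 ∧ ∀ f : R, f * f = f → f * e = f → f = 0 ∨ f = e}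
    haveI : Fintype At := Fintype.ofFinite At
    have horth : ∀ a b : At, a ≠ b → a.1 * b.1 = 0 := by
      intro a b hab
      have hi : a.1 * b.1 * (a.1 * b.1) = a.1 * b.1 := by
        rw [mul_mul_mul_comm, a.2.1, b.2.1]
      rcases a.2.2.2 (a.1 * b.1) hi (by rw [mul_right_comm, a.2.1]) with h | h
      · exact h
      · rcases b.2.2.2 (a.1 * b.1) hi (by rw [mul_assoc, b.2.1]) with h' | h'
        · exact h'
        · exact absurd (Subtype.ext (h.symm.trans h')) hab
    have hatom : ∀ f : R, f * f = f → f ≠ 0 → ∃ e : At, e.1 * f = e.1 := by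
      intro f hf hf0'
      haveI : Fintype R := Fintype.ofFinite R
      let S : Finset R := Finset.univ.filter fun g => g * g = g ∧ g ≠ 0 ∧ g * f = g
      obtain ⟨g, hg, hgmin⟩ := S.exists_min_image
        (fun g => (Finset.univ.filter fun x : R => x * x = x ∧ x * g = x).card)
        ⟨f, Finset.mem_filter.mpr ⟨Finset.mem_univ _, hf, hf0', hf⟩⟩
      obtain ⟨-, hg1, hg2, hg3⟩ := Finset.mem_filter.mp hg
      refine ⟨⟨g, hg1, hg2, fun x hx hxg => ?_⟩, hg3⟩
      by_contra hne
      push Not at hne
      have hxf : x * f = x := by rw [← hxg, mul_assoc, hg3]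
      have hle := hgmin x (Finset.mem_filter.mpr ⟨Finset.mem_univ _, hx, hne.1, hxf⟩)
      have hlt : (Finset.univ.filter fun y : R => y * y = y ∧ y * x = y).card <
          (Finset.univ.filter fun y : R => y * y = y ∧ y * g = y).card := by
        refine Finset.card_lt_card ⟨fun y hy => ?_, fun h => ?_⟩
        · obtain ⟨-, hy1, hy2⟩ := Finset.mem_filter.mp hy
          exact Finset.mem_filter.mpr ⟨Finset.mem_univ _, hy1, by rw [← hy2, mul_assoc, hxg]⟩
        · have := Finset.mem_filter.mp (h (Finset.mem_filter.mpr ⟨Finset.mem_univ g, hg1, hg1⟩))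
          exact hne.2 (hxg.symm.trans ((mul_comm x g).trans this.2.2))
      omega
    have hsum : ∑ a : At, a.1 = 1 := by
      by_contra hne
      set t := ∑ a : At, a.1 with ht
      have hta : ∀ a : At, a.1 * t = a.1 := fun a => by
        rw [ht, Finset.mul_sum, Finset.sum_eq_single a]
        · exact a.2.1
        · exact fun b _ hb => horth a b (Ne.symm hb)
        · exact fun h => absurd (Finset.mem_univ a) h
      have htt : t * t = t := by
        conv_lhs => arg 1; rw [ht]
        rw [Finset.sum_mul]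
        exact Finset.sum_congr rfl fun a _ => hta a
      have h1 : (1 - t) * (1 - t) = 1 - t := by
        rw [mul_sub, mul_one, sub_mul, one_mul, htt, sub_self, sub_zero]
      obtain ⟨a, ha⟩ := hatom (1 - t) h1 (fun h => hne (sub_eq_zero.mp h).symm)
      rw [mul_sub, mul_one, hta, sub_self] at ha
      exact a.2.2.1 ha.symm
    let perm : H → At → At := fun h a => ⟨⟨endConj h a.1, hconj h _ a.1.2⟩, by
      refine ⟨Subtype.ext ?_, fun hh => ?_, fun f hf hfe => ?_⟩
      · show endConj h (a.1 : AddMonoid.End V) * endConj h a.1 = endConj h a.1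
        rw [← map_mul]
        exact congrArg (endConj h) (congrArg Subtype.val a.2.1)
      · apply a.2.2.1
        apply Subtype.ext
        have h1 : endConj h (a.1 : AddMonoid.End V) = 0 := congrArg Subtype.val hh
        have h2 := congrArg (endConj h⁻¹) h1
        rw [endConj_endConj, inv_mul_cancel, endConj_one, map_zero] at h2
        exact h2
      · have h1 : endConj h⁻¹ ((f : AddMonoid.End V) * endConj h a.1) = endConj h⁻¹ f :=
          congrArg (endConj h⁻¹) (congrArg Subtype.val hfe)
        rw [map_mul, endConj_endConj, inv_mul_cancel, endConj_one] at h1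
        rcases a.2.2.2 ⟨endConj h⁻¹ f, hconj h⁻¹ f f.2⟩ (Subtype.ext (by
          show endConj h⁻¹ (f : AddMonoid.End V) * endConj h⁻¹ f = endConj h⁻¹ f
          rw [← map_mul]
          exact congrArg (endConj h⁻¹) (congrArg Subtype.val hf))) (Subtype.ext h1) with h2 | h2
        · left
          apply Subtype.ext
          have h3 := congrArg (endConj h) (congrArg Subtype.val h2)
          rw [endConj_endConj, mul_inv_cancel, endConj_one] at h3
          exact h3.trans (map_zero _)
        · right
          apply Subtype.ext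
          have h3 := congrArg (endConj h) (congrArg Subtype.val h2)
          rw [endConj_endConj, mul_inv_cancel, endConj_one] at h3
          exact h3⟩
    letI : MulAction H At :=
      { smul := perm
        one_smul := fun a => Subtype.ext (Subtype.ext (endConj_one _))
        mul_smul := fun g h a => Subtype.ext (Subtype.ext (endConj_endConj g h _).symm) }
    have hsumv : ∀ v : V, ∑ a : At, (a.1 : AddMonoid.End V) v = v := by
      intro v
      have h1 := congrArg (fun r : R => (r : AddMonoid.End V) v) hsum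
      simp only [AddSubmonoidClass.coe_finset_sum, OneMemClass.coe_one] at h1
      refine Eq.trans ?_ h1
      exact (AddMonoidHom.finset_sum_apply (fun a : At => (a.1 : AddMonoid.End V)) Finset.univ v).symm
    obtain ⟨a0, ha0⟩ := hatom f0 hf0 hf00
    obtain ⟨a1, ha1⟩ := hatom (1 - f0) (by rw [mul_sub, mul_one, sub_mul, one_mul, hf0, sub_self, sub_zero])
      (fun h => hf01 (sub_eq_zero.mp h).symm)
    have h01 : a0 ≠ a1 := by
      rintro rfl
      rw [mul_sub, mul_one, ha0, sub_self] at ha1
      exact a0.2.2.1 ha1.symm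
    refine pair_of_blocks hlinn hn hodd hsol hcop hirr (I := At) (fun a => (a.1 : AddMonoid.End V))
      (fun a v => ?_) (fun a b v hab => ?_) hsumv (fun h a v => ?_) (fun a => ?_) a0 a1 h01
    · exact congrArg (fun r : R => (r : AddMonoid.End V) v) a.2.1
    · exact congrArg (fun r : R => (r : AddMonoid.End V) v) (horth a b hab)
    · exact (endConj_smul h (a.1 : AddMonoid.End V) v).symm
    · by_contra h
      push Not at h
      exact a.2.2.1 (Subtype.ext (AddMonoidHom.ext h))
  -- the ring is a field
  push Not at hid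
  have hfield : IsField R := by
    refine ⟨⟨0, 1, fun h => ?_⟩, mul_comm, fun {a} ha => ?_⟩
    · obtain ⟨v, hv⟩ := hirr.1
      exact hv (congrArg (fun r : R => (r : AddMonoid.End V) v) h).symm
    obtain ⟨i, j, hij, hpow⟩ := Finite.exists_ne_map_eq_of_infinite (fun k : ℕ => a ^ k)
    wlog hlt : i < j generalizing i j
    · exact this j i hij.symm hpow.symm (by omega)
    have hper : ∀ t m, i ≤ m → a ^ (m + t * (j - i)) = a ^ m := by
      intro t
      induction t with
      | zero => intro m _; rw [Nat.zero_mul, add_zero]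
      | succ t ih =>
        intro m hm
        rw [show m + (t + 1) * (j - i) = (m + (j - i)) + t * (j - i) by rw [add_mul, one_mul]; omega,
          ih _ (by omega), show m + (j - i) = j + (m - i) by omega, pow_add, ← hpow, ← pow_add,
          show i + (m - i) = m by omega]
    set m := (i + 1) * (j - i) with hm
    have him : i + 1 ≤ m := Nat.le_mul_of_pos_right _ (by omega)
    have hidm : a ^ m * a ^ m = a ^ m := by
      rw [← pow_add]
      conv_lhs => arg 2; arg 2; rw [hm]
      exact hper (i + 1) m (by omega)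
    rcases eq_or_ne (a ^ m) 0 with h0 | h0
    · exact absurd (hnil a ⟨m, h0⟩) ha
    · exact ⟨a ^ (m - 1), by rw [← pow_succ', show m - 1 + 1 = m by omega, hid _ hidm h0]⟩
  letI : Field R := hfield.toField
  let ι : U →* Rˣ := MonoidHom.toHomUnits
    { toFun := fun u : U => (⟨Φ (u : H), Subring.subset_closure ⟨u, u.2, rfl⟩⟩ : R)
      map_one' := Subtype.ext (by show Φ ((1 : U) : H) = 1; rw [OneMemClass.coe_one, map_one])
      map_mul' := fun a b => Subtype.ext (by
        show Φ ((a * b : U) : H) = Φ (a : H) * Φ (b : H)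
        rw [Subgroup.coe_mul, map_mul]) }
  have hιinj : Function.Injective ι := by
    intro a b h
    apply Subtype.ext
    refine eq_of_smul_eq_smul (α := V) fun v => ?_
    exact congrArg (fun r : Rˣ => ((r : R) : AddMonoid.End V) v) h
  have hιv : ∀ (u : U) (v : V), (u : H) • v = (ι u : R) • v := fun u v => rfl
  have hlin : ∀ g ∈ Subgroup.centralizer (U : Set H), ∀ (k : R) (v : V), g • k • v = k • g • v := by
    intro g hg k v
    have h1 : R ≤ Subring.centralizer {Φ g} := by
      rw [Subring.closure_le]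
      rintro _ ⟨u, hu, rfl⟩
      refine Subring.mem_centralizer_iff.mpr ?_
      rintro _ rfl
      rw [← map_mul, ← map_mul, Subgroup.mem_centralizer_iff.mp hg u hu]
    exact congrArg (fun f : AddMonoid.End V => f v) (Subring.mem_centralizer_iff.mp (h1 k.2) (Φ g) rfl)
  have hsemi : ∀ (h : H) (k : R), ∃ k' : R, ∀ x : V, h • k • x = k' • h • x := fun h k =>
    ⟨⟨endConj h (k : AddMonoid.End V), hconj h _ k.2⟩, fun x =>
      (endConj_smul h (k : AddMonoid.End V) x).symm⟩
  obtain ⟨θ, hθ⟩ := IsCyclic.exists_generator (α := Rˣ)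
  have hθC : ∀ (h : H) (v : V), v ≠ 0 → h • v = v → h • ((θ : R) • v) = (θ : R) • v →
      h ∈ Subgroup.centralizer (U : Set H) := by
    intro h v hv h1' h2'
    have hθc : endConj h ((θ : R) : AddMonoid.End V) = ((θ : R) : AddMonoid.End V) := by
      have h3 : ((⟨endConj h ((θ : R) : AddMonoid.End V), hconj h _ (θ : R).2⟩ : R) - (θ : R)) • v = 0 := by
        rw [sub_smul, sub_eq_zero]
        show endConj h ((θ : R) : AddMonoid.End V) v = (θ : R) • v
        conv_lhs => arg 2; rw [← h1']
        rw [endConj_smul]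
        exact h2'
      exact congrArg Subtype.val (sub_eq_zero.mp ((smul_eq_zero.mp h3).resolve_right hv))
    have hcom : Commute (Φ h) ((θ : R) : AddMonoid.End V) := by
      refine AddMonoidHom.ext fun w => ?_
      have := endConj_smul h ((θ : R) : AddMonoid.End V) w
      rw [hθc] at this
      exact this.symm
    refine Subgroup.mem_centralizer_iff.mpr fun u hu => ?_
    obtain ⟨k, hk⟩ := Submonoid.mem_powers_iff _ _ |>.mp
      ((mem_powers_iff_mem_zpowers (x := θ)).mpr (hθ (ι ⟨u, hu⟩)))
    have h3 : Φ u = ((θ : R) : AddMonoid.End V) ^ k := by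
      have h4 := congrArg (fun r : Rˣ => ((r : R) : AddMonoid.End V)) hk
      simp only [Units.val_pow_eq_pow_val, SubmonoidClass.coe_pow] at h4
      exact h4.symm
    refine eq_of_smul_eq_smul (α := V) fun w => ?_
    have h5 := (hcom.pow_right k).eq
    rw [← h3, ← map_mul, ← map_mul] at h5
    exact (congrArg (fun f : AddMonoid.End V => f w) h5).symm
  by_cases hCU : Subgroup.centralizer (U : Set H) = U
  · -- a semilinear group on a line
    obtain ⟨v, hv⟩ := hirr.1
    refine ⟨(v, (θ : R) • v), fun h h1' hh => ?_⟩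
    have hhC := hθC h v hv h1' hh
    rw [hCU] at hhC
    have h3 : ((ι ⟨h, hhC⟩ : R) - 1) • v = 0 := by
      rw [sub_smul, one_smul, ← hιv ⟨h, hhC⟩, h1', sub_self]
    have h4 : ι ⟨h, hhC⟩ = 1 := Units.ext (sub_eq_zero.mp ((smul_eq_zero.mp h3).resolve_right hv))
    have h5 : h = 1 := congrArg Subtype.val (hιinj (h4.trans (map_one ι).symm))
    intro w
    rw [h5, one_smul]
  obtain ⟨N, hN⟩ := exists_sec U hUab hmax ι hιinj hCU
  have hlN : ∀ n ∈ N, ∀ (k : R) (x : V), n • k • x = k • n • x := fun n hn' =>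
    hlin n (hN.cen hn')
  obtain ⟨v, hv, habel, q, hq, hqA, hspan, hshape⟩ := exists_frame' U ι hιinj hιv N hN hlN hirr.1
  let F : FD H V R :=
    { U := U, hUn := hUn, ι := ι, hι := hιinj, hιv := hιv, hlin := hlin, hsemi := hsemi
      θ := θ, hθgen := hθ, hθ := hθC, N := N, hN := hN, hlN := hlN, v := v, hv := hv
      habel := habel, p := q, hp := hq, hpA := hqA, hspan := hspan, shape := hshape }
  obtain ⟨r, hr, hrV, hexp⟩ := exists_exponent hirr
  have h2 : (2 : R) ≠ 0 := fun h => by
    obtain ⟨w, hw⟩ := hirr.1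
    have h2w : 2 • w = 0 := by
      rw [← Nat.cast_smul_eq_nsmul R, Nat.cast_ofNat, h, zero_smul]
    have hr2 : r ≠ 2 := fun e => by
      have := Odd.of_dvd_nat hodd hrV
      rw [e] at this
      exact absurd this (by decide)
    have h1 := Nat.dvd_gcd (addOrderOf_dvd_of_nsmul_eq_zero h2w)
      (addOrderOf_dvd_of_nsmul_eq_zero (hexp w))
    rw [(Nat.coprime_primes Nat.prime_two hr).mpr hr2.symm, Nat.dvd_one,
      AddMonoid.addOrderOf_eq_one_iff] at h1
    exact hw h1
  have hcopR : (Nat.card H).Coprime (Nat.card R) := by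
    refine Nat.coprime_of_dvd fun s hs hsH hsR => ?_
    haveI : Fact s.Prime := ⟨hs⟩
    obtain ⟨f, hf⟩ := exists_prime_addOrderOf_dvd_card' (G := R) s hsR
    have h1 : addOrderOf f ∣ r := addOrderOf_dvd_of_nsmul_eq_zero (Subtype.ext (by
      refine AddMonoidHom.ext fun w => ?_
      simp only [SetLike.val_smul_of_tower, AddSubmonoidClass.coe_nsmul]
      exact hexp _))
    rw [hf] at h1
    rw [(Nat.prime_dvd_prime_iff_eq hs hr).mp h1] at hsH
    exact hr.one_lt.ne' (Nat.eq_one_of_dvd_coprimes hcop hsH hrV)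
  obtain ⟨x, y, hxy⟩ := hsec H V R F hmax h2 hcopR
  refine ⟨(x, y), fun h hh hh' w => ?_⟩
  rw [hxy h hh hh', one_smul]

end

end Cfsg.Agent.BT62
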