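import Mathlib
import Cfsg.Agent.BT62.Irr

/-!
# Two vectors with trivial common stabiliser for coprime solvable groups, given the section case
-/

set_option autoImplicit false

namespace Cfsg.Agent.BT62

open BC85.BaseTwo

/-- All coprime modules of odd order of solvable groups have regular pairs, given the section
case. -/
theorem linC_all (hsec : SecPair) : ∀ n, LinC n := by
  intro n
  induction n with
  | zero =>
    intro V _ _ H _ _ _ hn _ _ _ _
    exact absurd hn (Nat.not_le.mpr Nat.card_pos)
  | succ n ih =>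
    refine linC_succ ih ?_
    intro V _ _ H _ _ _ hn hodd hsol hcop hirr
    let φ : H ⧸ ker H V →* AddMonoid.End V :=
      QuotientGroup.lift _ (DistribMulAction.toAddMonoidEnd H V) fun h hh => by
        rw [MonoidHom.mem_ker]
        exact AddMonoidHom.ext fun v => mem_ker.mp hh v
    letI : DistribMulAction (H ⧸ ker H V) V := DistribMulAction.compHom V φ
    have hsmul : ∀ (h : H) (v : V), (QuotientGroup.mk' (ker H V) h) • v = h • v := fun _ _ => rfl
    haveI : FaithfulSMul (H ⧸ ker H V) V := ⟨fun {a b} hab => by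
      obtain ⟨x, rfl⟩ := QuotientGroup.mk'_surjective _ a
      obtain ⟨y, rfl⟩ := QuotientGroup.mk'_surjective _ b
      apply (QuotientGroup.eq (s := ker H V)).mpr
      rw [mem_ker]
      intro v
      have h1 : x • v = y • v := hab v
      rw [mul_smul, ← h1, inv_smul_smul]⟩
    have hirr' : Irr (H ⧸ ker H V) V := by
      refine ⟨hirr.1, fun U hU => hirr.2 U fun h v hv => ?_⟩
      rw [← hsmul]
      exact hU _ v hv
    haveI : Group.IsSolvable H := hsol
    obtain ⟨p, hp⟩ := pair_irr hsec ih hn hodd
      (Group.isSolvable_of_surjective (QuotientGroup.mk'_surjective (ker H V)))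
      (hcop.coprime_dvd_left (Subgroup.card_quotient_dvd_card _)) hirr'
    refine ⟨p, fun h h1 h2 v => ?_⟩
    rw [← hsmul]
    exact hp (QuotientGroup.mk' _ h) h1 h2 v

universe u v w

/-- Coprime solvable linear groups in odd characteristic have base size two, given the section
case. -/
theorem exists_pair_of_secPair (hsec : SecPair) {F : Type u} [Field F] [Fintype F]
    (hF : ringChar F ≠ 2) {V : Type v} [AddCommGroup V] [Module F V] [FiniteDimensional F V]
    [Finite V] {G : Type w} [Group G] [Finite G] [Group.IsSolvable G] (ρ : Representation F G V)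
    (hfaith : Function.Injective ρ) (hcop : (Nat.card G).Coprime (Nat.card V)) :
    ∃ x y : V, ∀ g : G, ρ g x = x → ρ g y = y → g = 1 := by
  classical
  by_cases hV : ∀ v : V, v = 0
  · exact ⟨0, 0, fun g _ _ => hfaith (LinearMap.ext fun v => by rw [hV v, map_zero, map_zero])⟩
  push Not at hV
  obtain ⟨v0, hv0⟩ := hV
  set p := ringChar F with hpdef
  haveI : CharP F p := ringChar.charP F
  have hp : p.Prime := CharP.char_is_prime F p
  have hexp : ∀ v : V, p • v = 0 := fun v => by
    rw [← Nat.cast_smul_eq_nsmul F, CharP.cast_eq_zero, zero_smul]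
  have hpV : p ∣ Nat.card V := by
    haveI : Fact p.Prime := ⟨hp⟩
    exact (addOrderOf_eq_prime (hexp v0) hv0).symm ▸ addOrderOf_dvd_natCard v0
  have hodd : Odd (Nat.card V) := by
    rw [Module.natCard_eq_pow_finrank (K := F), Nat.card_eq_fintype_card]
    exact (Nat.odd_iff.mpr (FiniteField.odd_card_of_char_ne_two hF)).pow
  let eA : Shrink.{0} G ≃* G := Shrink.mulEquiv
  let eV : Shrink.{0} V ≃+ V := Shrink.addEquiv
  haveI : Finite (Shrink.{0} G) := Finite.of_equiv G eA.symm.toEquiv
  haveI : Finite (Shrink.{0} V) := Finite.of_equiv V eV.symm.toEquiv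
  letI : DistribMulAction (Shrink.{0} G) (Shrink.{0} V) :=
    { smul := fun a x => eV.symm (ρ (eA a) (eV x))
      one_smul := fun x => by
        show eV.symm (ρ (eA 1) (eV x)) = x
        rw [map_one, map_one, Module.End.one_apply, eV.symm_apply_apply]
      mul_smul := fun a b x => by
        show eV.symm (ρ (eA (a * b)) (eV x)) = eV.symm (ρ (eA a) (eV (eV.symm (ρ (eA b) (eV x)))))
        rw [map_mul, map_mul, Module.End.mul_apply, eV.apply_symm_apply]
      smul_zero := fun a => by
        show eV.symm (ρ (eA a) (eV 0)) = 0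
        rw [map_zero, map_zero, map_zero]
      smul_add := fun a x y => by
        show eV.symm (ρ (eA a) (eV (x + y))) = eV.symm (ρ (eA a) (eV x)) + eV.symm (ρ (eA a) (eV y))
        rw [map_add, map_add, map_add] }
  have hcard : Nat.card (Shrink.{0} V) = Nat.card V := Nat.card_congr eV.toEquiv
  have hcardG : Nat.card (Shrink.{0} G) = Nat.card G := Nat.card_congr eA.toEquiv
  have hexp' : ∀ x : Shrink.{0} V, p • x = 0 := fun x => eV.injective (by
    rw [map_nsmul, hexp, map_zero])
  have hcr : CR (Shrink.{0} G) (Shrink.{0} V) := cr_of_coprime hp hexp' fun h =>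
    hp.one_lt.ne' (Nat.eq_one_of_dvd_coprimes hcop (hcardG ▸ h) hpV)
  obtain ⟨⟨x, y⟩, hxy⟩ := linC_all hsec _ (Shrink.{0} V) (Shrink.{0} G) le_rfl (by rwa [hcard])
    (Group.isSolvable_of_surjective (f := eA.symm.toMonoidHom) eA.symm.surjective)
    (by rwa [hcard, hcardG]) hcr
  refine ⟨eV x, eV y, fun g h1 h2 => hfaith (LinearMap.ext fun v => ?_)⟩
  have hsm : ∀ z : Shrink.{0} V, eA.symm g • z = eV.symm (ρ g (eV z)) := fun z => by
    show eV.symm (ρ (eA (eA.symm g)) (eV z)) = _
    rw [eA.apply_symm_apply]
  have h5 := hxy (eA.symm g) ((hsm x).trans (by rw [h1, eV.symm_apply_apply]))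
    ((hsm y).trans (by rw [h2, eV.symm_apply_apply])) (eV.symm v)
  rw [hsm, eV.apply_symm_apply] at h5
  rw [eV.symm.injective h5, map_one, Module.End.one_apply]

end Cfsg.Agent.BT62
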