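import Cfsg.Agent.S0547
import Cfsg.Agent.S0548
import Cfsg.Agent.BT62.Prim3.Four
import Cfsg.Agent.BT62.Prim3.Small

/-!
# Distinguishing three-colourings of primitive solvable groups of order prime to three
-/

set_option autoImplicit false

namespace Cfsg.Agent.BT62

open MulAction Prim3
open scoped Pointwise

theorem exists_three_faithful {G I : Type} [Group G] [Finite G] [MulAction G I] [Finite I]
    [FaithfulSMul G I] [Group.IsSolvable G] [hprim : IsPreprimitive G I]
    (h3 : (Nat.card G).Coprime 3) (hI : 2 ≤ Nat.card I) :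
    ∃ c : I → Fin 3, ∀ g : G, (∀ i : I, c (g • i) = c i) → ∀ i : I, g • i = i := by
  classical
  haveI : Nonempty I := (Nat.card_pos_iff.mp (by omega)).1
  obtain ⟨M, ⟨hMn, hM0⟩, hmin⟩ : ∃ M, (M.Normal ∧ M ≠ ⊥) ∧
      ∀ K : Subgroup G, K.Normal → K ≤ M → K = ⊥ ∨ K = M := by
    have hne : (⊤ : Subgroup G) ≠ ⊥ := by
      intro h
      obtain ⟨x, y, hxy⟩ : ∃ x y : I, x ≠ y := by
        by_contra hno
        push Not at hno
        haveI : Subsingleton I := ⟨hno⟩
        rw [Nat.card_of_subsingleton (Classical.arbitrary I)] at hI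
        omega
      obtain ⟨g, hg⟩ := exists_smul_eq G x y
      have : g = 1 := Subgroup.mem_bot.mp (h ▸ Subgroup.mem_top g)
      rw [this, one_smul] at hg
      exact hxy hg
    obtain ⟨M, hM, hmin⟩ := Set.Finite.exists_minimal
      (s := {M : Subgroup G | M.Normal ∧ M ≠ ⊥}) (Set.toFinite _) ⟨⊤, inferInstance, hne⟩
    refine ⟨M, hM, fun K hK hKM => ?_⟩
    by_cases h : K = ⊥
    · exact Or.inl h
    · exact Or.inr (le_antisymm hKM (hmin ⟨hK, h⟩ hKM))
  haveI := hMn
  obtain ⟨htrans, hreg, -⟩ := S0547.result hprim M hM0 hmin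
  obtain ⟨p, hp, -, hMc, hMexp, -⟩ := Solvable.exists_prime_of_minimal_normal M hM0 hmin
  haveI := hMc
  haveI : Fact p.Prime := ⟨hp⟩
  set ω := Classical.arbitrary I
  obtain ⟨-, hcent, hnorm⟩ := S0548.result hprim M hM0 hmin ω
  letI : CommGroup M := { (inferInstance : Group M) with mul_comm := fun a b => mul_comm' a b }
  haveI : Module (ZMod p) (Additive M) := AddCommGroup.zmodModule fun v => by
    apply Additive.toMul.injective
    rw [toMul_nsmul]
    exact Subtype.ext (hMexp _ (Additive.toMul v).2)
  haveI : Finite (Additive M) := inferInstanceAs (Finite M)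
  haveI : Module.Finite (ZMod p) (Additive M) := Module.Finite.of_finite
  set D := Module.finrank (ZMod p) (Additive M)
  let φ : Additive M ≃ₗ[ZMod p] (Fin D → ZMod p) :=
    (Module.finBasis (ZMod p) (Additive M)).equivFun
  let P : (Fin D → ZMod p) → I := fun v => (Additive.toMul (φ.symm v)) • ω
  have hPbij : Function.Bijective P := by
    constructor
    · intro v w h
      have h1 : (Additive.toMul (φ.symm w))⁻¹ * Additive.toMul (φ.symm v) ∈ stabilizer M ω := by
        rw [mem_stabilizer_iff, mul_smul]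
        exact inv_smul_eq_iff.mpr h
      rw [hreg, Subgroup.mem_bot, inv_mul_eq_one] at h1
      exact φ.symm.injective (Additive.toMul.injective h1.symm)
    · intro i
      obtain ⟨m, hm⟩ := htrans.exists_smul_eq ω i
      exact ⟨φ (Additive.ofMul m), by simp only [P, LinearEquiv.symm_apply_apply, toMul_ofMul, hm]⟩
  let eP : (Fin D → ZMod p) ≃ I := Equiv.ofBijective P hPbij
  have hcard : Nat.card I = p ^ D := by
    rw [← Nat.card_congr eP, Nat.card_fun, Nat.card_zmod, Nat.card_eq_fintype_card, Fintype.card_fin]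
  have hD : 0 < D := by
    by_contra h
    rw [show D = 0 by omega, pow_zero] at hcard
    omega
  have hp3 : p ≠ 3 := by
    rintro rfl
    have h1 : 3 ∣ Nat.card G := by
      have h2 : Nat.card (orbit G ω) ∣ Nat.card G := ⟨Nat.card (stabilizer G ω), by
        rw [Nat.card_coe_set_eq, ← MulAction.index_stabilizer, mul_comm,
          Subgroup.card_mul_index]⟩
      rw [MulAction.orbit_eq_univ, Nat.card_congr (Equiv.Set.univ I), hcard] at h2
      exact (dvd_pow_self 3 (by omega)).trans h2
    exact (Nat.prime_three.coprime_iff_not_dvd.mp h3.symm) h1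
  -- the affine map of a group element
  have haff : ∀ g : G, ∃ (T : (Fin D → ZMod p) →+ (Fin D → ZMod p)) (b : Fin D → ZMod p),
      Function.Injective T ∧ ∀ v, g • eP v = eP (T v + b) := by
    intro g
    let σ : Additive M →+ Additive M := MonoidHom.toAdditive (MulAut.conjNormal g : M ≃* M).toMonoidHom
    let T : (Fin D → ZMod p) →+ (Fin D → ZMod p) :=
      (φ.toAddEquiv.toAddMonoidHom.comp σ).comp φ.symm.toAddEquiv.toAddMonoidHom
    set b := eP.symm (g • ω)
    have hPT : ∀ v, g • eP v = eP (T v + b) := by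
      intro v
      have hb : g • ω = (Additive.toMul (φ.symm b) : M) • ω := (eP.apply_symm_apply (g • ω)).symm
      show g • (Additive.toMul (φ.symm v)) • ω =
        (Additive.toMul (φ.symm (φ (σ (φ.symm v)) + b))) • ω
      rw [map_add, LinearEquiv.symm_apply_apply, toMul_add, mul_smul, ← hb]
      show g • ((Additive.toMul (φ.symm v) : M) : G) • ω =
        ((MulAut.conjNormal g (Additive.toMul (φ.symm v)) : M) : G) • g • ω
      rw [MulAut.conjNormal_apply, mul_smul, mul_smul, inv_smul_smul]
    refine ⟨T, b, fun v w h => ?_, hPT⟩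
    have h1 : g • eP v = g • eP w := by rw [hPT, hPT, h]
    exact eP.injective (smul_left_cancel g h1)
  suffices H : ∃ c : (Fin D → ZMod p) → Fin 3, ∀ (g : G) (T : (Fin D → ZMod p) →+ (Fin D → ZMod p)) (b : Fin D → ZMod p), Function.Injective T →
      (∀ v, g • eP v = eP (T v + b)) → (∀ v, c (T v + b) = c v) → ∀ v, T v + b = v by
    obtain ⟨c, hc⟩ := H
    refine ⟨fun i => c (eP.symm i), fun g hg i => ?_⟩
    obtain ⟨T, b, hT, hgT⟩ := haff g
    obtain ⟨v, rfl⟩ := eP.surjective i
    rw [hgT, hc g T b hT hgT (fun w => by simpa [hgT] using hg (eP w))]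
  have hrigid : ∀ c : (Fin D → ZMod p) → Fin 3, Rigid c → ∃ c : (Fin D → ZMod p) → Fin 3,
      ∀ (g : G) (T : (Fin D → ZMod p) →+ (Fin D → ZMod p)) (b : Fin D → ZMod p), Function.Injective T → (∀ v, g • eP v = eP (T v + b)) →
        (∀ v, c (T v + b) = c v) → ∀ v, T v + b = v :=
    fun c hc => ⟨c, fun _ T b hT _ h => hc T b hT h⟩
  rcases Nat.lt_or_ge p 5 with hp5 | hp5
  swap
  · exact hrigid _ (rigid_oddCol hp5)
  have hp2 : p = 2 := by
    have := hp.two_le
    obtain h | h | h : p = 2 ∨ p = 3 ∨ p = 4 := by omega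
    · exact h
    · exact absurd h hp3
    · exact absurd (h ▸ hp) (by norm_num)
  have hbig : ∀ n q, q = 2 → n = 4 ∨ 5 ≤ n → ∃ c : (Fin n → ZMod q) → Fin 3, Rigid c := by
    rintro n q rfl (rfl | hn)
    · exact ⟨_, rigid_fourCol⟩
    · exact ⟨_, rigid_binCol hn⟩
  by_cases hD4 : D = 4 ∨ 5 ≤ D
  · obtain ⟨c, hc⟩ := hbig D p hp2 hD4
    exact hrigid c hc
  rw [not_or] at hD4
  let e : Fin D → ZMod p := ev p D 0
  have he : e ≠ 0 := fun h => one_ne_zero ((ev_self (p := p) hD).symm.trans (congrFun h ⟨0, hD⟩))
  refine ⟨fun v => if v = 0 then 0 else if v = e then 1 else 2, fun g T b hT hgT hc v => ?_⟩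
  have hb : b = 0 := by
    have := hc 0
    simp only [map_zero, zero_add, if_true] at this
    by_contra hb
    rw [if_neg hb] at this
    split_ifs at this <;> exact absurd this (by decide)
  subst hb
  have hTe : T e = e := by
    have := hc e
    simp only [add_zero, if_neg he, if_true] at this
    split_ifs at this with h1 h2
    · exact absurd this (by decide)
    · exact h2
    · exact absurd this (by decide)
  rw [add_zero]
  by_cases hD1 : D = 1
  · refine eq_id_of_ev T (fun k hk => ?_) v
    obtain rfl : k = 0 := by omega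
    exact hTe
  -- the stabiliser acts irreducibly on `M`
  let L := stabilizer G ω
  letI : DistribMulAction L (Additive M) :=
    { smul := fun l a => Additive.ofMul (MulAut.conjNormal (l : G) (Additive.toMul a))
      one_smul := fun a => by
        show Additive.ofMul (MulAut.conjNormal ((1 : L) : G) (Additive.toMul a)) = a
        simp
      mul_smul := fun l l' a => by
        show Additive.ofMul (MulAut.conjNormal ((l * l' : L) : G) (Additive.toMul a)) =
          Additive.ofMul (MulAut.conjNormal (l : G) (MulAut.conjNormal (l' : G) (Additive.toMul a)))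
        rw [Subgroup.coe_mul, map_mul]
        rfl
      smul_zero := fun l => by
        show Additive.ofMul (MulAut.conjNormal (l : G) (Additive.toMul 0)) = 0
        rw [toMul_zero, map_one, ofMul_one]
      smul_add := fun l a a' => by
        show Additive.ofMul (MulAut.conjNormal (l : G) (Additive.toMul (a + a'))) = _
        rw [toMul_add, map_mul]
        rfl }
  have hsm : ∀ (l : L) (a : Additive M),
      l • a = Additive.ofMul (MulAut.conjNormal (l : G) (Additive.toMul a)) := fun _ _ => rfl
  haveI : FaithfulSMul L (Additive M) := ⟨fun {l l'} h => by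
    have h1 : ((l'⁻¹ * l : L) : G) ∈ L ⊓ Subgroup.centralizer (M : Set G) := by
      refine ⟨(l'⁻¹ * l).2, Subgroup.mem_centralizer_iff.mpr fun m hm => ?_⟩
      have h2 : (l'⁻¹ * l) • Additive.ofMul (⟨m, hm⟩ : M) = Additive.ofMul ⟨m, hm⟩ := by
        rw [mul_smul, h, inv_smul_smul]
      have h3 := congrArg (fun a : Additive M => ((Additive.toMul a : M) : G)) h2
      simp only [hsm, toMul_ofMul, MulAut.conjNormal_apply] at h3
      exact (mul_inv_eq_iff_eq_mul.mp h3).symm
    rw [hcent, Subgroup.mem_bot] at h1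
    exact (inv_mul_eq_one.mp (Subtype.ext h1 : l'⁻¹ * l = 1)).symm⟩
  have hgω : g • ω = ω := by
    have h0 : eP 0 = ω := by simp [eP, P]
    have := hgT 0
    rwa [add_zero, map_zero T, h0] at this
  have hT' : ∀ w, ((⟨g, hgω⟩ : L) • φ.symm w : Additive M) = φ.symm (T w) := by
    intro w
    have h1 : g • eP w = eP (φ ((⟨g, hgω⟩ : L) • φ.symm w)) := by
      show g • (Additive.toMul (φ.symm w)) • ω = (Additive.toMul (φ.symm (φ _))) • ω
      rw [LinearEquiv.symm_apply_apply, hsm, toMul_ofMul]
      show g • ((Additive.toMul (φ.symm w) : M) : G) • ω =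
        ((MulAut.conjNormal g (Additive.toMul (φ.symm w)) : M) : G) • ω
      rw [MulAut.conjNormal_apply, mul_smul, mul_smul, inv_smul_eq_iff.mpr hgω.symm]
    rw [hgT, add_zero] at h1
    rw [eP.injective h1, LinearEquiv.symm_apply_apply]
  have hg1 : (⟨g, hgω⟩ : L) = 1 := by
    refine stab_trivial_small (V := Additive M) (h3.coprime_dvd_left (Subgroup.card_subgroup_dvd_card L))
      (fun a => ?_) ?_ (fun U hU => ?_) (e := φ.symm e) ?_ ((hT' e).trans (congrArg _ hTe))
    · apply φ.injective
      rw [map_add, map_zero]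
      funext j
      haveI : CharP (ZMod p) 2 := hp2 ▸ inferInstance
      exact CharTwo.add_self_eq_zero _
    · rw [Nat.card_congr φ.toEquiv, Nat.card_fun, Nat.card_zmod, Nat.card_eq_fintype_card,
        Fintype.card_fin]
      obtain h | h : D = 2 ∨ D = 3 := by omega
      · exact Or.inl (by rw [hp2, h]; norm_num)
      · exact Or.inr (by rw [hp2, h]; norm_num)
    · let K : Subgroup G :=
        { carrier := {x | ∃ hx : x ∈ M, Additive.ofMul (⟨x, hx⟩ : M) ∈ U}
          one_mem' := ⟨M.one_mem, U.zero_mem⟩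
          mul_mem' := fun {a b} ha hb => ⟨M.mul_mem ha.1 hb.1, U.add_mem ha.2 hb.2⟩
          inv_mem' := fun {a} ha => ⟨M.inv_mem ha.1, U.neg_mem ha.2⟩ }
      have hK : L ≤ Subgroup.normalizer (K : Set G) := fun l hl => by
        rw [Subgroup.mem_normalizer_iff]
        intro x
        have fwd : ∀ y : L, ∀ x ∈ K, (y : G) * x * (y : G)⁻¹ ∈ K := by
          rintro y x ⟨hx, hxU⟩
          refine ⟨hMn.conj_mem x hx _, ?_⟩
          convert hU y _ hxU using 1
          rw [hsm]
          exact congrArg Additive.ofMul (Subtype.ext (MulAut.conjNormal_apply (H := M) _ ⟨x, hx⟩).symm)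
        refine ⟨fwd ⟨l, hl⟩ x, fun h => ?_⟩
        have := fwd ⟨l, hl⟩⁻¹ _ h
        simpa [mul_assoc] using this
      rcases hnorm K (fun x hx => hx.1) hK with h | h
      · refine Or.inl (le_bot_iff.mp fun a ha => AddSubgroup.mem_bot.mpr ?_)
        have : ((Additive.toMul a : M) : G) ∈ K := ⟨(Additive.toMul a).2, ha⟩
        rw [h, Subgroup.mem_bot] at this
        exact Additive.toMul.injective (Subtype.ext this)
      · refine Or.inr (top_le_iff.mp fun a _ => ?_)
        have : ((Additive.toMul a : M) : G) ∈ K := h.symm ▸ (Additive.toMul a).2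
        exact this.2
    · exact fun h => he (φ.symm.injective (h.trans (map_zero φ.symm).symm))
  have := hT' v
  rw [hg1, one_smul] at this
  exact (φ.symm.injective this).symm

theorem exists_three_prim {G I : Type} [Group G] [Finite G] [MulAction G I] [Finite I]
    [MulAction.IsPreprimitive G I] (hsol : Group.IsSolvable G) (h3 : (Nat.card G).Coprime 3) :
    ∃ c : I → Fin 3, ∀ g : G, (∀ i : I, c (g • i) = c i) → ∀ i : I, g • i = i := by
  rcases lt_or_ge (Nat.card I) 2 with hsmall | hI2
  · haveI : Subsingleton I := Finite.card_le_one_iff_subsingleton.mp (by omega)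
    exact ⟨fun _ => 0, fun g _ i => Subsingleton.elim _ _⟩
  haveI := hsol
  let φ := toPermHom G I
  haveI : IsPreprimitive φ.range I := by
    let f : I →ₑ[φ.rangeRestrict] I :=
      { toFun := id
        map_smul' := fun g i => rfl }
    exact IsPreprimitive.of_surjective (f := f) Function.surjective_id
  haveI : Group.IsSolvable φ.range := Group.isSolvable_of_surjective φ.rangeRestrict_surjective
  obtain ⟨c, hc⟩ := exists_three_faithful (G := φ.range) (I := I)
    (h3.coprime_dvd_left (Subgroup.card_range_dvd φ)) hI2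
  exact ⟨c, fun g hg => hc ⟨φ g, g, rfl⟩ hg⟩

end Cfsg.Agent.BT62
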