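import Mathlib
import Cfsg.Agent.BT62.Interp

/-!
# Soundness of the checker
-/

set_option autoImplicit false

namespace Cfsg.Agent.BT62.Check

variable {M : Model} {K : Type} [Field K] (E : Hom M.A K) {W : Type} [AddCommGroup W] [Module K W]
  (b : ℕ → W) (op : ℕ → W →ₗ[K] W)

/-- The hypotheses on the operators. -/
structure OK : Prop where
  rows : RowOK M
  indep : ∀ c : ℕ → K, ∑ x ∈ Finset.range (dim M), c x • b x = 0 → ∀ x < dim M, c x = 0
  act : ∀ t < 4 ^ M.k, ∀ v, Valid M v → op t (vec E b v) = vec E b (act M 1 t v)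
  sq : ∀ t < 4 ^ M.k, ∃ z : K, ∀ w, op t (op t w) = z • w
  surj : ∀ t < 4 ^ M.k, Function.Surjective (op t)
  anti : ∀ s < 4 ^ M.k, ∀ t < 4 ^ M.k, ∀ w,
    op s (op t w) = (if anti M s t = 1 then (-1 : K) else 1) • op t (op s w)

/-- A semilinear map normalising the operators and fixing two vectors. -/
structure Normal (C : Cert) (f : Bool) (σ : K →+* K) (g : W →+ W) : Prop where
  validX : Valid M C.X
  validY : Valid M C.Y
  steps : ∀ st ∈ C.steps, st.1 < 4 ^ M.k
  two : (2 : K) ≠ 0
  inj : Function.Injective g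
  semi : ∀ (k : K) (w : W), g (k • w) = σ k • g w
  sigma : ∀ a < M.A.q, σ (E.emb a) = E.emb (if f then M.A.frob a else a)
  fixX : g (vec E b C.X) = vec E b C.X
  fixY : g (vec E b C.Y) = vec E b C.Y
  conj : ∀ s < 4 ^ M.k, ∃ c t, c < M.A.q ∧ c ≠ 0 ∧ t < 4 ^ M.k ∧
    ∀ w, g (op s w) = E.emb c • op t (g w)

/-- The meaning of an image. -/
def Img (g : W →+ W) (s : ℕ) (e : ℕ × ℕ) : Prop :=
  e.1 < M.A.q ∧ e.2 < 4 ^ M.k ∧ s < 4 ^ M.k ∧ ∀ w, g (op s w) = E.emb e.1 • op e.2 (g w)

variable {E b op}

theorem sq_ne_zero' (hok : OK E b op) (a : ℕ) (ha : a < 4 ^ M.k) (z : K)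
    (hz : ∀ w, op a (op a w) = z • w) : z ≠ 0 := by
  intro h
  obtain ⟨w, hw⟩ : ∃ w : W, w ≠ 0 := ⟨b 0, fun h0 => one_ne_zero (α := K) (by
    have := hok.indep (fun x => if x = 0 then 1 else 0) (by
      have hr : 0 ∈ Finset.range (dim M) := Finset.mem_range.mpr (Nat.two_pow_pos _)
      rw [Finset.sum_eq_single 0 (fun x _ hx => by rw [if_neg hx, zero_smul])
        (fun h => absurd hr h), if_pos rfl,
        one_smul, h0])
      0 (Nat.two_pow_pos _)
    simpa using this)⟩
  obtain ⟨w', hw'⟩ := hok.surj a ha w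
  refine hw ?_
  obtain ⟨w'', hw''⟩ := hok.surj a ha w'
  rw [← hw', ← hw'', hz, h, zero_smul]

theorem vec_eq_iff (hok : OK E b op) {v v' : ℕ} (h : vec E b v = vec E b v') :
    ∀ x < dim M, E.emb (digit v x) = E.emb (digit v' x) := by
  intro x hx
  have := hok.indep (fun x => E.emb (digit v x) - E.emb (digit v' x)) (by
    simp only [sub_smul, Finset.sum_sub_distrib]
    exact sub_eq_zero.mpr h) x hx
  exact sub_eq_zero.mp this

variable {C : Cert} {f : Bool} {σ : K →+* K} {g : W →+ W}

theorem go_spec (hok : OK E b op) (hg : Normal E b op C f σ g) :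
    ∀ (gens : List ℕ) (ims : List (ℕ × ℕ)), List.Forall₂ (Img E op g) gens ims →
      ∀ (j v v' : ℕ), Valid M v → Valid M v' → g (vec E b v) = vec E b v' →
        Valid M (orb.go M (gens.map fun s => (1, s)) j v) ∧ Valid M (orb.go M ims j v') ∧
          g (vec E b (orb.go M (gens.map fun s => (1, s)) j v)) = vec E b (orb.go M ims j v') := by
  intro gens ims h
  induction h with
  | nil => intro j v v' hv hv' he; exact ⟨hv, hv', he⟩
  | @cons s e gens ims hse _ ih =>
    intro j v v' hv hv' he
    obtain ⟨hc, ht, hs, hw⟩ := hse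
    simp only [List.map_cons, orb.go]
    by_cases hj : j % 2 = 1
    · rw [if_pos hj, if_pos hj]
      refine ih _ _ _ (act_spec E hok.rows E.one_lt hs hv).1 (act_spec E hok.rows hc ht hv').1 ?_
      rw [← hok.act s hs v hv, hw, he, hok.act _ ht v' hv', ← vec_act E b hok.rows hc ht hv']
    · rw [if_neg hj, if_neg hj]
      exact ih _ _ _ hv hv' he

theorem orb_spec (hok : OK E b op) (hg : Normal E b op C f σ g) (gens : List ℕ)
    (ims : List (ℕ × ℕ)) (h : List.Forall₂ (Img E op g) gens ims) (i : ℕ) :
    Valid M (orb M C.X C.Y (gens.map fun s => (1, s)) i) ∧ Valid M (orb M C.X C.Y ims i) ∧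
      g (vec E b (orb M C.X C.Y (gens.map fun s => (1, s)) i)) = vec E b (orb M C.X C.Y ims i) := by
  unfold orb
  split_ifs
  · exact go_spec hok hg gens ims h _ _ _ hg.validX hg.validX hg.fixX
  · exact go_spec hok hg gens ims h _ _ _ hg.validY hg.validY hg.fixY

theorem combZero_iff (vs : List (ℕ × ℕ)) : ∀ n, combZero M vs n = true ↔
    ∀ x < n, vs.foldr (fun e acc => M.A.add (M.A.mul e.1 (digit e.2 x)) acc) 0 = 0 := by
  intro n
  induction n with
  | zero => simp [combZero]
  | succ n ih =>
    rw [combZero, Bool.and_eq_true, beq_iff_eq, ih]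
    constructor
    · rintro ⟨h1, h2⟩ x hx
      rcases Nat.lt_succ_iff_lt_or_eq.mp hx with h | rfl
      · exact h2 x h
      · exact h1
    · exact fun h => ⟨h n (Nat.lt_succ_self n), fun x hx => h x (Nat.lt_succ_of_lt hx)⟩

theorem comb_sum (E : Hom M.A K) (b : ℕ → W) (vs : List (ℕ × ℕ))
    (hvs : ∀ e ∈ vs, e.1 < M.A.q ∧ Valid M e.2) :
    (vs.map fun e => E.emb e.1 • vec E b e.2).sum =
      ∑ x ∈ Finset.range (dim M),
        E.emb (vs.foldr (fun e acc => M.A.add (M.A.mul e.1 (digit e.2 x)) acc) 0) • b x := by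
  have key : ∀ x < dim M, E.emb (vs.foldr (fun e acc => M.A.add (M.A.mul e.1 (digit e.2 x)) acc) 0) =
      (vs.map fun e => E.emb e.1 * E.emb (digit e.2 x)).sum := by
    intro x hx
    have h := (E.fold_spec (vs.map fun e => (e.1, digit e.2 x)) (by
      intro e he
      obtain ⟨e', he', rfl⟩ := List.mem_map.mp he
      exact ⟨(hvs e' he').1, (hvs e' he').2 x hx⟩)).2
    rw [List.foldr_map, List.map_map] at h
    exact h
  rw [Finset.sum_congr rfl fun x hx => by rw [key x (Finset.mem_range.mp hx)]]
  clear key hvs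
  induction vs with
  | nil => simp
  | cons a l ih =>
    rw [List.map_cons, List.sum_cons, ih]
    simp only [List.map_cons, List.sum_cons, add_smul, Finset.sum_add_distrib, vec,
      Finset.smul_sum, smul_smul]

theorem rel_spec (hok : OK E b op) (hg : Normal E b op C f σ g) (gens : List ℕ)
    (ims : List (ℕ × ℕ)) (h : List.Forall₂ (Img E op g) gens ims) (rel : List (ℕ × ℕ))
    (hrel : ∀ e ∈ rel, e.2 < M.A.q)
    (h0 : relHolds M C.X C.Y false (gens.map fun s => (1, s)) rel = true) :
    relHolds M C.X C.Y f ims rel = true := by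
  have horb := orb_spec hok hg gens ims h
  have hf : ∀ e ∈ rel, (if f then M.A.frob e.2 else e.2) < M.A.q := fun e he => by
    split_ifs
    · exact E.frob_lt _ (hrel e he)
    · exact hrel e he
  have hL : ∀ e ∈ rel.map (fun e => (e.2, orb M C.X C.Y (gens.map fun s => (1, s)) e.1)),
      e.1 < M.A.q ∧ Valid M e.2 := by
    intro e he
    obtain ⟨e', he', rfl⟩ := List.mem_map.mp he
    exact ⟨hrel e' he', (horb _).1⟩
  have hR : ∀ e ∈ rel.map (fun e => (if f then M.A.frob e.2 else e.2, orb M C.X C.Y ims e.1)),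
      e.1 < M.A.q ∧ Valid M e.2 := by
    intro e he
    obtain ⟨e', he', rfl⟩ := List.mem_map.mp he
    exact ⟨hf e' he', (horb _).2.1⟩
  simp only [relHolds, Bool.false_eq_true, if_false] at h0
  rw [combZero_iff] at h0
  have hl0 : (rel.map fun e => E.emb e.2 •
      vec E b (orb M C.X C.Y (gens.map fun s => (1, s)) e.1)).sum = 0 := by
    have := comb_sum E b _ hL
    rw [List.map_map] at this
    refine this.trans (Finset.sum_eq_zero fun x hx => ?_)
    rw [h0 x (Finset.mem_range.mp hx), E.zero, zero_smul]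
  have hr0 : (rel.map fun e => E.emb (if f then M.A.frob e.2 else e.2) •
      vec E b (orb M C.X C.Y ims e.1)).sum = 0 := by
    have h1 := congrArg g hl0
    rw [map_zero, map_list_sum, List.map_map] at h1
    refine Eq.trans (congrArg List.sum (List.map_congr_left fun e he => ?_)) h1
    show _ = g (E.emb e.2 • vec E b _)
    rw [hg.semi, hg.sigma _ (hrel e he), (horb e.1).2.2]
  rw [relHolds, combZero_iff]
  intro x hx
  have h2 := comb_sum E b _ hR
  rw [List.map_map] at h2
  have h3 := hok.indep _ (h2.symm.trans hr0) x hx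
  refine E.inj _ ?_ h3
  have := (E.fold_spec ((rel.map fun e => (if f then M.A.frob e.2 else e.2,
      orb M C.X C.Y ims e.1)).map fun e => (e.1, digit e.2 x)) (by
    intro e he
    obtain ⟨e', he', rfl⟩ := List.mem_map.mp he
    exact ⟨(hR e' he').1, (hR e' he').2 x hx⟩)).1
  rwa [List.foldr_map] at this

theorem valid_one (E : Hom M.A K) : Valid M 1 := by
  intro x _
  rcases x with _ | x
  · exact (show digit 1 0 = 1 by rfl) ▸ E.one_lt
  · have : digit 1 (x + 1) = 0 := by
      have h := digit_succ 1 0 x (by norm_num)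
      simp only [mul_zero, add_zero] at h
      rw [h]
      simp [digit]
    rw [this]
    exact lt_trans Nat.zero_lt_one E.one_lt

theorem mem_cands (hok : OK E b op) (hg : Normal E b op C f σ g) {s c t : ℕ}
    (h : Img E op g s (c, t)) (hc0 : c ≠ 0) : (c, t) ∈ cands M f s := by
  obtain ⟨hc, ht, hs, hw⟩ := h
  have v1 := valid_one E
  obtain ⟨z, hz⟩ := hok.sq s hs
  obtain ⟨z', hz'⟩ := hok.sq t ht
  have e1 : vec E b (act M 1 s (act M 1 s 1)) = z • vec E b 1 := by
    rw [← hok.act s hs _ (act_spec E hok.rows E.one_lt hs v1).1, ← hok.act s hs _ v1, hz]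
  have e2 : vec E b (act M c t (act M c t 1)) = (E.emb c * E.emb c * z') • vec E b 1 := by
    rw [vec_act E b hok.rows hc ht (act_spec E hok.rows hc ht v1).1,
      ← hok.act t ht _ (act_spec E hok.rows hc ht v1).1, vec_act E b hok.rows hc ht v1,
      ← hok.act t ht _ v1, map_smul, smul_smul, hz', smul_smul]
  have h0 : (0 : ℕ) < dim M := Nat.two_pow_pos _
  have hd : ∀ (k : K) (v : ℕ), Valid M v → vec E b v = k • vec E b 1 → E.emb (digit v 0) = k := by
    intro k v hv he
    have := hok.indep (fun x => E.emb (digit v x) - k * E.emb (digit 1 x)) (by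
      simp only [sub_smul, Finset.sum_sub_distrib, ← smul_smul, ← Finset.smul_sum]
      exact sub_eq_zero.mpr he) 0 h0
    rw [show digit 1 0 = 1 from rfl, E.one, mul_one] at this
    exact sub_eq_zero.mp this
  have w1 := (act_spec E hok.rows E.one_lt hs (act_spec E hok.rows E.one_lt hs v1).1).1
  have w2 := (act_spec E hok.rows hc ht (act_spec E hok.rows hc ht v1).1).1
  have f1 := hd _ _ w1 e1
  have f2 := hd _ _ w2 e2
  obtain ⟨x, hx⟩ : ∃ x : W, x ≠ 0 := ⟨vec E b 1, fun hx => one_ne_zero (α := K) (by
    have := hok.indep (fun x => E.emb (digit 1 x)) hx 0 h0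
    rwa [show digit 1 0 = 1 from rfl, E.one] at this)⟩
  have f3 : σ z = E.emb c * E.emb c * z' := by
    have h1 : g (op s (op s x)) = (E.emb c * E.emb c * z') • g x := by
      rw [hw, hw]
      show E.emb c • op t (E.emb c • op t (g x)) = _
      rw [map_smul, smul_smul, hz', smul_smul]
    rw [hz, hg.semi, ← sub_eq_zero, ← sub_smul, smul_eq_zero] at h1
    refine sub_eq_zero.mp (h1.resolve_right fun h2 => hx (hg.inj (h2.trans (map_zero g).symm)))
  refine List.mem_filter.mpr ⟨List.mem_flatMap.mpr ⟨t, List.mem_range.mpr ht,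
    List.mem_map.mpr ⟨c, List.mem_range.mpr hc, rfl⟩⟩, ?_⟩
  have hlt : (if f then M.A.frob (digit (act M 1 s (act M 1 s 1)) 0)
      else digit (act M 1 s (act M 1 s 1)) 0) < M.A.q := by
    split_ifs
    · exact E.frob_lt _ (w1 0 h0)
    · exact w1 0 h0
  have f4 := hg.sigma _ (w1 0 h0)
  rw [f1, f3, ← f2] at f4
  simp only [Bool.and_eq_true, Bool.not_eq_true', beq_eq_false_iff_ne, beq_iff_eq]
  refine ⟨hc0, ?_⟩
  exact E.code_unique _ (w2 0 h0) _ hlt f4

theorem explore_spec (hok : OK E b op) (hg : Normal E b op C f σ g)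
    (hrels : relsOK M C = true) (leaf : Bool → List (ℕ × ℕ) → Bool) :
    ∀ (pre rest : List (ℕ × List (List (ℕ × ℕ)))), pre ++ rest = C.steps →
      ∀ ims, List.Forall₂ (Img E op g) (pre.map Prod.fst) ims →
        explore M C.X C.Y f leaf (rest.map fun st => (st.1, st.2, cands M f st.1))
          (pre.map Prod.fst) ims = true →
        ∃ ims', leaf f ims' = true ∧ List.Forall₂ (Img E op g) (C.steps.map Prod.fst) ims' := by
  intro pre rest
  induction rest generalizing pre with
  | nil =>
    intro hpre ims hims hexp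
    rw [List.map_nil, explore] at hexp
    exact ⟨ims, hexp, by rwa [← hpre, List.append_nil]⟩
  | cons st rest ih =>
    intro hpre ims hims hexp
    have hs : st.1 < 4 ^ M.k := hg.steps st (by rw [← hpre]; simp)
    obtain ⟨c, t, hc, hc0, ht, hw⟩ := hg.conj st.1 hs
    have hI : Img E op g st.1 (c, t) := ⟨hc, ht, hs, hw⟩
    rw [List.map_cons, explore, List.all_eq_true] at hexp
    have h := hexp _ (mem_cands hok hg hI hc0)
    have hanti : ((List.zip (pre.map Prod.fst) ims).all fun d =>
        anti M d.1 st.1 == anti M d.2.2 t) = true := by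
      rw [List.all_eq_true]
      rintro ⟨s', e'⟩ hd
      obtain ⟨hc', ht', hs', hw'⟩ := (List.forall₂_iff_zip.mp hims).2 hd
      rw [beq_iff_eq]
      have hb : vec E b 1 ≠ 0 := fun hx => one_ne_zero (α := K) (by
        have := hok.indep (fun x => E.emb (digit 1 x)) hx 0 (Nat.two_pow_pos _)
        rwa [show digit 1 0 = 1 from rfl, E.one] at this)
      have hne : ∀ a, a < 4 ^ M.k → ∀ w : W, w ≠ 0 → g (op a w) ≠ 0 := by
        intro a ha w hw0 he
        have h1 : op a w = 0 := hg.inj (he.trans (map_zero g).symm)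
        obtain ⟨z, hz⟩ := hok.sq a ha
        have h2 := hz w
        rw [h1, map_zero] at h2
        have h3 : z = 0 := (smul_eq_zero.mp h2.symm).resolve_right hw0
        exact sq_ne_zero' hok a ha z hz h3
      set x := vec E b 1
      have h1 : g (op s' (op st.1 x)) = (E.emb e'.1 * E.emb c) • op e'.2 (op t (g x)) := by
        rw [hw', hw, map_smul, smul_smul]
      have h2 : g (op st.1 (op s' x)) = (E.emb c * E.emb e'.1) • op t (op e'.2 (g x)) := by
        rw [hw, hw', map_smul, smul_smul]
      have e1 := hok.anti s' hs' st.1 hs x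
      have e2 := hok.anti e'.2 ht' t ht (g x)
      rw [e1, hg.semi, e2, smul_smul, h2, mul_comm (E.emb c), smul_smul] at h1
      have hσ : ∀ P : Prop, [Decidable P] → σ (if P then (-1 : K) else 1) = if P then -1 else 1 := by
        intro P _; split_ifs <;> simp
      rw [hσ, ← sub_eq_zero, ← sub_smul] at h1
      have h4 := (smul_eq_zero.mp h1).resolve_right (by
        intro h5
        refine hne st.1 hs (op s' x) (fun h6 => hne s' hs' x hb (by rw [h6, map_zero])) ?_
        rw [h2, h5, smul_zero])
      have hprod : E.emb e'.1 * E.emb c ≠ 0 := by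
        intro h5
        refine hne st.1 hs (op s' x) (fun h6 => hne s' hs' x hb (by rw [h6, map_zero])) ?_
        rw [h2, mul_comm, h5, zero_smul]
      have hlt : ∀ a a', anti M a a' < 2 := fun a a' => Nat.mod_lt _ (by norm_num)
      have := hlt s' st.1
      have := hlt e'.2 t
      show anti M s' st.1 = anti M e'.2 t
      split_ifs at h4 with i1 i2 i3
      · omega
      · exact absurd (show (2 : K) * (E.emb e'.1 * E.emb c) = 0 by linear_combination -h4)
          (mul_ne_zero hg.two hprod)
      · exact absurd (show (2 : K) * (E.emb e'.1 * E.emb c) = 0 by linear_combination h4)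
          (mul_ne_zero hg.two hprod)
      · omega
    have hF : List.Forall₂ (Img E op g) ((pre ++ [st]).map Prod.fst) (ims ++ [(c, t)]) := by
      rw [List.map_append]
      exact List.rel_append hims (List.Forall₂.cons hI List.Forall₂.nil)
    have hlen : pre.length < C.steps.length := by rw [← hpre]; simp
    have hget : C.steps[pre.length]? = some st := by rw [← hpre]; simp
    have hall : (st.2.all fun rel => relHolds M C.X C.Y f (ims ++ [(c, t)]) rel) = true := by
      rw [List.all_eq_true]
      intro rel hrel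
      rw [relsOK, List.all_eq_true] at hrels
      have h1 := hrels pre.length (List.mem_range.mpr hlen)
      rw [hget, Option.map_some, Option.getD_some, List.all_eq_true] at h1
      have h2 := h1 rel hrel
      rw [Bool.and_eq_true, List.all_eq_true] at h2
      refine rel_spec hok hg _ _ hF rel (fun e he => ?_) ?_
      · have := h2.1 e he
        simp only [Bool.and_eq_true, decide_eq_true_eq] at this
        exact this.2
      · have h3 := h2.2
        rw [← List.map_take, ← hpre, show pre ++ st :: rest = (pre ++ [st]) ++ rest by simp,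
          List.take_left' (by simp)] at h3
        rw [List.map_map]
        exact h3
    rw [hanti, hall] at h
    simp only [Bool.not_true, Bool.false_or] at h
    exact ih (pre ++ [st]) (by rw [← hpre]; simp) (ims ++ [(c, t)]) hF (by simpa using h)

/-- The images of the generators under a map normalising the operators are among the leaves. -/
theorem check_spec (hok : OK E b op) (hg : Normal E b op C f σ g) (hrels : relsOK M C = true)
    (leaf : Bool → List (ℕ × ℕ) → Bool)
    (hexp : explore M C.X C.Y f leaf (withCands M C f) [] [] = true) :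
    ∃ ims, leaf f ims = true ∧ List.Forall₂ (Img E op g) (C.steps.map Prod.fst) ims :=
  explore_spec hok hg hrels leaf [] C.steps rfl [] List.Forall₂.nil hexp

end Cfsg.Agent.BT62.Check
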