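import Mathlib
import Cfsg.Agent.BT62.Sound

/-!
# Operators realising a model
-/

set_option autoImplicit false

namespace Cfsg.Agent.BT62.Check

variable {K W : Type} [Field K] [AddCommGroup W] [Module K W]

theorem bits_xor (a b : ℕ) : (a ^^^ b) % 2 = (a % 2 + b % 2) % 2 ∧ (a ^^^ b) / 2 = a / 2 ^^^ b / 2 := by
  refine ⟨?_, Nat.xor_div_two⟩
  have h := Nat.testBit_xor a b 0
  simp only [Nat.testBit_zero] at h
  rcases Nat.mod_two_eq_zero_or_one a with ha | ha <;> rcases Nat.mod_two_eq_zero_or_one b with hb | hb <;>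
    simp [ha, hb] at h ⊢ <;> omega

theorem bits_and (a b : ℕ) : (a &&& b) % 2 = a % 2 * (b % 2) ∧ (a &&& b) / 2 = a / 2 &&& b / 2 := by
  refine ⟨?_, Nat.and_div_two⟩
  have h := Nat.testBit_and a b 0
  simp only [Nat.testBit_zero] at h
  rcases Nat.mod_two_eq_zero_or_one a with ha | ha <;> rcases Nat.mod_two_eq_zero_or_one b with hb | hb <;>
    rcases Nat.mod_two_eq_zero_or_one (a &&& b) with hc | hc <;>
    simp [ha, hb, hc] at h ⊢

/-- The exponent of the sign between a sign word and a shift word. -/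
def dotb : ℕ → ℕ → ℕ → ℕ
  | 0, _, _ => 0
  | m + 1, a, b => a % 2 * (b % 2) + dotb m (a / 2) (b / 2)

theorem par_lt (m n : ℕ) : par m n < 2 := by
  cases m <;> simp [par] <;> omega

theorem par_and : ∀ m a b, par m (a &&& b) = dotb m a b % 2 := by
  intro m
  induction m with
  | zero => intros; rfl
  | succ m ih =>
    intro a b
    obtain ⟨h1, h2⟩ := bits_and a b
    rw [par, dotb, h2, ih]
    omega

theorem xor_cancel (a b : ℕ) : a ^^^ b ^^^ b = a := by
  rw [Nat.xor_assoc, Nat.xor_self, Nat.xor_zero]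

theorem par_stab : ∀ m n, n < 2 ^ m → par (m + 1) n = par m n := by
  intro m
  induction m with
  | zero => intro n hn; obtain rfl : n = 0 := (by simpa using hn); rfl
  | succ m ih =>
    intro n hn
    rw [par, ih (n / 2) (by rw [pow_succ] at hn; omega)]
    rfl

theorem dotb_xor : ∀ m a a' b, dotb m (a ^^^ a') b % 2 = (dotb m a b + dotb m a' b) % 2 := by
  intro m
  induction m with
  | zero => intros; rfl
  | succ m ih =>
    intro a a' b
    obtain ⟨h1, h2⟩ := bits_xor a a'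
    have := ih (a / 2) (a' / 2) (b / 2)
    simp only [dotb, h1, h2]
    rcases Nat.mod_two_eq_zero_or_one b with hb | hb <;>
      rcases Nat.mod_two_eq_zero_or_one a with ha | ha <;>
      rcases Nat.mod_two_eq_zero_or_one a' with ha' | ha' <;>
      simp only [ha, ha', hb] <;> omega

theorem alpha_xor : ∀ m s t, alpha m (s ^^^ t) = alpha m s ^^^ alpha m t := by
  intro m
  induction m with
  | zero => intros; simp [alpha]
  | succ m ih =>
    intro s t
    obtain ⟨h1, h2⟩ := bits_xor s t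
    obtain ⟨h3, h4⟩ := bits_xor (s % 2 + 2 * alpha m (s / 4)) (t % 2 + 2 * alpha m (t / 4))
    simp only [alpha]
    have hd : (s ^^^ t) / 4 = s / 4 ^^^ t / 4 := by
      rw [show 4 = 2 * 2 from rfl, ← Nat.div_div_eq_div_mul, h2, Nat.xor_div_two,
        Nat.div_div_eq_div_mul, Nat.div_div_eq_div_mul]
    rw [hd, ih, h1]
    rw [show (s % 2 + 2 * alpha m (s / 4)) / 2 = alpha m (s / 4) by omega,
      show (t % 2 + 2 * alpha m (t / 4)) / 2 = alpha m (t / 4) by omega] at h4
    omega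

theorem beta_eq : ∀ m t, beta m t = alpha m (t / 2) := by
  intro m
  induction m with
  | zero => intros; rfl
  | succ m ih =>
    intro t
    simp only [alpha, beta, ih]
    rw [Nat.div_div_eq_div_mul, Nat.div_div_eq_div_mul]

theorem beta_xor (m s t : ℕ) : beta m (s ^^^ t) = beta m s ^^^ beta m t := by
  rw [beta_eq, beta_eq, beta_eq, Nat.xor_div_two, alpha_xor]

theorem alpha_lt : ∀ m t, alpha m t < 2 ^ m := by
  intro m
  induction m with
  | zero => intro t; simp [alpha]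
  | succ m ih =>
    intro t
    have := ih (t / 4)
    simp only [alpha, pow_succ]
    omega

/-- A commuting word. -/
def wd (Q : ℕ → Module.End K W) : ℕ → ℕ → Module.End K W
  | 0, _ => 1
  | m + 1, a => Q 0 ^ (a % 2) * wd (fun i => Q (i + 1)) m (a / 2)

variable {R : Type} [Monoid R]

theorem wd_comm : ∀ (m : ℕ) (Q : ℕ → Module.End K W) (X : Module.End K W),
    (∀ i < m, Commute X (Q i)) → ∀ a, Commute X (wd Q m a) := by
  intro m
  induction m with
  | zero => intro Q X _ a; exact Commute.one_right X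
  | succ m ih =>
    intro Q X h a
    exact ((h 0 (Nat.succ_pos m)).pow_right _).mul_right
      (ih (fun i => Q (i + 1)) X (fun i hi => h (i + 1) (by omega)) _)

theorem wd_xor : ∀ (m : ℕ) (Q : ℕ → Module.End K W), (∀ i < m, ∀ j < m, Commute (Q i) (Q j)) →
    (∀ i < m, Q i * Q i = 1) → ∀ a b, wd Q m (a ^^^ b) = wd Q m a * wd Q m b := by
  intro m
  induction m with
  | zero => intro Q _ _ a b; exact (mul_one 1).symm
  | succ m ih =>
    intro Q hc hs a b
    obtain ⟨h1, h2⟩ := bits_xor a b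
    simp only [wd]
    rw [h2, ih (fun i => Q (i + 1)) (fun i hi j hj => hc (i + 1) (by omega) (j + 1) (by omega))
      (fun i hi => hs (i + 1) (by omega))]
    have hq : Q 0 ^ ((a ^^^ b) % 2) = Q 0 ^ (a % 2) * Q 0 ^ (b % 2) := by
      rw [← pow_add, h1]
      rcases Nat.mod_two_eq_zero_or_one a with ha | ha <;>
        rcases Nat.mod_two_eq_zero_or_one b with hb | hb <;> simp [ha, hb, pow_two, hs 0 (Nat.succ_pos m)]
    have hcom : Commute (Q 0 ^ (b % 2)) (wd (fun i => Q (i + 1)) m (a / 2)) :=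
      wd_comm m _ _ (fun i hi => (hc 0 (Nat.succ_pos m) (i + 1) (by omega)).pow_left _) _
    rw [hq, mul_assoc, ← mul_assoc (Q 0 ^ (b % 2)), hcom.eq, mul_assoc, ← mul_assoc]

theorem wd_zero : ∀ (m : ℕ) (Q : ℕ → Module.End K W), wd Q m 0 = 1 := by
  intro m
  induction m with
  | zero => intro Q; rfl
  | succ m ih => intro Q; simp [wd, ih]

theorem wd_wd : ∀ (m : ℕ) (P Q : ℕ → Module.End K W),
    (∀ i < m, ∀ j < m, P i * Q j = (if i = j then (-1 : K) else 1) • (Q j * P i)) →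
    ∀ a b, wd P m a * wd Q m b = (-1 : K) ^ dotb m a b • (wd Q m b * wd P m a) := by
  intro m
  induction m with
  | zero => intros; simp [wd, dotb]
  | succ m ih =>
    intro P Q h a b
    simp only [wd, dotb]
    have ih' := ih (fun i => P (i + 1)) (fun i => Q (i + 1))
      (fun i hi j hj => by simpa using h (i + 1) (by omega) (j + 1) (by omega)) (a / 2) (b / 2)
    have c0 : Commute (P 0 ^ (a % 2)) (wd (fun i => Q (i + 1)) m (b / 2)) :=
      wd_comm m _ _ (fun i hi => by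
        refine Commute.pow_left ?_ _
        have := h 0 (Nat.succ_pos m) (i + 1) (by omega)
        simpa [Commute, SemiconjBy] using this) _
    have c1 : Commute (Q 0 ^ (b % 2)) (wd (fun i => P (i + 1)) m (a / 2)) :=
      wd_comm m _ _ (fun i hi => by
        refine Commute.pow_left ?_ _
        have := h (i + 1) (by omega) 0 (Nat.succ_pos m)
        have e : P (i + 1) * Q 0 = Q 0 * P (i + 1) := by simpa using this
        exact e.symm) _
    have h00 : P 0 ^ (a % 2) * Q 0 ^ (b % 2) =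
        (-1 : K) ^ (a % 2 * (b % 2)) • (Q 0 ^ (b % 2) * P 0 ^ (a % 2)) := by
      have := h 0 (Nat.succ_pos m) 0 (Nat.succ_pos m)
      rw [if_pos rfl] at this
      rcases Nat.mod_two_eq_zero_or_one a with ha | ha <;>
        rcases Nat.mod_two_eq_zero_or_one b with hb | hb <;> simp [ha, hb, this]
    rw [mul_assoc, ← mul_assoc (wd (fun i => P (i + 1)) m (a / 2)), ← c1.eq, mul_assoc (Q 0 ^ (b % 2)),
      ih', mul_smul_comm, mul_smul_comm, ← mul_assoc, h00, smul_mul_assoc, smul_smul, pow_add,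
      mul_comm ((-1 : K) ^ (a % 2 * (b % 2)))]
    congr 1
    rw [mul_assoc, ← mul_assoc (P 0 ^ (a % 2)), c0.eq, mul_assoc, mul_assoc]

/-- A first factor and further pairs of anticommuting involutions. -/
structure QS (M : Model) (E : Hom M.A K) (W : Type) [AddCommGroup W] [Module K W] where
  /-- the sign operators -/
  P : ℕ → Module.End K W
  /-- the shift operators -/
  Q : ℕ → Module.End K W
  /-- the first sign operator -/
  P0 : Module.End K W
  /-- the first shift operator -/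
  Q0 : Module.End K W
  /-- the square of the first sign operator -/
  sp : K
  /-- the square of the first shift operator -/
  sq : K
  sp_ne : sp ≠ 0
  sq_ne : sq ≠ 0
  kpos : 0 < M.k
  PP : ∀ i < M.k - 1, ∀ j < M.k - 1, Commute (P i) (P j)
  QQ : ∀ i < M.k - 1, ∀ j < M.k - 1, Commute (Q i) (Q j)
  P2 : ∀ i < M.k - 1, P i * P i = 1
  Q2 : ∀ i < M.k - 1, Q i * Q i = 1
  PQ : ∀ i < M.k - 1, ∀ j < M.k - 1, P i * Q j = (if i = j then (-1 : K) else 1) • (Q j * P i)
  P0c : ∀ i < M.k - 1, Commute P0 (P i) ∧ Commute P0 (Q i)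
  Q0c : ∀ i < M.k - 1, Commute Q0 (P i) ∧ Commute Q0 (Q i)
  P02 : P0 * P0 = sp • 1
  Q02 : Q0 * Q0 = sq • 1
  PQ0 : P0 * Q0 = (-1 : K) • (Q0 * P0)
  /-- the first basis vector -/
  e0 : W
  /-- the second basis vector -/
  e1 : W
  e_fix : ∀ i < M.k - 1, P i e0 = e0 ∧ P i e1 = e1
  e_indep : ∀ c d : K, c • e0 + d • e1 = 0 → c = 0 ∧ d = 0
  row0 : ∀ i < 4, ∀ f : ℕ → K, (P0 ^ (i % 2) * Q0 ^ (i / 2)) (f 0 • e0 + f 1 • e1) =
    (((M.m0 i 0).map fun e => E.emb e.2 * f e.1).sum) • e0 +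
      (((M.m0 i 1).map fun e => E.emb e.2 * f e.1).sum) • e1
  m0_ok : ∀ i < 4, ∀ x < 2, ∀ e ∈ M.m0 i x, e.1 < 2 ∧ e.2 < M.A.q

namespace QS

variable {M : Model} {E : Hom M.A K} (S : QS M E W)

/-- The operator of a word. -/
def op (t : ℕ) : Module.End K W :=
  (S.P0 ^ (t % 2) * S.Q0 ^ (t % 4 / 2)) *
    (wd S.P (M.k - 1) (alpha (M.k - 1) (t / 4)) * wd S.Q (M.k - 1) (beta (M.k - 1) (t / 4)))

/-- The basis. -/
def bas (x : ℕ) : W := wd S.Q (M.k - 1) (x / 2) (if x % 2 = 0 then S.e0 else S.e1)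

theorem fix_word : ∀ (m : ℕ) (P : ℕ → Module.End K W) (w : W), (∀ i < m, P i w = w) →
    ∀ a, wd P m a w = w := by
  intro m
  induction m with
  | zero => intro P w _ a; rfl
  | succ m ih =>
    intro P w h a
    simp only [wd, Module.End.mul_apply, ih (fun i => P (i + 1)) w (fun i hi => h (i + 1) (by omega))]
    rcases Nat.mod_two_eq_zero_or_one a with ha | ha <;> simp [ha, h 0 (Nat.succ_pos m)]

theorem first_comm (t : ℕ) (F : ℕ → Module.End K W)
    (h : ∀ i < M.k - 1, Commute S.P0 (F i) ∧ Commute S.Q0 (F i)) (a : ℕ) :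
    Commute (S.P0 ^ (t % 2) * S.Q0 ^ (t % 4 / 2)) (wd F (M.k - 1) a) :=
  wd_comm _ _ _ (fun i hi => ((h i hi).1.pow_left _).mul_left ((h i hi).2.pow_left _)) _

theorem op_mul (s t : ℕ) : ∃ z : K, z ≠ 0 ∧ S.op s * S.op t = z • S.op (s ^^^ t) := by
  have hs4 : (s ^^^ t) / 4 = s / 4 ^^^ t / 4 := by
    rw [show 4 = 2 * 2 from rfl, ← Nat.div_div_eq_div_mul, Nat.xor_div_two, Nat.xor_div_two,
      Nat.div_div_eq_div_mul, Nat.div_div_eq_div_mul]
  set m := M.k - 1
  set a := alpha m (s / 4)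
  set b := beta m (s / 4)
  set a' := alpha m (t / 4)
  set b' := beta m (t / 4)
  have hswap : wd S.Q m b * wd S.P m a' = (-1 : K) ^ dotb m a' b • (wd S.P m a' * wd S.Q m b) := by
    rw [wd_wd m S.P S.Q S.PQ a' b, smul_smul, ← mul_pow, neg_one_mul, neg_neg, one_pow, one_smul]
  have hup : (wd S.P m a * wd S.Q m b) * (wd S.P m a' * wd S.Q m b') =
      (-1 : K) ^ dotb m a' b • (wd S.P m (alpha m ((s ^^^ t) / 4)) *
        wd S.Q m (beta m ((s ^^^ t) / 4))) := by
    rw [hs4, alpha_xor, beta_xor, wd_xor m S.P S.PP S.P2, wd_xor m S.Q S.QQ S.Q2, mul_assoc,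
      ← mul_assoc (wd S.Q m b), hswap, smul_mul_assoc, mul_smul_comm]
    congr 1
  obtain ⟨z0, hz0, hlow⟩ : ∃ z : K, z ≠ 0 ∧ (S.P0 ^ (s % 2) * S.Q0 ^ (s % 4 / 2)) *
      (S.P0 ^ (t % 2) * S.Q0 ^ (t % 4 / 2)) =
      z • (S.P0 ^ ((s ^^^ t) % 2) * S.Q0 ^ ((s ^^^ t) % 4 / 2)) := by
    have e2 : (s ^^^ t) % 4 / 2 = ((s / 2) ^^^ (t / 2)) % 2 := by
      rw [← Nat.xor_div_two]; omega
    have e2s : s % 4 / 2 = s / 2 % 2 := by omega
    have e2t : t % 4 / 2 = t / 2 % 2 := by omega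
    rw [e2, e2s, e2t, (bits_xor s t).1, (bits_xor (s / 2) (t / 2)).1]
    generalize s % 2 = i, hi : s / 2 % 2 = j
    generalize t % 2 = i', hi' : t / 2 % 2 = j'
    have q0p : S.Q0 * S.P0 = (-1 : K) • (S.P0 * S.Q0) := by
      rw [S.PQ0, smul_smul, neg_one_mul, neg_neg, one_smul]
    have hj : j < 2 := by omega
    have hj' : j' < 2 := by omega
    obtain ⟨hin, hin'⟩ : S.P0 ^ i * S.P0 ^ i' = S.P0 ^ (i + i') ∧ True := ⟨(pow_add _ _ _).symm, trivial⟩
    have hp : ∀ n : ℕ, ∃ z : K, z ≠ 0 ∧ S.P0 ^ n = z • S.P0 ^ (n % 2) := fun n => by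
      refine ⟨S.sp ^ (n / 2), pow_ne_zero _ S.sp_ne, ?_⟩
      conv_lhs => rw [← Nat.div_add_mod n 2]
      rw [pow_add, pow_mul, pow_two, S.P02, smul_pow, one_pow, smul_mul_assoc, one_mul]
    have hq : ∀ n : ℕ, ∃ z : K, z ≠ 0 ∧ S.Q0 ^ n = z • S.Q0 ^ (n % 2) := fun n => by
      refine ⟨S.sq ^ (n / 2), pow_ne_zero _ S.sq_ne, ?_⟩
      conv_lhs => rw [← Nat.div_add_mod n 2]
      rw [pow_add, pow_mul, pow_two, S.Q02, smul_pow, one_pow, smul_mul_assoc, one_mul]
    obtain ⟨zp, hzp, hP⟩ := hp (i + i')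
    obtain ⟨zq, hzq, hQ⟩ := hq (j + j')
    have hsw : ∃ z : K, z ≠ 0 ∧ S.Q0 ^ j * S.P0 ^ i' = z • (S.P0 ^ i' * S.Q0 ^ j) := by
      refine ⟨(-1 : K) ^ (j * i'), pow_ne_zero _ (neg_ne_zero.mpr one_ne_zero), ?_⟩
      interval_cases j
      · simp
      · rw [pow_one, one_mul]
        clear hP hin
        induction i' with
        | zero => simp
        | succ n ihn =>
          rw [pow_succ, ← mul_assoc, ihn, smul_mul_assoc, mul_assoc, q0p, mul_smul_comm, smul_smul,
            ← pow_succ, ← mul_assoc]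
    obtain ⟨zs, hzs, hS⟩ := hsw
    refine ⟨zs * (zp * zq), mul_ne_zero hzs (mul_ne_zero hzp hzq), ?_⟩
    rw [mul_assoc, ← mul_assoc (S.Q0 ^ j), hS, smul_mul_assoc, mul_smul_comm, mul_assoc (S.P0 ^ i'),
      ← mul_assoc (S.P0 ^ i), ← pow_add, ← pow_add, hP, hQ, smul_mul_assoc, mul_smul_comm, smul_smul,
      smul_smul, mul_assoc zs]
  have hc : Commute (S.P0 ^ (t % 2) * S.Q0 ^ (t % 4 / 2)) (wd S.P m a * wd S.Q m b) :=
    (S.first_comm t S.P (fun i hi => ⟨(S.P0c i hi).1, (S.Q0c i hi).1⟩) a).mul_right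
      (S.first_comm t S.Q (fun i hi => ⟨(S.P0c i hi).2, (S.Q0c i hi).2⟩) b)
  refine ⟨z0 * (-1 : K) ^ dotb m a' b, mul_ne_zero hz0 (pow_ne_zero _ (neg_ne_zero.mpr one_ne_zero)), ?_⟩
  show (_ * (wd S.P m a * wd S.Q m b)) * (_ * (wd S.P m a' * wd S.Q m b')) = _
  rw [hc.symm.mul_mul_mul_comm, hup, hlow, smul_mul_assoc, mul_smul_comm, smul_smul]
  rfl

theorem op_zero : S.op 0 = 1 := by
  simp [op, beta_eq, wd_zero, show ∀ m, alpha m 0 = 0 from fun m => by
    induction m with
    | zero => rfl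
    | succ m ih => simp [alpha, ih]]

theorem op_sq (t : ℕ) : ∃ z : K, z ≠ 0 ∧ S.op t * S.op t = z • 1 := by
  obtain ⟨z, hz, h⟩ := S.op_mul t t
  exact ⟨z, hz, by rw [h, Nat.xor_self, S.op_zero]⟩

theorem op_anti (s t : ℕ) :
    S.op s * S.op t = (if anti M s t = 1 then (-1 : K) else 1) • (S.op t * S.op s) := by
  set m := M.k - 1
  set a := alpha m (s / 4)
  set b := beta m (s / 4)
  set a' := alpha m (t / 4)
  set b' := beta m (t / 4)
  have hk : M.k = m + 1 := by have := S.kpos; omega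
  have hswap : ∀ a b, wd S.Q m b * wd S.P m a = (-1 : K) ^ dotb m a b • (wd S.P m a * wd S.Q m b) :=
    fun a b => by
    rw [wd_wd m S.P S.Q S.PQ a b, smul_smul, ← mul_pow, neg_one_mul, neg_neg, one_pow, one_smul]
  have hup : (wd S.P m a * wd S.Q m b) * (wd S.P m a' * wd S.Q m b') =
      ((-1 : K) ^ (dotb m a b' + dotb m a' b)) •
        ((wd S.P m a' * wd S.Q m b') * (wd S.P m a * wd S.Q m b)) := by
    have e1 : (wd S.P m a * wd S.Q m b) * (wd S.P m a' * wd S.Q m b') =
        (-1 : K) ^ dotb m a' b • (wd S.P m (a ^^^ a') * wd S.Q m (b ^^^ b')) := by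
      rw [wd_xor m S.P S.PP S.P2, wd_xor m S.Q S.QQ S.Q2, mul_assoc, ← mul_assoc (wd S.Q m b),
        hswap, smul_mul_assoc, mul_smul_comm]
      simp only [mul_assoc]
    have e2 : (wd S.P m a' * wd S.Q m b') * (wd S.P m a * wd S.Q m b) =
        (-1 : K) ^ dotb m a b' • (wd S.P m (a ^^^ a') * wd S.Q m (b ^^^ b')) := by
      rw [Nat.xor_comm a, Nat.xor_comm b, wd_xor m S.P S.PP S.P2, wd_xor m S.Q S.QQ S.Q2, mul_assoc,
        ← mul_assoc (wd S.Q m b'), hswap, smul_mul_assoc, mul_smul_comm]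
      simp only [mul_assoc]
    rw [e1, e2, smul_smul, pow_add, mul_comm ((-1 : K) ^ dotb m a b'), mul_assoc, ← mul_pow,
      neg_one_mul, neg_neg, one_pow, mul_one]
  have hlow : (S.P0 ^ (s % 2) * S.Q0 ^ (s % 4 / 2)) * (S.P0 ^ (t % 2) * S.Q0 ^ (t % 4 / 2)) =
      ((-1 : K) ^ (s % 2 * (t % 4 / 2) + t % 2 * (s % 4 / 2))) •
        ((S.P0 ^ (t % 2) * S.Q0 ^ (t % 4 / 2)) * (S.P0 ^ (s % 2) * S.Q0 ^ (s % 4 / 2))) := by
    have q0p : S.Q0 * S.P0 = (-1 : K) • (S.P0 * S.Q0) := by
      rw [S.PQ0, smul_smul, neg_one_mul, neg_neg, one_smul]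
    have a1 : ∀ x, S.Q0 * (S.P0 * x) = (-1 : K) • (S.P0 * (S.Q0 * x)) := fun x => by
      rw [← mul_assoc, q0p, smul_mul_assoc, mul_assoc]
    rcases Nat.mod_two_eq_zero_or_one s with e1 | e1 <;> rcases Nat.mod_two_eq_zero_or_one t with e2 | e2 <;>
      rcases Nat.mod_two_eq_zero_or_one (s / 2) with e3 | e3 <;>
      rcases Nat.mod_two_eq_zero_or_one (t / 2) with e4 | e4 <;>
      simp [e1, e2, show s % 4 / 2 = s / 2 % 2 by omega, show t % 4 / 2 = t / 2 % 2 by omega, e3, e4,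
        q0p, a1, mul_assoc]
  have hsign : anti M s t =
      (s % 2 * (t % 4 / 2) + t % 2 * (s % 4 / 2) + (dotb m a b' + dotb m a' b)) % 2 := by
    have h1 : ∀ t, alpha M.k t = t % 2 + 2 * alpha m (t / 4) := fun t => by rw [hk]; rfl
    have h2 : ∀ t, beta M.k t = t / 2 % 2 + 2 * beta m (t / 4) := fun t => by rw [hk]; rfl
    have hd : ∀ a b a' b', a < 2 → b < 2 →
        dotb (m + 1) (a + 2 * a') (b + 2 * b') = a * b + dotb m a' b' := fun a b a' b' ha hb => by
      rw [dotb, show (a + 2 * a') % 2 = a by omega, show (b + 2 * b') % 2 = b by omega,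
        show (a + 2 * a') / 2 = a' by omega, show (b + 2 * b') / 2 = b' by omega]
    unfold anti
    rw [Nat.land_comm (beta M.k s), par_and, par_and, h1, h1, h2, h2, hk,
      hd _ _ _ _ (by omega) (by omega), hd _ _ _ _ (by omega) (by omega),
      show s % 4 / 2 = s / 2 % 2 by omega, show t % 4 / 2 = t / 2 % 2 by omega,
      show alpha m (s / 4) = a from rfl, show beta m (s / 4) = b from rfl,
      show alpha m (t / 4) = a' from rfl, show beta m (t / 4) = b' from rfl]
    omega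
  have hs : (if anti M s t = 1 then (-1 : K) else 1) =
      (-1 : K) ^ (s % 2 * (t % 4 / 2) + t % 2 * (s % 4 / 2) + (dotb m a b' + dotb m a' b)) := by
    rw [hsign, neg_one_pow_eq_pow_mod_two (R := K) (n := _ + _)]
    rcases Nat.mod_two_eq_zero_or_one
      (s % 2 * (t % 4 / 2) + t % 2 * (s % 4 / 2) + (dotb m a b' + dotb m a' b)) with h | h <;> simp [h]
  have hc : ∀ s t : ℕ, Commute (S.P0 ^ (t % 2) * S.Q0 ^ (t % 4 / 2))
      (wd S.P m (alpha m (s / 4)) * wd S.Q m (beta m (s / 4))) := fun s t =>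
    (S.first_comm t S.P (fun i hi => ⟨(S.P0c i hi).1, (S.Q0c i hi).1⟩) _).mul_right
      (S.first_comm t S.Q (fun i hi => ⟨(S.P0c i hi).2, (S.Q0c i hi).2⟩) _)
  show (_ * (wd S.P m a * wd S.Q m b)) * (_ * (wd S.P m a' * wd S.Q m b')) =
    _ • ((_ * (wd S.P m a' * wd S.Q m b')) * (_ * (wd S.P m a * wd S.Q m b)))
  rw [hs, ((hc s t).symm).mul_mul_mul_comm, ((hc t s).symm).mul_mul_mul_comm, hup, hlow,
    smul_mul_assoc, mul_smul_comm, smul_smul, ← pow_add]

theorem dim_eq (S : QS M E W) : dim M = 2 * 2 ^ (M.k - 1) := by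
  have := S.kpos
  rw [dim, ← pow_succ']
  congr 1
  omega

theorem sum_dim (S : QS M E W) (f : ℕ → W) : ∑ x ∈ Finset.range (dim M), f x =
    ∑ z ∈ Finset.range (2 ^ (M.k - 1)), (f (2 * z) + f (2 * z + 1)) := by
  rw [S.dim_eq]
  generalize 2 ^ (M.k - 1) = n
  induction n with
  | zero => rfl
  | succ n ih => rw [Nat.mul_succ, Finset.sum_range_succ, Finset.sum_range_succ, ih,
      Finset.sum_range_succ, add_assoc]

theorem indep_aux : ∀ (m : ℕ) (P Q : ℕ → Module.End K W), (2 : K) ≠ 0 →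
    (∀ i < m, ∀ j < m, P i * Q j = (if i = j then (-1 : K) else 1) • (Q j * P i)) →
    (∀ i < m, Q i * Q i = 1) → ∀ u : ℕ → W, (∀ i < m, ∀ z, P i (u z) = u z) →
    ∑ z ∈ Finset.range (2 ^ m), wd Q m z (u z) = 0 → ∀ z < 2 ^ m, u z = 0 := by
  intro m
  induction m with
  | zero =>
    intro P Q _ _ _ u _ h z hz
    have : z = 0 := by simpa using hz
    subst this
    simpa [wd] using h
  | succ m ih =>
    intro P Q h2 hPQ hQ2 u hu hsum z hz
    set Q' : ℕ → Module.End K W := fun i => Q (i + 1)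
    set A := ∑ w ∈ Finset.range (2 ^ m), wd Q' m w (u (2 * w)) with hA
    set B := ∑ w ∈ Finset.range (2 ^ m), wd Q' m w (u (2 * w + 1)) with hB
    have hsplit : A + Q 0 B = 0 := by
      rw [← hsum, hA, hB, map_sum, ← Finset.sum_add_distrib]
      rw [pow_succ']
      generalize 2 ^ m = n
      induction n with
      | zero => rfl
      | succ n ihn =>
        rw [Finset.sum_range_succ, ihn, Nat.mul_succ, Finset.sum_range_succ (n := 2 * n + 1),
          Finset.sum_range_succ (n := 2 * n), add_assoc]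
        congr 1
        simp only [wd, Module.End.mul_apply, show (2 * n) % 2 = 0 by omega, show (2 * n) / 2 = n by omega,
          show (2 * n + 1) % 2 = 1 by omega, show (2 * n + 1) / 2 = n by omega, pow_zero, pow_one,
          Module.End.one_apply]
        rfl
    have hP : ∀ w, Commute (P 0) (wd Q' m w) := fun w => wd_comm m _ _ (fun i hi => by
      have := hPQ 0 (Nat.succ_pos m) (i + 1) (by omega)
      simpa [Commute, SemiconjBy, Q'] using this) w
    have hPfix : ∀ v : ℕ → W, (∀ w, P 0 (v w) = v w) →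
        P 0 (∑ w ∈ Finset.range (2 ^ m), wd Q' m w (v w)) =
          ∑ w ∈ Finset.range (2 ^ m), wd Q' m w (v w) := by
      intro v hv
      rw [map_sum]
      refine Finset.sum_congr rfl fun w _ => ?_
      rw [← Module.End.mul_apply, (hP w).eq, Module.End.mul_apply, hv]
    have hPA : P 0 A = A := hPfix _ fun w => hu 0 (Nat.succ_pos m) _
    have hPB : P 0 B = B := hPfix _ fun w => hu 0 (Nat.succ_pos m) _
    have h1 := congrArg (P 0) hsplit
    rw [map_add, map_zero, hPA, ← Module.End.mul_apply, hPQ 0 (Nat.succ_pos m) 0 (Nat.succ_pos m),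
      if_pos rfl, LinearMap.smul_apply, Module.End.mul_apply, hPB, neg_one_smul] at h1
    have hA0 : A = 0 := by
      have : (2 : K) • A = 0 := by
        rw [two_smul]
        calc A + A = (A + Q 0 B) + (A + -(Q 0 B)) := by abel
          _ = 0 := by rw [hsplit, h1, add_zero]
      exact (smul_eq_zero.mp this).resolve_left h2
    have hB0 : B = 0 := by
      rw [hA0, zero_add] at hsplit
      have := congrArg (Q 0) hsplit
      rwa [← Module.End.mul_apply, hQ2 0 (Nat.succ_pos m), Module.End.one_apply, map_zero] at this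
    have hd := ih (fun i => P (i + 1)) Q' h2
      (fun i hi j hj => by simpa [Q'] using hPQ (i + 1) (by omega) (j + 1) (by omega))
      (fun i hi => hQ2 (i + 1) (by omega))
    have hz2 : z / 2 < 2 ^ m := by rw [pow_succ] at hz; omega
    rcases Nat.mod_two_eq_zero_or_one z with he | he
    · have := hd (fun w => u (2 * w)) (fun i hi w => hu (i + 1) (by omega) _) hA0 _ hz2
      rwa [show 2 * (z / 2) = z by omega] at this
    · have := hd (fun w => u (2 * w + 1)) (fun i hi w => hu (i + 1) (by omega) _) hB0 _ hz2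
      rwa [show 2 * (z / 2) + 1 = z by omega] at this

theorem indep (h2 : (2 : K) ≠ 0) (c : ℕ → K)
    (h : ∑ x ∈ Finset.range (dim M), c x • S.bas x = 0) : ∀ x < dim M, c x = 0 := by
  intro x hx
  rw [S.sum_dim] at h
  have h' : ∑ z ∈ Finset.range (2 ^ (M.k - 1)),
      wd S.Q (M.k - 1) z (c (2 * z) • S.e0 + c (2 * z + 1) • S.e1) = 0 := by
    rw [← h]
    refine Finset.sum_congr rfl fun z _ => ?_
    simp only [bas, show (2 * z) % 2 = 0 by omega, show (2 * z) / 2 = z by omega,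
      show (2 * z + 1) % 2 = 1 by omega, show (2 * z + 1) / 2 = z by omega, if_true, map_add, map_smul]
    rw [if_neg (by norm_num)]
  have := indep_aux (M.k - 1) S.P S.Q h2 S.PQ S.Q2 _ (fun i hi z => by
    rw [map_add, map_smul, map_smul, (S.e_fix i hi).1, (S.e_fix i hi).2]) h' (x / 2)
    (by rw [S.dim_eq] at hx; omega)
  obtain ⟨i1, i2⟩ := S.e_indep _ _ this
  rcases Nat.mod_two_eq_zero_or_one x with he | he
  · rwa [show 2 * (x / 2) = x by omega] at i1
  · rwa [show 2 * (x / 2) + 1 = x by omega] at i2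

theorem rowOK (S : QS M E W) : RowOK M := by
  intro t _ x hx e he
  simp only [row, List.mem_map] at he
  obtain ⟨e', he', rfl⟩ := he
  obtain ⟨h1, h2⟩ := S.m0_ok (t % 4) (Nat.mod_lt _ (by norm_num)) (x % 2) (Nat.mod_lt _ two_pos) e' he'
  refine ⟨?_, E.mul_lt _ ?_ _ h2⟩
  · have hd := S.dim_eq
    have hk := S.kpos
    have hb : beta (M.k - 1) (t / 4) < 2 ^ (M.k - 1) := by rw [beta_eq]; exact alpha_lt _ _
    have := Nat.xor_lt_two_pow (show x / 2 < 2 ^ (M.k - 1) by omega) hb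
    show e'.1 + 2 * _ < dim M
    omega
  · split
    · exact E.neg_lt
    · exact E.one_lt

theorem act_vec (S : QS M E W) {t : ℕ} (ht : t < 4 ^ M.k) {v : ℕ} (hv : Valid M v) :
    S.op t (vec E S.bas v) = vec E S.bas (Check.act M 1 t v) := by
  set m := M.k - 1 with hm
  set a := alpha m (t / 4) with ha
  set b := beta m (t / 4) with hb
  set L := S.P0 ^ (t % 2) * S.Q0 ^ (t % 4 / 2) with hL
  have hbm : b < 2 ^ m := by rw [hb, beta_eq]; exact alpha_lt _ _
  have hbas : ∀ (f : ℕ → K), ∑ x ∈ Finset.range (dim M), f x • S.bas x =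
      ∑ z ∈ Finset.range (2 ^ m), wd S.Q m z (f (2 * z) • S.e0 + f (2 * z + 1) • S.e1) := by
    intro f
    rw [S.sum_dim]
    refine Finset.sum_congr rfl fun z _ => ?_
    simp only [bas, show (2 * z) % 2 = 0 by omega, show (2 * z) / 2 = z by omega,
      show (2 * z + 1) % 2 = 1 by omega, show (2 * z + 1) / 2 = z by omega, if_true, map_add, map_smul]
    rw [if_neg (by norm_num)]
  simp only [vec]
  rw [hbas, hbas, map_sum]
  refine Finset.sum_nbij' (fun z => z ^^^ b) (fun z => z ^^^ b)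
    (fun z hz => Finset.mem_range.mpr (Nat.xor_lt_two_pow (Finset.mem_range.mp hz) hbm))
    (fun z hz => Finset.mem_range.mpr (Nat.xor_lt_two_pow (Finset.mem_range.mp hz) hbm))
    (fun z _ => xor_cancel _ _) (fun z _ => xor_cancel _ _) (fun z hz => ?_)
  have hz' := Nat.xor_lt_two_pow (Finset.mem_range.mp hz) hbm
  set w := z ^^^ b with hw
  set f : ℕ → K := fun i => E.emb (digit v (i + 2 * z))
  set u := f 0 • S.e0 + f 1 • S.e1 with hu
  have hu' : u = E.emb (digit v (2 * z)) • S.e0 + E.emb (digit v (2 * z + 1)) • S.e1 := by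
    simp only [hu, f, zero_add, add_comm 1]
  rw [← hu']
  have hop : S.op t (wd S.Q m z u) = (-1 : K) ^ dotb m a w • wd S.Q m w (L u) := by
    have hPu : wd S.P m a u = u := fix_word m S.P u (fun i hi => by
      rw [hu, map_add, map_smul, map_smul, (S.e_fix i hi).1, (S.e_fix i hi).2]) a
    show (L * (wd S.P m a * wd S.Q m b)) (wd S.Q m z u) = _
    rw [← Module.End.mul_apply, mul_assoc L, mul_assoc (wd S.P m a), ← wd_xor m S.Q S.QQ S.Q2,
      Nat.xor_comm b, ← hw, wd_wd m S.P S.Q S.PQ, mul_smul_comm, ← mul_assoc,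
      (S.first_comm t S.Q (fun i hi => ⟨(S.P0c i hi).2, (S.Q0c i hi).2⟩) w).eq, LinearMap.smul_apply,
      Module.End.mul_apply, Module.End.mul_apply, hPu]
  rw [hop]
  have hd : dim M = 2 * 2 ^ m := S.dim_eq
  have hzx : z = w ^^^ b := (xor_cancel _ _).symm
  set sg := if par m (a &&& w) = 1 then M.A.neg1 else 1 with hsg
  have hsgn : E.emb sg = (-1 : K) ^ dotb m a w := by
    rw [hsg, par_and, neg_one_pow_eq_pow_mod_two (R := K) (n := dotb m a w)]
    rcases Nat.mod_two_eq_zero_or_one (dotb m a w) with h | h <;> simp [h, E.neg, E.one]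
  have hsglt : sg < M.A.q := by
    rw [hsg]; split
    · exact E.neg_lt
    · exact E.one_lt
  have hent : ∀ i < 2, E.emb (digit (Check.act M 1 t v) (i + 2 * w)) =
      (-1 : K) ^ dotb m a w * ((M.m0 (t % 4) i).map fun e => E.emb e.2 * f e.1).sum := by
    intro i hi
    have hlt : i + 2 * w < dim M := by omega
    rw [(act_spec E S.rowOK E.one_lt ht hv).2 _ hlt]
    unfold entry
    have hfold := E.fold_spec ((row M t (i + 2 * w)).map fun e => (e.2, digit v e.1)) (by
      intro e he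
      obtain ⟨e', he', rfl⟩ := List.mem_map.mp he
      exact ⟨(S.rowOK t ht _ hlt e' he').2, hv _ (S.rowOK t ht _ hlt e' he').1⟩)
    rw [List.foldr_map, List.map_map] at hfold
    rw [E.mul_eq _ E.one_lt _ hfold.1, E.one, one_mul, hfold.2]
    simp only [row, List.map_map, show (i + 2 * w) % 2 = i by omega, show (i + 2 * w) / 2 = w by omega]
    rw [← List.sum_map_mul_left]
    refine congrArg List.sum (List.map_congr_left fun e he => ?_)
    have he' := S.m0_ok (t % 4) (Nat.mod_lt _ (by norm_num)) i hi e he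
    have hpar : par M.k (a &&& w) = par m (a &&& w) := by
      rw [show M.k = m + 1 by have := S.kpos; omega]
      exact par_stab m _ (lt_of_le_of_lt Nat.and_le_left (by rw [ha]; exact alpha_lt _ _))
    simp only [Function.comp_apply, ← hm, ← ha, ← hb, hpar, ← hsg]
    rw [E.mul_eq _ hsglt _ he'.2, hsgn, ← hzx, mul_assoc]
  have hrow := S.row0 (t % 4) (Nat.mod_lt _ (by norm_num)) f
  rw [show t % 4 % 2 = t % 2 by omega, ← hL, ← hu] at hrow
  have h0 := hent 0 two_pos
  have h1 := hent 1 one_lt_two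
  rw [zero_add] at h0
  rw [add_comm 1] at h1
  rw [h0, h1, hrow, ← map_smul, smul_add, smul_smul, smul_smul]

/-- The operators satisfy the hypotheses of the checker. -/
theorem ok (S : QS M E W) (h2 : (2 : K) ≠ 0) : OK E S.bas S.op where
  rows := S.rowOK
  indep := S.indep h2
  act t ht v hv := S.act_vec ht hv
  sq t _ := by
    obtain ⟨z, -, hz⟩ := S.op_sq t
    exact ⟨z, fun w => by rw [← Module.End.mul_apply, hz]; rfl⟩
  surj t _ w := by
    obtain ⟨z, hz0, hz⟩ := S.op_sq t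
    refine ⟨z⁻¹ • S.op t w, ?_⟩
    rw [map_smul, ← Module.End.mul_apply, hz, LinearMap.smul_apply, Module.End.one_apply, smul_smul,
      inv_mul_cancel₀ hz0, one_smul]
  anti s _ t _ w := by
    rw [← Module.End.mul_apply, S.op_anti]; rfl

end QS

end Cfsg.Agent.BT62.Check
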