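import Mathlib
import Cfsg.Agent.BT62.Basis
import Cfsg.Agent.BT62.Qubit

/-!
# The frame as a realisation of a model
-/

set_option autoImplicit false

namespace Cfsg.Agent.BT62

open scoped commutatorElement
open BC85.BaseTwo BC85.BaseThree

variable {H V K : Type} [Group H] [Finite H] [AddCommGroup V] [DistribMulAction H V] [Field K]
  [Module K V] (F : FD H V K)

namespace FD

/-- An operator proportional to one of the section. -/
def Mon (T : Module.End K V) : Prop := ∃ n : F.N, ∃ z : K, z ≠ 0 ∧ T = z • F.lmap n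

theorem mon_one : F.Mon 1 := ⟨1, 1, one_ne_zero, by rw [F.lmap_one, one_smul]⟩

theorem mon_mul {S T : Module.End K V} (hS : F.Mon S) (hT : F.Mon T) : F.Mon (S * T) := by
  obtain ⟨n, z, hz, rfl⟩ := hS
  obtain ⟨m, w, hw, rfl⟩ := hT
  exact ⟨n * m, z * w, mul_ne_zero hz hw, by
    rw [F.lmap_mul, smul_mul_assoc, mul_smul_comm, smul_smul]⟩

theorem mon_pow {S : Module.End K V} (hS : F.Mon S) : ∀ m : ℕ, F.Mon (S ^ m)
  | 0 => by rw [pow_zero]; exact F.mon_one
  | m + 1 => by rw [pow_succ]; exact F.mon_mul (mon_pow hS m) hS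

theorem mon_wd : ∀ (m : ℕ) (Q : ℕ → Module.End K V), (∀ i < m, F.Mon (Q i)) →
    ∀ a, F.Mon (Check.wd Q m a)
  | 0, _, _, _ => F.mon_one
  | m + 1, _, h, _ => F.mon_mul (F.mon_pow (h 0 (Nat.succ_pos m)) _)
      (mon_wd m _ (fun i hi => h (i + 1) (by omega)) _)

/-- The model is realised on the module. -/
structure Real (M : Check.Model) (E : Check.Hom M.A K) where
  /-- the operators -/
  S : Check.QS M E V
  mon : ∀ t : ℕ, F.Mon (S.op t)
  rep : ∀ n : F.N, ∃ t, t < 4 ^ M.k ∧ ∃ z : K, z ≠ 0 ∧ F.lmap n = z • S.op t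

theorem wd_unit : ∀ (m : ℕ) (Q : ℕ → Module.End K V) (i : ℕ), i < m →
    Check.wd Q m (2 ^ i) = Q i := by
  intro m
  induction m with
  | zero => intro Q i hi; omega
  | succ m ih =>
    intro Q i hi
    rcases i with _ | i
    · simp [Check.wd, Check.wd_zero]
    · simp only [Check.wd, pow_succ, Nat.mul_mod_left, pow_zero, one_mul,
        Nat.mul_div_cancel _ two_pos]
      exact ih _ i (by omega)

theorem alpha_zero : ∀ m, Check.alpha m 0 = 0
  | 0 => rfl
  | m + 1 => by simp [Check.alpha, alpha_zero m]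

theorem alpha_unit : ∀ m i, i < m →
    Check.alpha m (4 ^ i) = 2 ^ i ∧ Check.alpha m (2 * 4 ^ i) = 0 ∧
      Check.beta m (4 ^ i) = 0 ∧ Check.beta m (2 * 4 ^ i) = 2 ^ i := by
  intro m
  induction m with
  | zero => intro i hi; omega
  | succ m ih =>
    intro i hi
    rcases i with _ | i
    · refine ⟨?_, ?_, ?_, ?_⟩ <;>
        simp [Check.alpha, Check.beta, alpha_zero, Check.beta_eq]
    · obtain ⟨h1, h2, h3, h4⟩ := ih i (by omega)
      simp only [pow_succ, Check.alpha, Check.beta]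
      rw [show 4 ^ i * 4 % 2 = 0 by omega, show 4 ^ i * 4 / 4 = 4 ^ i by omega,
        show 2 * (4 ^ i * 4) % 2 = 0 by omega, show 2 * (4 ^ i * 4) / 4 = 2 * 4 ^ i by omega,
        show 4 ^ i * 4 / 2 % 2 = 0 by omega, show 2 * (4 ^ i * 4) / 2 % 2 = 0 by omega, h1, h2, h3, h4]
      refine ⟨?_, ?_, ?_, ?_⟩ <;> ring

variable {M : Check.Model} {E : Check.Hom M.A K} (S : Check.QS M E V)

theorem op_upperP (i : ℕ) (hi : i < M.k - 1) : S.op (4 ^ (i + 1)) = S.P i := by
  obtain ⟨h1, -, h3, -⟩ := alpha_unit (M.k - 1) i hi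
  simp only [Check.QS.op, show 4 ^ (i + 1) % 2 = 0 by rw [pow_succ]; omega,
    show 4 ^ (i + 1) % 4 / 2 = 0 by rw [pow_succ]; omega,
    show 4 ^ (i + 1) / 4 = 4 ^ i by rw [pow_succ]; omega, h1, h3, pow_zero, one_mul,
    Check.wd_zero, mul_one]
  exact wd_unit _ _ _ hi

theorem op_upperQ (i : ℕ) (hi : i < M.k - 1) : S.op (2 * 4 ^ (i + 1)) = S.Q i := by
  obtain ⟨-, h2, -, h4⟩ := alpha_unit (M.k - 1) i hi
  simp only [Check.QS.op, show 2 * 4 ^ (i + 1) % 2 = 0 by omega,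
    show 2 * 4 ^ (i + 1) % 4 / 2 = 0 by rw [pow_succ]; omega,
    show 2 * 4 ^ (i + 1) / 4 = 2 * 4 ^ i by rw [pow_succ]; omega, h2, h4, pow_zero, one_mul,
    Check.wd_zero, one_mul]
  exact wd_unit _ _ _ hi

theorem op_first : S.op 1 = S.P0 ∧ S.op 2 = S.Q0 := by
  constructor <;>
    simp [Check.QS.op, alpha_zero, Check.beta_eq, Check.wd_zero]

theorem mon_op (hP : ∀ i < M.k - 1, F.Mon (S.P i) ∧ F.Mon (S.Q i)) (hP0 : F.Mon S.P0)
    (hQ0 : F.Mon S.Q0) (t : ℕ) : F.Mon (S.op t) :=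
  F.mon_mul (F.mon_mul (F.mon_pow hP0 _) (F.mon_pow hQ0 _))
    (F.mon_mul (F.mon_wd _ _ (fun i hi => (hP i hi).1) _) (F.mon_wd _ _ (fun i hi => (hP i hi).2) _))

/-- The elements represented by words. -/
noncomputable def repSub : Subgroup H where
  carrier := {x | ∃ h : x ∈ F.N, ∃ t, t < 4 ^ M.k ∧ ∃ z : K, z ≠ 0 ∧ F.lmap ⟨x, h⟩ = z • S.op t}
  one_mem' := ⟨F.N.one_mem, 0, by positivity, 1, one_ne_zero, by
    rw [show (⟨1, F.N.one_mem⟩ : F.N) = 1 from rfl, F.lmap_one, S.op_zero, one_smul]⟩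
  mul_mem' := fun {a b} ⟨ha, s, hs, z, hz, e⟩ ⟨hb, t, ht, w, hw, e'⟩ => by
    obtain ⟨u, hu, h⟩ := S.op_mul s t
    refine ⟨F.N.mul_mem ha hb, s ^^^ t, ?_, z * w * u, mul_ne_zero (mul_ne_zero hz hw) hu, ?_⟩
    · rw [show (4 : ℕ) = 2 ^ 2 from rfl, ← pow_mul] at hs ht ⊢
      exact Nat.xor_lt_two_pow hs ht
    · rw [show (⟨a * b, F.N.mul_mem ha hb⟩ : F.N) = ⟨a, ha⟩ * ⟨b, hb⟩ from rfl, F.lmap_mul, e, e',
        smul_mul_assoc, mul_smul_comm, smul_smul, h, smul_smul]
  inv_mem' := fun {a} ⟨ha, s, hs, z, hz, e⟩ => by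
    obtain ⟨u, hu, h⟩ := S.op_sq s
    refine ⟨F.N.inv_mem ha, s, hs, z⁻¹ * u⁻¹, mul_ne_zero (inv_ne_zero hz) (inv_ne_zero hu), ?_⟩
    have hl : F.lmap ⟨a⁻¹, F.N.inv_mem ha⟩ * F.lmap ⟨a, ha⟩ = 1 := by
      rw [← F.lmap_mul, show (⟨a⁻¹, F.N.inv_mem ha⟩ : F.N) * ⟨a, ha⟩ = 1 from
        Subtype.ext (inv_mul_cancel a), F.lmap_one]
    have hr : F.lmap ⟨a, ha⟩ * ((z⁻¹ * u⁻¹) • S.op s) = 1 := by
      rw [e, smul_mul_assoc, mul_smul_comm, smul_smul, h, smul_smul,
        show z * (z⁻¹ * u⁻¹) * u = 1 by field_simp, one_smul]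
    exact left_inv_eq_right_inv hl hr

theorem repSub_mem {n : F.N} {t : ℕ} (ht : t < 4 ^ M.k) {z : K} (hz : z ≠ 0)
    (h : S.op t = z • F.lmap n) : (n : H) ∈ F.repSub S :=
  ⟨n.2, t, ht, z⁻¹, inv_ne_zero hz, by rw [h, smul_smul, inv_mul_cancel₀ hz, one_smul]⟩

theorem U_le_repSub : F.U ≤ F.repSub S := fun u hu =>
  ⟨F.hN.le hu, 0, by positivity, F.ι ⟨u, hu⟩, Units.ne_zero _, LinearMap.ext fun w => by
    rw [S.op_zero]; exact F.hιv ⟨u, hu⟩ w⟩

variable {F}

/-- The normalised signs and shifts. -/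
theorem SB.exists_ops {D : ℕ} {e : F.X ≃+ (Fin D → ZMod 2)} {P R : F.N} (B : F.SB D e P R)
    (hX : ∀ x : F.X, 2 • x = 0) (h2 : (2 : K) ≠ 0) (hP : (P : H) ∈ F.Y) (hR : (R : H) ∈ F.Y) :
    ∃ A Q : ℕ → Module.End K V,
      (∀ i < D, (∃ z : K, z ≠ 0 ∧ A i = z • F.lmap (B.a i)) ∧ (∃ z : K, z ≠ 0 ∧ Q i = z • F.lmap (B.b i))) ∧
      (∀ i < D, ∀ j < D, Commute (A i) (A j)) ∧ (∀ i < D, ∀ j < D, Commute (Q i) (Q j)) ∧
      (∀ i < D, A i * A i = 1) ∧ (∀ i < D, Q i * Q i = 1) ∧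
      (∀ i < D, ∀ j < D, A i * Q j = (if i = j then (-1 : K) else 1) • (Q j * A i)) ∧
      (∀ i < D, Commute (F.lmap P) (A i) ∧ Commute (F.lmap P) (Q i)) ∧
      (∀ i < D, Commute (F.lmap R) (A i) ∧ Commute (F.lmap R) (Q i)) ∧
      (∀ i < D, A i F.v = F.v) := by
  classical
  let A : ℕ → Module.End K V := fun i =>
    if h : i < D then (F.χ ⟨B.a i, B.haA i h⟩)⁻¹ • F.lmap (B.a i) else 1
  have hb : ∀ i, ∃ c : K, c ≠ 0 ∧ (i < D → F.lmap (B.b i) * F.lmap (B.b i) = c ^ 2 • 1) := fun i => by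
    by_cases h : i < D
    · obtain ⟨c, h1, h2⟩ := B.hb2 i h; exact ⟨c, h1, fun _ => h2⟩
    · exact ⟨1, one_ne_zero, fun h' => absurd h' h⟩
  choose c hc0 hc using hb
  let Q : ℕ → Module.End K V := fun i => (c i)⁻¹ • F.lmap (B.b i)
  have hA : ∀ i (h : i < D), A i = (F.χ ⟨B.a i, B.haA i h⟩)⁻¹ • F.lmap (B.a i) := fun i h => dif_pos h
  have hsw : ∀ (n m : F.N) (z w : K), F.sgn n m = 1 → Commute (z • F.lmap n) (w • F.lmap m) := by
    intro n m z w h
    refine (Commute.smul_left ?_ z).smul_right w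
    show F.lmap n * F.lmap m = F.lmap m * F.lmap n
    rw [F.lmap_swap, h, one_smul]
  have hAv : ∀ i < D, A i F.v = F.v := fun i hi => by
    rw [hA i hi, LinearMap.smul_apply, lmap_apply,
      show (B.a i : H) • F.v = F.χ ⟨B.a i, B.haA i hi⟩ • F.v from F.χ_spec ⟨_, B.haA i hi⟩,
      smul_smul, inv_mul_cancel₀ (F.χ_ne _), one_smul]
  refine ⟨A, Q, fun i hi => ⟨⟨_, inv_ne_zero (F.χ_ne _), hA i hi⟩, ⟨_, inv_ne_zero (hc0 i), rfl⟩⟩,
    fun i hi j hj => by rw [hA i hi, hA j hj]; exact hsw _ _ _ _ (F.sgn_A (B.haA i hi) (B.haA j hj)),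
    fun i hi j hj => hsw _ _ _ _ (B.hbb i hi j hj), fun i hi => ?_, fun i hi => ?_,
    fun i hi j hj => ?_, fun i hi => ⟨?_, ?_⟩, fun i hi => ⟨?_, ?_⟩, hAv⟩
  · obtain ⟨u, hu0, hu⟩ := F.lmap_sq hX (B.a i)
    have h1 : A i * A i = ((F.χ ⟨B.a i, B.haA i hi⟩)⁻¹ * (F.χ ⟨B.a i, B.haA i hi⟩)⁻¹ * u) • 1 := by
      rw [hA i hi, smul_mul_assoc, mul_smul_comm, smul_smul, hu, smul_smul]
    have h3 := congrArg (fun f : Module.End K V => f F.v) h1
    simp only [Module.End.mul_apply, hAv i hi, LinearMap.smul_apply, Module.End.one_apply] at h3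
    rw [h1]
    have h4 : ((F.χ ⟨B.a i, B.haA i hi⟩)⁻¹ * (F.χ ⟨B.a i, B.haA i hi⟩)⁻¹ * u - 1) • F.v = 0 := by
      rw [sub_smul, one_smul, ← h3, sub_self]
    rw [sub_eq_zero.mp ((smul_eq_zero.mp h4).resolve_right F.hv), one_smul]
  · show ((c i)⁻¹ • F.lmap (B.b i)) * ((c i)⁻¹ • F.lmap (B.b i)) = 1
    rw [smul_mul_assoc, mul_smul_comm, smul_smul, hc i hi, smul_smul, ← pow_two, inv_pow,
      inv_mul_cancel₀ (pow_ne_zero _ (hc0 i)), one_smul]
  · show A i * ((c j)⁻¹ • F.lmap (B.b j)) = _ • (((c j)⁻¹ • F.lmap (B.b j)) * A i)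
    rw [hA i hi, smul_mul_assoc, mul_smul_comm, F.lmap_swap (B.a i), B.hab i hi j hj, smul_mul_assoc,
      mul_smul_comm, smul_smul, smul_smul, smul_smul, smul_smul]
    congr 1
    ring
  · rw [hA i hi]
    simpa using hsw P (B.a i) 1 _ (F.sgn_YA hP (B.haA i hi))
  · simpa [Q] using hsw P (B.b i) 1 (c i)⁻¹ (by rw [F.sgn_symm' hX, B.hbP i hi])
  · rw [hA i hi]
    simpa using hsw R (B.a i) 1 _ (F.sgn_YA hR (B.haA i hi))
  · simpa [Q] using hsw R (B.b i) 1 (c i)⁻¹ (by rw [F.sgn_symm' hX, B.hbR i hi])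

theorem m0_split_ok {q : ℕ} (hq : 1 < q) : ∀ i < 4, ∀ x < 2, ∀ e ∈ Check.split0 (q - 1) i x,
    e.1 < 2 ∧ e.2 < q := by
  intro i hi x hx e he
  interval_cases i <;> interval_cases x <;> simp [Check.split0] at he <;> subst he <;>
    exact ⟨by norm_num, by simp only; omega⟩

/-- The split realisation. -/
theorem exists_real_split (M : Check.Model) (E : Check.Hom M.A K) (hX : ∀ x : F.X, 2 • x = 0)
    (h2 : (2 : K) ≠ 0) {D : ℕ} (e : F.X ≃+ (Fin D → ZMod 2)) (hD : 0 < D) (hk : M.k = D)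
    (hm0 : M.m0 = Check.split0 M.A.neg1) (hYA : F.Y ≤ F.A)
    (hfix : ∀ (n : F.N) (u : K), F.lmap n * F.lmap n = u • 1 → F.IsSq n ∨ ∃ c : K, c ≠ 0 ∧ -u = c ^ 2) :
    Nonempty (F.Real M E) := by
  classical
  obtain ⟨B⟩ := F.exists_basis hX h2 e 1 1 F.Y.one_mem F.Y.one_mem (Or.inr ⟨rfl, rfl⟩) hfix
  obtain ⟨A, Q, hmon, hAA, hQQ, hA2, hQ2, hAQ, -, -, hAv⟩ :=
    B.exists_ops hX h2 F.Y.one_mem F.Y.one_mem
  have hAe : ∀ i < D, i ≠ 0 → A i (Q 0 F.v) = Q 0 F.v := fun i hi hne => by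
    rw [← Module.End.mul_apply, hAQ i hi 0 hD, if_neg hne, one_smul, Module.End.mul_apply, hAv i hi]
  have hA0e : A 0 (Q 0 F.v) = -Q 0 F.v := by
    rw [← Module.End.mul_apply, hAQ 0 hD 0 hD, if_pos rfl, LinearMap.smul_apply, Module.End.mul_apply,
      hAv 0 hD, neg_one_smul]
  have hQQ0 : Q 0 (Q 0 F.v) = F.v := by
    rw [← Module.End.mul_apply, hQ2 0 hD, Module.End.one_apply]
  let S : Check.QS M E V :=
    { P := fun i => A (i + 1)
      Q := fun i => Q (i + 1)
      P0 := A 0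
      Q0 := Q 0
      sp := 1
      sq := 1
      sp_ne := one_ne_zero
      sq_ne := one_ne_zero
      kpos := hk ▸ hD
      PP := fun i hi j hj => hAA _ (by omega) _ (by omega)
      QQ := fun i hi j hj => hQQ _ (by omega) _ (by omega)
      P2 := fun i hi => hA2 _ (by omega)
      Q2 := fun i hi => hQ2 _ (by omega)
      PQ := fun i hi j hj => by simpa using hAQ (i + 1) (by omega) (j + 1) (by omega)
      P0c := fun i hi => ⟨hAA 0 hD _ (by omega), by
        have := hAQ 0 hD (i + 1) (by omega)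
        simpa [Commute, SemiconjBy] using this⟩
      Q0c := fun i hi => ⟨by
        have := hAQ (i + 1) (by omega) 0 hD
        have e : A (i + 1) * Q 0 = Q 0 * A (i + 1) := by simpa using this
        exact e.symm, hQQ 0 hD _ (by omega)⟩
      P02 := by rw [hA2 0 hD, one_smul]
      Q02 := by rw [hQ2 0 hD, one_smul]
      PQ0 := by rw [hAQ 0 hD 0 hD, if_pos rfl]
      e0 := F.v
      e1 := Q 0 F.v
      e_fix := fun i hi => ⟨hAv _ (by omega), hAe _ (by omega) (Nat.succ_ne_zero i)⟩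
      e_indep := fun c d h => by
        have h' := congrArg (A 0) h
        rw [map_add, map_smul, map_smul, hAv 0 hD, hA0e, smul_neg, map_zero] at h'
        have hd : (2 : K) • d • Q 0 F.v = 0 := by
          rw [two_smul]
          calc d • Q 0 F.v + d • Q 0 F.v = (c • F.v + d • Q 0 F.v) - (c • F.v + -(d • Q 0 F.v)) := by abel
            _ = 0 := by rw [h, h', sub_zero]
        have hd0 : d • Q 0 F.v = 0 := (smul_eq_zero.mp hd).resolve_left h2
        have hQv : Q 0 F.v ≠ 0 := fun h0 => F.hv (by rw [← hQQ0, h0, map_zero])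
        rw [hd0, add_zero] at h
        exact ⟨(smul_eq_zero.mp h).resolve_right F.hv, (smul_eq_zero.mp hd0).resolve_right hQv⟩
      row0 := fun i hi f => by
        interval_cases i <;>
          simp [hm0, Check.split0, E.one, E.neg, hAv 0 hD, hA0e, hQQ0] <;> abel
      m0_ok := fun i hi x hx e he => by
        rw [hm0] at he
        interval_cases i <;> interval_cases x <;> simp [Check.split0] at he <;> subst he <;>
          first | exact ⟨by norm_num, E.one_lt⟩ | exact ⟨by norm_num, E.neg_lt⟩ }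
  have monA : ∀ i < D, F.Mon (A i) := fun i hi => by
    obtain ⟨⟨z, hz, h⟩, -⟩ := hmon i hi; exact ⟨_, z, hz, h⟩
  have monQ : ∀ i < D, F.Mon (Q i) := fun i hi => by
    obtain ⟨-, ⟨z, hz, h⟩⟩ := hmon i hi; exact ⟨_, z, hz, h⟩
  refine ⟨⟨S, F.mon_op S (fun i hi => ⟨monA _ (by omega), monQ _ (by omega)⟩) (monA 0 hD) (monQ 0 hD),
    fun n => ?_⟩⟩
  have h4 : ∀ j < D, 4 ^ j < 4 ^ M.k ∧ 2 * 4 ^ j < 4 ^ M.k := fun j hj => by
    have : 4 ^ (j + 1) ≤ 4 ^ M.k := Nat.pow_le_pow_right (by norm_num) (by omega)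
    have := Nat.one_le_pow j 4 (by norm_num)
    rw [pow_succ] at *
    omega
  have hNle : F.N ≤ F.repSub S := by
    refine B.gen F hX h2 (F.U_le_repSub S) (fun i hi => ?_) (fun i hi => ?_)
      (fun hA => hYA.trans hA)
    · obtain ⟨⟨z, hz, h⟩, -⟩ := hmon i hi
      refine F.repSub_mem S (h4 i hi).1 hz ?_
      rcases i with _ | i
      · rw [pow_zero, (op_first S).1]; exact h
      · rw [op_upperP S i (by omega)]; exact h
    · obtain ⟨-, ⟨z, hz, h⟩⟩ := hmon i hi
      refine F.repSub_mem S (h4 i hi).2 hz ?_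
      rcases i with _ | i
      · rw [pow_zero, mul_one, (op_first S).2]; exact h
      · rw [op_upperQ S i (by omega)]; exact h
  obtain ⟨h, t, ht, z, hz, he⟩ := hNle n.2
  exact ⟨t, ht, z, hz, he⟩

/-- The nonsplit realisation. -/
theorem exists_real_quat [Finite K] (M : Check.Model) (E : Check.Hom M.A K)
    (hX : ∀ x : F.X, 2 • x = 0) (hK : Nat.card K = 3) {D : ℕ} (e : F.X ≃+ (Fin D → ZMod 2))
    (hk : M.k = D + 1) (hm0 : M.m0 = Check.quat0) (hq : M.A.q = 3) (hpA : F.p ∉ F.A)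
    (hemb : E.emb 2 = -1)
    (hfix : ∀ (n : F.N) (u : K), F.lmap n * F.lmap n = u • 1 → F.IsSq n ∨ ∃ c : K, c ≠ 0 ∧ -u = c ^ 2) :
    Nonempty (F.Real M E) := by
  classical
  have h3 : (3 : K) = 0 := by
    have := Fintype.ofFinite K
    have h := Nat.cast_card_eq_zero K
    rw [← Nat.card_eq_fintype_card, hK] at h
    exact_mod_cast h
  have h2 : (2 : K) ≠ 0 := fun h => one_ne_zero (α := K) (by linear_combination h3 - h)
  have hall : ∀ x : K, x = 0 ∨ x = 1 ∨ x = -1 := by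
    intro x
    by_cases hx : x = 0
    · exact Or.inl hx
    haveI := Fintype.ofFinite K
    have h := FiniteField.pow_card_sub_one_eq_one x hx
    rw [← Nat.card_eq_fintype_card, hK] at h
    exact Or.inr (sq_eq_one_iff.mp h)
  rcases F.shape with ⟨hp1, -⟩ | ⟨p2, hp2N, hp2c, -, hp2A, -, hanti, hsqp, hsqp2, hYle, hpv, hns⟩
  · exact absurd (hp1 ▸ F.A.one_mem) hpA
  set P : F.N := ⟨F.p, F.hp⟩ with hPdef
  set R : F.N := ⟨p2, hp2N⟩ with hRdef
  have hRY : (R : H) ∈ F.Y := F.mem_Y.mpr ⟨hp2N, hp2c⟩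
  have hanti' : F.lmap R * F.lmap P = (-1 : K) • (F.lmap P * F.lmap R) :=
    LinearMap.ext fun w => hanti w
  have hPR : F.sgn P R = -1 := by
    rw [F.sgn_symm' hX R P]
    have h := F.lmap_swap R P
    rw [hanti'] at h
    have h1 := congrArg (fun f : Module.End K V => f F.v) h
    simp only [LinearMap.smul_apply] at h1
    rw [← sub_eq_zero, ← sub_smul, smul_eq_zero] at h1
    refine (sub_eq_zero.mp (h1.resolve_right fun h0 => ?_)).symm
    simp only [Module.End.mul_apply, lmap_apply, smul_eq_zero_iff_eq] at h0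
    exact F.hv h0
  obtain ⟨B⟩ := F.exists_basis hX h2 e P R F.hpY hRY (Or.inl hPR) hfix
  obtain ⟨A, Q, hmon, hAA, hQQ, hA2, hQ2, hAQ, hPc, hRc, hAv⟩ := B.exists_ops hX h2 F.hpY hRY
  have hsq : ∀ y : F.N, (∀ a ∈ F.A, a * (y : H) = y * a) → (y : H) ∉ F.A →
      F.lmap y * F.lmap y = (-1 : K) • 1 := by
    intro y hya hyA
    obtain ⟨u, hu0, hu⟩ := F.lmap_sq hX y
    rcases hall u with h | h | h
    · exact absurd h hu0
    · exfalso
      refine hns y y.2 hya hyA 1 ?_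
      have h1 := congrArg (fun f : Module.End K V => f F.v) hu
      simp only [Module.End.mul_apply, lmap_apply, LinearMap.smul_apply, Module.End.one_apply, h] at h1
      rw [pow_two, mul_smul, h1, one_pow]
    · rw [hu, h]
  have hP2 := hsq P F.hpA hpA
  have hR2 := hsq R hp2c hp2A
  obtain ⟨α, β, hRv⟩ : ∃ α β : K, α • F.v + β • F.p • F.v = F.lmap R F.v :=
    Submodule.mem_span_pair.mp (F.span_Y hRY)
  have hpp : ∀ x : V, F.p • F.p • x = (-1 : K) • x := fun x => by
    have := congrArg (fun f : Module.End K V => f x) hP2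
    exact this
  have hind : ∀ c d : K, c • F.v + d • F.p • F.v = 0 → c = 0 ∧ d = 0 := by
    intro c d h
    by_cases hd : d = 0
    · rw [hd, zero_smul, add_zero] at h
      exact ⟨(smul_eq_zero.mp h).resolve_right F.hv, hd⟩
    · exfalso
      refine hpv (-(d⁻¹ * c)) ?_
      rw [neg_smul, ← smul_smul, eq_neg_of_add_eq_zero_left h, smul_neg, neg_neg, smul_smul,
        inv_mul_cancel₀ hd, one_smul]
  have hRpv : F.lmap R (F.p • F.v) = β • F.v - α • F.p • F.v := by
    have h := congrArg (fun f : Module.End K V => f F.v) hanti'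
    simp only [Module.End.mul_apply, LinearMap.smul_apply, ← hRv] at h
    rw [show F.lmap P F.v = F.p • F.v from rfl] at h
    rw [h, map_add, map_smul, map_smul, show F.lmap P F.v = F.p • F.v from rfl,
      show F.lmap P (F.p • F.v) = F.p • F.p • F.v from rfl, hpp, smul_add, smul_smul, smul_smul,
      smul_smul, sub_eq_add_neg, ← neg_smul, add_comm (β • F.v)]
    congr 1 <;> (congr 1; ring)
  have hab : α ≠ 0 ∧ β ≠ 0 := by
    have h := congrArg (fun f : Module.End K V => f F.v) hR2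
    simp only [Module.End.mul_apply, LinearMap.smul_apply, Module.End.one_apply, ← hRv] at h
    rw [map_add, map_smul, map_smul, hRpv, ← hRv, smul_add, smul_sub, smul_smul, smul_smul, smul_smul,
      smul_smul] at h
    have h' : (α * α + β * β + 1) • F.v + (α * β - β * α) • F.p • F.v = 0 := by
      rw [add_smul, add_smul, sub_smul, one_smul]
      calc _ = (α * α) • F.v + (α * β) • F.p • F.v + ((β * β) • F.v - (β * α) • F.p • F.v) + F.v := by abel
        _ = 0 := by rw [h, neg_one_smul]; abel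
    have h1 := (hind _ _ h').1
    constructor <;> intro h0 <;>
      [rcases hall β with hh | hh | hh; rcases hall α with hh | hh | hh] <;>
      rw [h0, hh] at h1 <;> first | exact one_ne_zero (by linear_combination h1) |
        exact h2 (by linear_combination h1)
  have hα2 : α * α = 1 := by
    rcases hall α with h | h | h
    · exact absurd h hab.1
    · rw [h, one_mul]
    · rw [h]; ring
  have hβ2 : β * β = 1 := by
    rcases hall β with h | h | h
    · exact absurd h hab.2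
    · rw [h, one_mul]
    · rw [h]; ring
  set P0 : Module.End K V := (α * β) • F.lmap P with hP0def
  set Q0 : Module.End K V := α • F.lmap R with hQ0def
  set e1 : V := (α * β) • F.p • F.v with he1
  have hP0v : P0 F.v = e1 := rfl
  have hP0e : P0 e1 = -F.v := by
    show (α * β) • F.lmap P ((α * β) • F.p • F.v) = _
    rw [map_smul, show F.lmap P (F.p • F.v) = F.p • F.p • F.v from rfl, hpp, smul_smul, smul_smul]
    rw [show α * β * (α * β) * -1 = -((α * α) * (β * β)) by ring, hα2, hβ2, one_mul, neg_one_smul]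
  have hQ0v : Q0 F.v = F.v + e1 := by
    show α • F.lmap R F.v = _
    rw [← hRv, smul_add, smul_smul, smul_smul, hα2, one_smul]
  have hQ0e : Q0 e1 = F.v - e1 := by
    show α • F.lmap R ((α * β) • F.p • F.v) = _
    rw [map_smul, hRpv, smul_sub, smul_sub, he1, smul_smul, smul_smul, smul_smul, smul_smul]
    congr 1
    · conv_rhs => rw [← one_smul K F.v]
      congr 1
      linear_combination (β * β) * hα2 + hβ2
    · congr 1
      linear_combination (α * β) * hα2
  let S : Check.QS M E V :=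
    { P := fun i => A i
      Q := fun i => Q i
      P0 := P0
      Q0 := Q0
      sp := -1
      sq := -1
      sp_ne := neg_ne_zero.mpr one_ne_zero
      sq_ne := neg_ne_zero.mpr one_ne_zero
      kpos := by omega
      PP := fun i hi j hj => hAA i (by omega) j (by omega)
      QQ := fun i hi j hj => hQQ i (by omega) j (by omega)
      P2 := fun i hi => hA2 i (by omega)
      Q2 := fun i hi => hQ2 i (by omega)
      PQ := fun i hi j hj => hAQ i (by omega) j (by omega)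
      P0c := fun i hi => ⟨(hPc i (by omega)).1.smul_left _, (hPc i (by omega)).2.smul_left _⟩
      Q0c := fun i hi => ⟨(hRc i (by omega)).1.smul_left _, (hRc i (by omega)).2.smul_left _⟩
      P02 := by
        rw [hP0def, smul_mul_assoc, mul_smul_comm, smul_smul, hP2, smul_smul]
        congr 1
        linear_combination -(β * β) * hα2 - hβ2
      Q02 := by
        rw [hQ0def, smul_mul_assoc, mul_smul_comm, smul_smul, hR2, smul_smul]
        congr 1
        linear_combination -hα2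
      PQ0 := by
        rw [hP0def, hQ0def, smul_mul_assoc, mul_smul_comm, smul_mul_assoc, mul_smul_comm, hanti',
          smul_smul, smul_smul, smul_smul, smul_smul]
        congr 1
        ring
      e0 := F.v
      e1 := e1
      e_fix := fun i hi => ⟨hAv i (by omega), by
        show A i ((α * β) • F.lmap P F.v) = (α * β) • F.lmap P F.v
        rw [map_smul, ← Module.End.mul_apply, ← (hPc i (by omega)).1.eq, Module.End.mul_apply,
          hAv i (by omega)]⟩
      e_indep := fun c d h => by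
        rw [he1, smul_smul] at h
        obtain ⟨h1, h2'⟩ := hind _ _ h
        exact ⟨h1, (mul_eq_zero.mp h2').resolve_right (mul_ne_zero hab.1 hab.2)⟩
      row0 := fun i hi f => by
        interval_cases i
        · simp [hm0, Check.quat0, E.one]
        · simp [hm0, Check.quat0, E.one, hemb, hP0v, hP0e]
          abel
        · simp [hm0, Check.quat0, E.one, hemb, hQ0v, hQ0e, add_smul]
          rw [smul_sub]; abel
        · simp [hm0, Check.quat0, E.one, hemb, hQ0v, hQ0e, hP0v, hP0e, add_smul, map_sub]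
          abel
      m0_ok := fun i hi x hx e he => by
        rw [hm0] at he
        rw [hq]
        interval_cases i <;> interval_cases x <;>
          simp [Check.quat0] at he <;> rcases he with rfl | rfl <;> exact ⟨by norm_num, by norm_num⟩ }
  have monA : ∀ i < D, F.Mon (A i) := fun i hi => by
    obtain ⟨⟨z, hz, h⟩, -⟩ := hmon i hi; exact ⟨_, z, hz, h⟩
  have monQ : ∀ i < D, F.Mon (Q i) := fun i hi => by
    obtain ⟨-, ⟨z, hz, h⟩⟩ := hmon i hi; exact ⟨_, z, hz, h⟩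
  refine ⟨⟨S, F.mon_op S (fun i hi => ⟨monA _ (by omega), monQ _ (by omega)⟩)
    ⟨P, α * β, mul_ne_zero hab.1 hab.2, rfl⟩ ⟨R, α, hab.1, rfl⟩, fun n => ?_⟩⟩
  have h4 : ∀ j < D + 1, 4 ^ j < 4 ^ M.k ∧ 2 * 4 ^ j < 4 ^ M.k := fun j hj => by
    have : 4 ^ (j + 1) ≤ 4 ^ M.k := Nat.pow_le_pow_right (by norm_num) (by omega)
    have := Nat.one_le_pow j 4 (by norm_num)
    rw [pow_succ] at *
    omega
  have hNle : F.N ≤ F.repSub S := by
    refine B.gen F hX h2 (F.U_le_repSub S) (fun i hi => ?_) (fun i hi => ?_)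
      (fun hA y hy => (sup_le hA ?_ : F.A ⊔ Subgroup.closure {F.p, p2} ≤ F.repSub S)
        (hYle y (F.mem_Y.mp hy).1 (F.mem_Y.mp hy).2))
    · obtain ⟨⟨z, hz, h⟩, -⟩ := hmon i hi
      refine F.repSub_mem S (h4 (i + 1) (by omega)).1 hz ?_
      rw [op_upperP S i (by omega)]; exact h
    · obtain ⟨-, ⟨z, hz, h⟩⟩ := hmon i hi
      refine F.repSub_mem S (h4 (i + 1) (by omega)).2 hz ?_
      rw [op_upperQ S i (by omega)]; exact h
    rw [Subgroup.closure_le]
    rintro q (rfl | rfl)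
    · exact F.repSub_mem S (n := P) (h4 0 (by omega)).1 (mul_ne_zero hab.1 hab.2) (by
        rw [pow_zero, (op_first S).1])
    · exact F.repSub_mem S (n := R) (h4 0 (by omega)).2 hab.1 (by
        rw [pow_zero, mul_one, (op_first S).2])
  obtain ⟨h, t, ht, z, hz, he⟩ := hNle n.2
  exact ⟨t, ht, z, hz, he⟩

end FD

end Cfsg.Agent.BT62
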