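import Mathlib
import Cfsg.Agent.BT62.Real
import Cfsg.Agent.BT62.Certs

/-!
# Regular pairs from certificates
-/

set_option autoImplicit false

namespace Cfsg.Agent.BT62

namespace Check

/-- A certificate is well formed. -/
def goodCert (M : Model) (C : Cert) : Bool :=
  ((List.range (dim M)).all fun x => decide (digit C.X x < M.A.q) && decide (digit C.Y x < M.A.q)) &&
  (C.steps.all fun st => decide (st.1 < 4 ^ M.k)) &&
  ((List.range (dim M)).any fun x => digit C.X x != 0)

theorem xor_lt4 {k a b : ℕ} (ha : a < 4 ^ k) (hb : b < 4 ^ k) : a ^^^ b < 4 ^ k := by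
  rw [show (4 : ℕ) = 2 ^ 2 from rfl, ← pow_mul] at ha hb ⊢
  exact Nat.xor_lt_two_pow ha hb

theorem iter_eq (T : ℕ → ℕ) : ∀ n s, iter T n s = T^[n] s
  | 0, _ => rfl
  | n + 1, s => (iter_eq T n (T s)).trans (Function.iterate_succ_apply T n s).symm

theorem per3_spec {N : ℕ} {T : ℕ → ℕ} (h : per3 N T = true) :
    ∃ s < N, ∀ m, T^[m] s = s → 3 ∣ m := by
  simp only [per3, List.any_eq_true, List.mem_range, Bool.and_eq_true, List.all_eq_true, bne_iff_ne,
    beq_iff_eq, Bool.or_eq_true, iter_eq] at h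
  obtain ⟨s, hs, ⟨⟨hn0, hn3⟩, hret⟩, hmin⟩ := h
  set n := ret T s N 1 s
  refine ⟨s, hs, fun m hm => ?_⟩
  have hmul : ∀ q, T^[n * q] s = s := fun q => by
    induction q with
    | zero => rfl
    | succ q ih => rw [Nat.mul_succ, Function.iterate_add_apply, hret, ih]
  have hr : T^[m % n] s = s := by
    conv_rhs => rw [← hm, ← Nat.mod_add_div m n, Function.iterate_add_apply, hmul]
  rcases hmin _ (Nat.mod_lt m (Nat.pos_of_ne_zero hn0)) with h0 | h0
  · exact (Nat.dvd_of_mod_eq_zero hn3).trans (Nat.dvd_of_mod_eq_zero h0)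
  · exact absurd hr h0

end Check

variable {H V K : Type} [Group H] [Finite H] [AddCommGroup V] [DistribMulAction H V] [Field K]
  [Module K V] (F : FD H V K)

namespace FD

theorem exists_sigma (F : FD H V K) (g : H) : ∃ σ : K →+* K, ∀ (k : K) (w : V), g • k • w = σ k • g • w := by
  choose σ hσ using F.hsemi g
  have huniq : ∀ a b : K, a • g • F.v = b • g • F.v → a = b := fun a b h => by
    rw [← sub_eq_zero, ← sub_smul, smul_eq_zero] at h
    exact sub_eq_zero.mp (h.resolve_right fun h0 => F.hv ((smul_eq_zero_iff_eq g).mp h0))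
  refine ⟨{ toFun := σ
            map_one' := huniq _ _ (by rw [← hσ, one_smul, one_smul])
            map_mul' := fun a b => huniq _ _ (by rw [← hσ, ← smul_smul, hσ, hσ, smul_smul])
            map_zero' := huniq _ _ (by rw [← hσ, zero_smul, zero_smul, smul_zero])
            map_add' := fun a b => huniq _ _ (by rw [← hσ, add_smul, smul_add, hσ, hσ, add_smul]) },
    hσ⟩

variable {F} {M : Check.Model} {E : Check.Hom M.A K} (R : F.Real M E)

theorem Real.conj (g : H) : ∀ s < 4 ^ M.k, ∃ c t, c < M.A.q ∧ c ≠ 0 ∧ t < 4 ^ M.k ∧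
    ∀ w : V, DistribSMul.toAddMonoidHom V g (R.S.op s w) =
      E.emb c • R.S.op t (DistribSMul.toAddMonoidHom V g w) := by
  intro s _
  obtain ⟨n, z, hz, hn⟩ := R.mon s
  obtain ⟨σ, hσ⟩ := F.exists_sigma g
  obtain ⟨t, ht, u, hu, hm⟩ := R.rep ⟨g * n * g⁻¹, F.hN.normal.conj_mem n n.2 g⟩
  obtain ⟨c, hc, hcz⟩ := E.surj (σ z * u)
  have hne : σ z * u ≠ 0 := mul_ne_zero ((map_ne_zero σ).mpr hz) hu
  refine ⟨c, t, hc, fun h0 => hne (by rw [← hcz, h0, E.zero]), ht, fun w => ?_⟩
  show g • R.S.op s w = E.emb c • R.S.op t (g • w)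
  rw [hn, LinearMap.smul_apply, hσ, hcz, lmap_apply, mul_smul (σ z) u, ← LinearMap.smul_apply u,
    ← hm, lmap_apply, ← mul_smul, ← mul_smul]
  congr 2
  show g * n = g * n * g⁻¹ * g
  group

theorem Real.check (h2 : (2 : K) ≠ 0) (C : Check.Cert) (hgood : Check.goodCert M C = true)
    (hrels : Check.relsOK M C = true) {g : H} {f : Bool} {σ : K →+* K}
    (hσ : ∀ (k : K) (w : V), g • k • w = σ k • g • w)
    (hσf : ∀ a < M.A.q, σ (E.emb a) = E.emb (if f then M.A.frob a else a))
    (hX : g • Check.vec E R.S.bas C.X = Check.vec E R.S.bas C.X)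
    (hY : g • Check.vec E R.S.bas C.Y = Check.vec E R.S.bas C.Y)
    (leaf : Bool → List (ℕ × ℕ) → Bool)
    (hexp : Check.explore M C.X C.Y f leaf (Check.withCands M C f) [] [] = true) :
    ∃ ims, leaf f ims = true ∧ List.Forall₂ (Check.Img E R.S.op (DistribSMul.toAddMonoidHom V g))
      (C.steps.map Prod.fst) ims := by
  simp only [Check.goodCert, Bool.and_eq_true, List.all_eq_true, decide_eq_true_eq,
    List.mem_range] at hgood
  exact Check.check_spec (R.S.ok h2)
    { validX := fun x hx => (hgood.1.1 x hx).1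
      validY := fun x hx => (hgood.1.1 x hx).2
      steps := hgood.1.2
      two := h2
      inj := fun a b h => smul_left_cancel g (h : g • a = g • b)
      semi := hσ
      sigma := hσf
      fixX := hX
      fixY := hY
      conj := R.conj g } hrels leaf hexp

theorem Real.triv [FaithfulSMul H V] (h2 : (2 : K) ≠ 0) (C : Check.Cert)
    (hgood : Check.goodCert M C = true) {G : List ℕ} (hgens : Check.checkGens M.k G = true) {g : H}
    {σ : K →+* K} (hσ : ∀ (k : K) (w : V), g • k • w = σ k • g • w) (hσid : ∀ x, σ x = x)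
    (hX : g • Check.vec E R.S.bas C.X = Check.vec E R.S.bas C.X)
    (h : List.Forall₂ (Check.Img E R.S.op (DistribSMul.toAddMonoidHom V g)) G (Check.trivIms G)) :
    g = 1 := by
  simp only [Check.checkGens, Bool.and_eq_true, List.all_eq_true, List.mem_range, beq_iff_eq,
    decide_eq_true_eq] at hgens
  have hlin : ∀ (k : K) (w : V), g • k • w = k • g • w := fun k w => by rw [hσ, hσid]
  let P : ℕ → Prop := fun s => ∀ w : V, g • R.S.op s w = R.S.op s (g • w)
  have hP0 : P 0 := fun w => by rw [R.S.op_zero]; rfl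
  have hPx : ∀ s t, P s → P t → P (s ^^^ t) := fun s t hs ht w => by
    obtain ⟨z, hz, hm⟩ := R.S.op_mul s t
    have h1 : ∀ y, R.S.op (s ^^^ t) y = z⁻¹ • R.S.op s (R.S.op t y) := fun y => by
      rw [← Module.End.mul_apply, hm, LinearMap.smul_apply, smul_smul, inv_mul_cancel₀ hz, one_smul]
    rw [h1, h1, hlin, hs, ht]
  have hPG : ∀ p ∈ G.zip (Check.trivIms G), P p.2.2 := by
    rintro ⟨s, e⟩ hp
    obtain ⟨-, -, -, hw⟩ := (List.forall₂_iff_zip.mp h).2 hp
    intro w
    have he : e = (1, s) := by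
      clear hgens h
      induction G with
      | nil => simp [Check.trivIms] at hp
      | cons a l ih =>
        simp only [Check.trivIms, List.map_cons, List.zip_cons_cons, List.mem_cons,
          Prod.mk.injEq] at hp
        rcases hp with ⟨rfl, rfl⟩ | hp
        · rfl
        · exact ih hp
    subst he
    have := hw w
    rwa [E.one, one_smul] at this
  have hall : ∀ s < 4 ^ M.k, P s := fun s hs => by
    rw [← hgens.1 s hs, Check.timg]
    clear hgens
    generalize G.zip (Check.trivIms G) = l at hPG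
    induction l with
    | nil => rw [List.foldr_nil]; exact hP0
    | cons p r ih =>
      rw [List.foldr_cons]
      have ih' := ih fun q hq => hPG q (List.mem_cons_of_mem _ hq)
      split
      · exact ih'
      · exact hPx _ _ (hPG p List.mem_cons_self) ih'
  have hgU : g ∈ Subgroup.centralizer (F.U : Set H) := Subgroup.mem_centralizer_iff.mpr fun u hu => by
    refine eq_of_smul_eq_smul (α := V) fun w => ?_
    rw [mul_smul, mul_smul, F.hιv ⟨u, hu⟩, F.hιv ⟨u, hu⟩, hlin]
  have hgN : ∀ y ∈ F.N, g * y = y * g := fun y hy => by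
    obtain ⟨t, ht, z, hz, hn⟩ := R.rep ⟨y, hy⟩
    refine eq_of_smul_eq_smul (α := V) fun w => ?_
    have e1 : ∀ x : V, y • x = z • R.S.op t x := fun x =>
      congrArg (fun f : Module.End K V => f x) hn
    rw [mul_smul, mul_smul, e1, e1, hlin, hall t ht]
  have hgU' : g ∈ F.U := F.hN.centre g hgU hgN
  rw [F.hιv ⟨g, hgU'⟩] at hX
  simp only [Check.goodCert, Bool.and_eq_true, List.any_eq_true, List.mem_range, bne_iff_ne,
    List.all_eq_true, decide_eq_true_eq] at hgood
  obtain ⟨x, hx, hxne⟩ := hgood.2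
  have hv0 : Check.vec E R.S.bas C.X ≠ 0 := fun h0 =>
    hxne (E.inj _ (hgood.1.1 x hx).1 (R.S.indep h2 (fun i => E.emb (Check.digit C.X i)) h0 x hx))
  rw [← sub_eq_zero, ← one_smul K (Check.vec E R.S.bas C.X), smul_smul, ← sub_smul,
    smul_eq_zero, mul_one] at hX
  exact congrArg Subtype.val
    (F.hι ((Units.ext (sub_eq_zero.mp (hX.resolve_right hv0)) : F.ι ⟨g, hgU'⟩ = 1).trans (map_one F.ι).symm))

/-- A certificate with only trivial leaves gives a regular pair. -/
theorem Real.pair_of_triv (R : F.Real M E) [FaithfulSMul H V] (h2 : (2 : K) ≠ 0) (C : Check.Cert) (fs : List Bool)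
    (hgood : Check.goodCert M C = true) (hgens : Check.checkGens M.k (C.steps.map Prod.fst) = true)
    (hchk : Check.checkTriv M C fs = true)
    (hσ : ∀ σ : K →+* K, ∃ f ∈ fs, ∀ a < M.A.q, σ (E.emb a) = E.emb (if f then M.A.frob a else a)) :
    ∃ x y : V, ∀ g : H, g • x = x → g • y = y → g = 1 := by
  simp only [Check.checkTriv, Bool.and_eq_true, List.all_eq_true] at hchk
  refine ⟨Check.vec E R.S.bas C.X, Check.vec E R.S.bas C.Y, fun g hX hY => ?_⟩
  obtain ⟨σ, hs⟩ := F.exists_sigma g
  obtain ⟨f, hf, hσf⟩ := hσ σ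
  obtain ⟨ims, hleaf, hims⟩ := R.check h2 C hgood hchk.1 hs hσf hX hY (Check.trivialLeaf C)
    (hchk.2 f hf)
  simp only [Check.trivialLeaf, Bool.and_eq_true, Bool.not_eq_true', beq_iff_eq] at hleaf
  obtain ⟨rfl, rfl⟩ := hleaf
  have hid : ∀ x, σ x = x := fun x => by
    obtain ⟨a, ha, rfl⟩ := E.surj x
    simpa using hσf a ha
  exact R.triv h2 C hgood hgens hs hid hX (by rwa [Check.trivIms, List.map_map])

/-- An element permuting the words up to scalars. -/
def Real.Perm (g : H) (T : ℕ → ℕ) : Prop :=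
  ∀ s < 4 ^ M.k, T s < 4 ^ M.k ∧ ∃ z : K, z ≠ 0 ∧ ∀ w : V, g • R.S.op s w = z • R.S.op (T s) (g • w)

theorem Real.perm_mul {g g' : H} {T T' : ℕ → ℕ} (h : R.Perm g T) (h' : R.Perm g' T') :
    R.Perm (g * g') fun s => T (T' s) := by
  intro s hs
  obtain ⟨h1, z', hz', e'⟩ := h' s hs
  obtain ⟨h2, z, hz, e⟩ := h _ h1
  obtain ⟨σ, hσ⟩ := F.exists_sigma g
  refine ⟨h2, σ z' * z, mul_ne_zero ((map_ne_zero σ).mpr hz') hz, fun w => ?_⟩
  rw [mul_smul g g', e', hσ, e, smul_smul, mul_smul g g']

theorem Real.perm_pow (R : F.Real M E) {g : H} {T : ℕ → ℕ} (h : R.Perm g T) : ∀ m, R.Perm (g ^ m) T^[m]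
  | 0 => fun s hs => ⟨hs, 1, one_ne_zero, fun w => by rw [pow_zero, one_smul, one_smul, one_smul]; rfl⟩
  | m + 1 => by
    rw [pow_succ, Function.iterate_succ]
    exact R.perm_mul (T := T^[m]) (T' := T) (Real.perm_pow R h m) h

theorem Real.perm_of_img {g : H} {σ : K →+* K} (hσ : ∀ (k : K) (w : V), g • k • w = σ k • g • w)
    {G : List ℕ} {ims : List (ℕ × ℕ)}
    (h : List.Forall₂ (Check.Img E R.S.op (DistribSMul.toAddMonoidHom V g)) G ims)
    (hne : ∀ e ∈ ims, E.emb e.1 ≠ 0) (htriv : ∀ s < 4 ^ M.k, Check.timg G (Check.trivIms G) s = s) :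
    R.Perm g (Check.timg G ims) := by
  intro s hs
  have key : ∀ (G : List ℕ) (ims : List (ℕ × ℕ)),
      List.Forall₂ (Check.Img E R.S.op (DistribSMul.toAddMonoidHom V g)) G ims →
      (∀ e ∈ ims, E.emb e.1 ≠ 0) →
      Check.timg G ims s < 4 ^ M.k ∧ Check.timg G (Check.trivIms G) s < 4 ^ M.k ∧ ∃ z : K, z ≠ 0 ∧
        ∀ w : V, g • R.S.op (Check.timg G (Check.trivIms G) s) w =
          z • R.S.op (Check.timg G ims s) (g • w) := by
    intro G ims h
    induction h with
    | nil =>
      intro _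
      refine ⟨by simp [Check.timg], by simp [Check.timg], 1, one_ne_zero, fun w => ?_⟩
      simp [Check.timg, R.S.op_zero]
    | @cons a e G ims hae _ ih =>
      intro hne
      obtain ⟨hc, he2, ha, hw⟩ := hae
      obtain ⟨i1, i2, z, hz, ih'⟩ := ih fun q hq => hne q (List.mem_cons_of_mem _ hq)
      simp only [Check.timg, Check.trivIms, List.map_cons, List.zip_cons_cons, List.foldr_cons] at *
      split
      · exact ⟨i1, i2, z, hz, ih'⟩
      · refine ⟨Check.xor_lt4 he2 i1, Check.xor_lt4 ha i2, ?_⟩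
        set u := (List.foldr _ 0 (G.zip (List.map (fun s => (1, s)) G)))
        set v := (List.foldr _ 0 (G.zip ims))
        obtain ⟨z1, hz1, h1⟩ := R.S.op_mul a u
        obtain ⟨z2, hz2, h2⟩ := R.S.op_mul e.2 v
        have e1 : ∀ y, R.S.op (a ^^^ u) y = z1⁻¹ • R.S.op a (R.S.op u y) := fun y => by
          rw [← Module.End.mul_apply, h1, LinearMap.smul_apply, smul_smul, inv_mul_cancel₀ hz1, one_smul]
        refine ⟨σ z1⁻¹ * (E.emb e.1 * z * z2), mul_ne_zero ((map_ne_zero σ).mpr (inv_ne_zero hz1))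
          (mul_ne_zero (mul_ne_zero (hne e List.mem_cons_self) hz) hz2), fun w => ?_⟩
        rw [e1, hσ, show g • R.S.op a (R.S.op u w) = E.emb e.1 • R.S.op e.2 (g • R.S.op u w) from hw _,
          ih', map_smul, ← Module.End.mul_apply, h2, LinearMap.smul_apply, smul_smul, smul_smul,
          smul_smul]
        ring_nf
  obtain ⟨h1, -, z, hz, h2⟩ := key G ims h hne
  rw [htriv s hs] at h2
  exact ⟨h1, z, hz, h2⟩

theorem Real.per3_dvd (hsep : Check.checkSep M = true) {g : H} {T : ℕ → ℕ} (h : R.Perm g T)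
    (h2 : (2 : K) ≠ 0) (hper : Check.per3 (4 ^ M.k) T = true) : 3 ∣ orderOf g := by
  obtain ⟨s, hs, hmin⟩ := Check.per3_spec hper
  refine hmin _ ?_
  obtain ⟨ht, z, hz, he⟩ := R.perm_pow h (orderOf g) s hs
  rw [pow_orderOf_eq_one] at he
  set t := T^[orderOf g] s
  by_contra hne
  obtain ⟨z1, hz1, h1⟩ := R.S.op_mul t s
  obtain ⟨z0, hz0, h0⟩ := R.S.op_sq t
  have hscal : ∀ w : V, R.S.op (t ^^^ s) w = (z1⁻¹ * (z * z0)) • w := fun w => by
    have e1 : R.S.op t (R.S.op s w) = (z * z0) • w := by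
      have := he w
      rw [one_smul, one_smul] at this
      rw [this, map_smul, ← Module.End.mul_apply, h0, LinearMap.smul_apply, Module.End.one_apply,
        smul_smul]
    rw [mul_smul (z1⁻¹), ← e1, ← Module.End.mul_apply, h1, LinearMap.smul_apply, smul_smul,
      inv_mul_cancel₀ hz1, one_smul]
  have hr : t ^^^ s < 4 ^ M.k := by
    rw [show (4 : ℕ) = 2 ^ 2 from rfl, ← pow_mul] at hs ht ⊢
    exact Nat.xor_lt_two_pow ht hs
  simp only [Check.checkSep, List.all_eq_true, List.mem_range, Bool.or_eq_true, beq_iff_eq,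
    List.any_eq_true] at hsep
  rcases hsep _ hr with h0' | ⟨u, -, hu⟩
  · exact hne (Nat.xor_eq_zero_iff.mp h0')
  · have ha := congrArg (fun f : Module.End K V => f F.v) (R.S.op_anti (t ^^^ s) u)
    simp only [Module.End.mul_apply, LinearMap.smul_apply, hscal, if_pos hu, map_smul] at ha
    set c := z1⁻¹ * (z * z0)
    have hc : c ≠ 0 := mul_ne_zero (inv_ne_zero hz1) (mul_ne_zero hz hz0)
    have : (2 : K) • c • R.S.op u F.v = 0 := by
      rw [two_smul]
      nth_rewrite 2 [ha]
      rw [neg_one_smul, add_neg_cancel]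
    have h3 := (smul_eq_zero.mp ((smul_eq_zero.mp this).resolve_left h2)).resolve_left hc
    obtain ⟨z3, hz3, h4⟩ := R.S.op_sq u
    have h5 := congrArg (fun f : Module.End K V => f F.v) h4
    simp only [Module.End.mul_apply, h3, map_zero, LinearMap.smul_apply, Module.End.one_apply] at h5
    exact F.hv ((smul_eq_zero.mp h5.symm).resolve_left hz3)

/-- Certificates whose nontrivial images compose to elements of order divisible by three. -/
theorem Real.pair_of_choice (R : F.Real M E) [FaithfulSMul H V] (h2 : (2 : K) ≠ 0) (h3 : ¬(3 ∣ Nat.card H))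
    (hσid : ∀ (σ : K →+* K) x, σ x = x) (hsep : Check.checkSep M = true) {G : List ℕ}
    (hgens : Check.checkGens M.k G = true) (CL : List (Check.Cert × List (List (ℕ × ℕ))))
    (hCL : ∀ p ∈ CL, Check.goodCert M p.1 = true ∧ p.1.steps.map Prod.fst = G ∧
      Check.checkList M p.1 p.2 = true ∧ ∀ ims ∈ p.2, ∀ e ∈ ims, e.1 ≠ 0 ∧ e.1 < M.A.q)
    (hch : Check.checkChoice M.k G (CL.map Prod.snd) [] = true) :
    ∃ x y : V, ∀ g : H, g • x = x → g • y = y → g = 1 := by
  by_contra hno
  have key : ∀ (rest : List (Check.Cert × List (List (ℕ × ℕ)))) (acc : List (List (ℕ × ℕ))),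
      (∀ p ∈ rest, p ∈ CL) → (∀ e ∈ acc, ∃ g : H, R.Perm g (Check.timg G e)) →
      Check.checkChoice M.k G (rest.map Prod.snd) acc = true → False := by
    intro rest
    induction rest with
    | nil =>
      intro acc _ hacc h
      simp only [List.map_nil, Check.checkChoice, Bool.or_eq_true, List.any_eq_true] at h
      rcases h with ⟨e, he, hp⟩ | ⟨e, he, e', he', hp⟩
      · obtain ⟨g, hg⟩ := hacc e he
        exact h3 ((R.per3_dvd hsep hg h2 hp).trans (orderOf_dvd_natCard g))
      · obtain ⟨g, hg⟩ := hacc e he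
        obtain ⟨g', hg'⟩ := hacc e' he'
        exact h3 ((R.per3_dvd hsep (R.perm_mul hg hg') h2 hp).trans (orderOf_dvd_natCard _))
    | cons p r ih =>
      intro acc hrest hacc h
      obtain ⟨C, L⟩ := p
      obtain ⟨hgood, hG, hlist, hnz⟩ := hCL _ (hrest _ List.mem_cons_self)
      simp only [Check.checkList, Bool.and_eq_true] at hlist
      simp only [not_exists] at hno
      obtain ⟨g, hX, hY, hg1⟩ : ∃ g : H, g • Check.vec E R.S.bas C.X = Check.vec E R.S.bas C.X ∧
          g • Check.vec E R.S.bas C.Y = Check.vec E R.S.bas C.Y ∧ g ≠ 1 := by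
        by_contra hc
        push Not at hc
        exact hno _ _ fun g hx hy => hc g hx hy
      obtain ⟨σ, hs⟩ := F.exists_sigma g
      obtain ⟨ims, hleaf, hims⟩ := R.check h2 C hgood hlist.1 (f := false) hs
        (fun a _ => by rw [hσid]; simp) hX hY _ hlist.2
      simp only [Check.listLeaf, Bool.not_false, Bool.true_and, List.contains_iff_mem] at hleaf
      rw [hG] at hims
      rw [List.map_cons, Check.checkChoice, List.all_eq_true] at h
      have hchk := h ims hleaf
      simp only [Bool.or_eq_true, beq_iff_eq] at hchk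
      rcases hchk with hT | hrec
      · exact hg1 (R.triv h2 C hgood hgens hs (hσid σ) hX (hT ▸ hims))
      · refine ih (ims :: acc) (fun p hp => hrest p (List.mem_cons_of_mem _ hp)) ?_ hrec
        intro e he
        rcases List.mem_cons.mp he with rfl | he
        · refine ⟨g, R.perm_of_img hs hims (fun q hq h0 => ?_) ?_⟩
          · exact (hnz _ hleaf q hq).1 (E.inj _ (hnz _ hleaf q hq).2 h0)
          · simp only [Check.checkGens, Bool.and_eq_true, List.all_eq_true, List.mem_range,
              beq_iff_eq] at hgens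
            exact hgens.1
        · exact hacc e he
  exact key CL [] (fun _ h => h) (fun _ h => by simp at h) hch

end FD

end Cfsg.Agent.BT62
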