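import Mathlib
import Cfsg.Agent.BT62.Sec
import Cfsg.Agent.BT62.SmallPairs
import Cfsg.Agent.BT62.Arith
import Cfsg.Agent.BT62.FMech

/-!
# The section case
-/

set_option autoImplicit false
set_option maxRecDepth 20000

namespace Cfsg.Agent.BT62

open Check in
theorem good_triv :
    ((goodCert (split 5 2) cert5_2 && checkGens 2 (cert5_2.steps.map Prod.fst)) &&
    (goodCert (split 5 3) cert5_3 && checkGens 3 (cert5_3.steps.map Prod.fst)) &&
    (goodCert (split 5 4) cert5_4 && checkGens 4 (cert5_4.steps.map Prod.fst)) &&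
    (goodCert (split9 2) cert9_2 && checkGens 2 (cert9_2.steps.map Prod.fst)) &&
    (goodCert (split9 3) cert9_3 && checkGens 3 (cert9_3.steps.map Prod.fst)) &&
    (goodCert (split 3 4) cert3_4 && checkGens 4 (cert3_4.steps.map Prod.fst))) = true := by
  decide +kernel

/-- The side conditions of a list of certificates with leaves. -/
def goodList (M : Check.Model) (C : Check.Cert) (L : List (List (ℕ × ℕ))) : Bool :=
  Check.goodCert M C && L.all fun ims => ims.all fun e => (e.1 != 0) && decide (e.1 < M.A.q)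

open Check in
theorem good_choice :
    ((goodList (split 3 2) c2_0 c2_0L && goodList (split 3 2) c2_1 c2_1L && goodList (split 3 2) c2_2 c2_2L) &&
    (goodList (split 3 3) c3_0 c3_0L && goodList (split 3 3) c3_1 c3_1L && goodList (split 3 3) c3_2 c3_2L) &&
    (goodList (nonsplit 3) c3m_0 c3m_0L && goodList (nonsplit 3) c3m_1 c3m_1L)) = true := by
  decide +kernel

theorem hCL_of_good {M : Check.Model} {C : Check.Cert} {L : List (List (ℕ × ℕ))} {G : List ℕ}
    (hg : goodList M C L = true) (hG : C.steps.map Prod.fst = G) (hc : Check.checkList M C L = true) :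
    Check.goodCert M C = true ∧ C.steps.map Prod.fst = G ∧ Check.checkList M C L = true ∧
      ∀ ims ∈ L, ∀ e ∈ ims, e.1 ≠ 0 ∧ e.1 < M.A.q := by
  simp only [goodList, Bool.and_eq_true, List.all_eq_true, bne_iff_ne, decide_eq_true_eq] at hg
  exact ⟨hg.1, hG, hc, hg.2⟩

/-- Every module with a symplectic section has a regular pair. -/
theorem secPair : SecPair := by
  intro H V K _ _ _ _ _ _ _ _ _ F hmax h2 hcop
  rcases F.exists_pair_or_small h2 with h | ⟨D, ⟨e0⟩, hD2, hD4, hX, hK⟩
  · exact h
  let e : F.X ≃+ (Fin D → ZMod 2) :=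
    (AddEquiv.mk' ⟨fun x => ⟨x, hX x⟩, fun y => y.1, fun _ => rfl, fun _ => rfl⟩
      (fun _ _ => rfl) : F.X ≃+ F.Xr 2).trans e0
  have g1 := good_triv
  have g2 := good_choice
  simp only [Bool.and_eq_true] at g1 g2
  obtain ⟨⟨⟨⟨⟨⟨g52, n52⟩, ⟨g53, n53⟩⟩, ⟨g54, n54⟩⟩, ⟨g92, n92⟩⟩, ⟨g93, n93⟩⟩, ⟨g34, n34⟩⟩ := g1
  obtain ⟨⟨⟨⟨a0, a1⟩, a2⟩, ⟨⟨b0, b1⟩, b2⟩⟩, ⟨m0, m1⟩⟩ := g2
  have st2 : Check.c2_0.steps.map Prod.fst = Check.c2G ∧ Check.c2_1.steps.map Prod.fst = Check.c2G ∧
      Check.c2_2.steps.map Prod.fst = Check.c2G := by decide +kernel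
  have st3 : Check.c3_0.steps.map Prod.fst = Check.c3G ∧ Check.c3_1.steps.map Prod.fst = Check.c3G ∧
      Check.c3_2.steps.map Prod.fst = Check.c3G := by decide +kernel
  have stm : Check.c3m_0.steps.map Prod.fst = Check.c3mG ∧
      Check.c3m_1.steps.map Prod.fst = Check.c3mG := by decide +kernel
  by_cases hpA : F.p ∈ F.A
  · -- the split shape
    have hYA : F.Y ≤ F.A := by
      rcases F.shape with ⟨-, h⟩ | ⟨p2, -, -, hp, -⟩
      · exact fun y hy => h y (F.mem_Y.mp hy).1 (F.mem_Y.mp hy).2
      · exact absurd hpA hp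
    rcases hK with h3 | h5 | ⟨h9, hD3⟩
    · haveI : Fact (Nat.Prime 3) := ⟨Nat.prime_three⟩
      obtain ⟨E, hE⟩ := exists_arithP (p := 3) (by norm_num) h3
      have hndvd : ¬(3 ∣ Nat.card H) := fun hd => by
        rw [h3, Nat.coprime_comm, Nat.Prime.coprime_iff_not_dvd Nat.prime_three] at hcop
        exact hcop hd
      have hfix : ∀ (n : F.N) (u : K), F.lmap n * F.lmap n = u • 1 →
          F.IsSq n ∨ ∃ c : K, c ≠ 0 ∧ -u = c ^ 2 := by
        intro n u hu
        obtain ⟨a, ha, rfl⟩ := E.surj u
        have ha' : a < 3 := ha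
        interval_cases a
        · exfalso
          obtain ⟨u', hu', hu''⟩ := F.lmap_sq hX n
          have := congrArg (fun f : Module.End K V => f F.v) (hu''.symm.trans hu)
          simp only [E.zero, LinearMap.smul_apply, Module.End.one_apply, zero_smul, LinearMap.zero_apply,
            smul_eq_zero] at this
          exact this.elim hu' F.hv
        · exact Or.inl ⟨1, one_ne_zero, by rw [hu, E.one, one_pow]⟩
        · refine Or.inr ⟨1, one_ne_zero, ?_⟩
          rw [show E.emb 2 = -1 from E.neg, neg_neg, one_pow]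
      interval_cases D
      · obtain ⟨R⟩ := F.exists_real_split (Check.split 3 2) E hX h2 e two_pos rfl rfl hYA hfix
        exact R.pair_of_choice h2 hndvd (sigma_id E hE) Check.c2_sep Check.c2_gens
          [(Check.c2_0, Check.c2_0L), (Check.c2_1, Check.c2_1L), (Check.c2_2, Check.c2_2L)]
          (by
            intro p hp
            simp only [List.mem_cons, List.not_mem_nil, or_false] at hp
            rcases hp with rfl | rfl | rfl
            · exact hCL_of_good a0 st2.1 Check.c2_0_ok
            · exact hCL_of_good a1 st2.2.1 Check.c2_1_ok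
            · exact hCL_of_good a2 st2.2.2 Check.c2_2_ok) Check.c2_choice
      · obtain ⟨R⟩ := F.exists_real_split (Check.split 3 3) E hX h2 e (by norm_num) rfl rfl hYA hfix
        exact R.pair_of_choice h2 hndvd (sigma_id E hE) Check.c3_sep Check.c3_gens
          [(Check.c3_0, Check.c3_0L), (Check.c3_1, Check.c3_1L), (Check.c3_2, Check.c3_2L)]
          (by
            intro p hp
            simp only [List.mem_cons, List.not_mem_nil, or_false] at hp
            rcases hp with rfl | rfl | rfl
            · exact hCL_of_good b0 st3.1 Check.c3_0_ok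
            · exact hCL_of_good b1 st3.2.1 Check.c3_1_ok
            · exact hCL_of_good b2 st3.2.2 Check.c3_2_ok) Check.c3_choice
      · obtain ⟨R⟩ := F.exists_real_split (Check.split 3 4) E hX h2 e (by norm_num) rfl rfl hYA hfix
        exact R.pair_of_triv h2 Check.cert3_4 [false] g34 n34 Check.cert3_4_ok
          (fun σ => ⟨false, List.mem_singleton_self _, fun a _ => sigma_id E hE σ _⟩)
    · haveI : Fact (Nat.Prime 5) := ⟨Nat.prime_five⟩
      obtain ⟨E, hE⟩ := exists_arithP (p := 5) (by norm_num) h5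
      obtain ⟨i, hi⟩ := exists_sqrt_neg_one (K := K) (by rw [h5]; norm_num)
      have hfix : ∀ (n : F.N) (u : K), F.lmap n * F.lmap n = u • 1 →
          F.IsSq n ∨ ∃ c : K, c ≠ 0 ∧ -u = c ^ 2 := fun n u _ => Or.inl (F.all_isSq hX hmax hi n)
      have hσ : ∀ σ : K →+* K, ∃ f ∈ [false], ∀ a < (Check.arithP 5).q,
          σ (E.emb a) = E.emb (if f then (Check.arithP 5).frob a else a) :=
        fun σ => ⟨false, List.mem_singleton_self _, fun a _ => sigma_id E hE σ _⟩
      interval_cases D
      · obtain ⟨R⟩ := F.exists_real_split (Check.split 5 2) E hX h2 e two_pos rfl rfl hYA hfix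
        exact R.pair_of_triv h2 Check.cert5_2 [false] g52 n52 Check.cert5_2_ok hσ
      · obtain ⟨R⟩ := F.exists_real_split (Check.split 5 3) E hX h2 e (by norm_num) rfl rfl hYA hfix
        exact R.pair_of_triv h2 Check.cert5_3 [false] g53 n53 Check.cert5_3_ok hσ
      · obtain ⟨R⟩ := F.exists_real_split (Check.split 5 4) E hX h2 e (by norm_num) rfl rfl hYA hfix
        exact R.pair_of_triv h2 Check.cert5_4 [false] g54 n54 Check.cert5_4_ok hσ
    · obtain ⟨E, i, hi, hE⟩ := exists_arith9 h9
      have hfix : ∀ (n : F.N) (u : K), F.lmap n * F.lmap n = u • 1 →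
          F.IsSq n ∨ ∃ c : K, c ≠ 0 ∧ -u = c ^ 2 := fun n u _ => Or.inl (F.all_isSq hX hmax hi n)
      have hσ : ∀ σ : K →+* K, ∃ f ∈ [false, true], ∀ a < Check.arith9.q,
          σ (E.emb a) = E.emb (if f then Check.arith9.frob a else a) := fun σ => by
        obtain ⟨f, hf⟩ := sigma_nine E hi hE σ h9
        exact ⟨f, by cases f <;> simp, hf⟩
      interval_cases D
      · obtain ⟨R⟩ := F.exists_real_split (Check.split9 2) E hX h2 e two_pos rfl rfl hYA hfix
        exact R.pair_of_triv h2 Check.cert9_2 [false, true] g92 n92 Check.cert9_2_ok hσ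
      · obtain ⟨R⟩ := F.exists_real_split (Check.split9 3) E hX h2 e (by norm_num) rfl rfl hYA hfix
        exact R.pair_of_triv h2 Check.cert9_3 [false, true] g93 n93 Check.cert9_3_ok hσ
  · -- the nonsplit shape: the field has three elements
    have h3 : Nat.card K = 3 := by
      rcases hK with h | h | ⟨h, -⟩
      · exact h
      all_goals
        obtain ⟨d, hd⟩ := exists_sqrt_neg_one (K := K) (by rw [h]; norm_num)
        exact absurd hd (F.neg_one_not_square hpA d)
    haveI : Fact (Nat.Prime 3) := ⟨Nat.prime_three⟩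
    obtain ⟨E, hE⟩ := exists_arithP (p := 3) (by norm_num) h3
    have hndvd : ¬(3 ∣ Nat.card H) := fun hd => by
      rw [h3, Nat.coprime_comm, Nat.Prime.coprime_iff_not_dvd Nat.prime_three] at hcop
      exact hcop hd
    have hfix : ∀ (n : F.N) (u : K), F.lmap n * F.lmap n = u • 1 →
        F.IsSq n ∨ ∃ c : K, c ≠ 0 ∧ -u = c ^ 2 := by
      intro n u hu
      obtain ⟨a, ha, rfl⟩ := E.surj u
      have ha' : a < 3 := ha
      interval_cases a
      · exfalso
        obtain ⟨u', hu', hu''⟩ := F.lmap_sq hX n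
        have := congrArg (fun f : Module.End K V => f F.v) (hu''.symm.trans hu)
        simp only [E.zero, LinearMap.smul_apply, Module.End.one_apply, zero_smul, LinearMap.zero_apply,
          smul_eq_zero] at this
        exact this.elim hu' F.hv
      · exact Or.inl ⟨1, one_ne_zero, by rw [hu, E.one, one_pow]⟩
      · refine Or.inr ⟨1, one_ne_zero, ?_⟩
        rw [show E.emb 2 = -1 from E.neg, neg_neg, one_pow]
    interval_cases D
    · obtain ⟨R⟩ := F.exists_real_quat (Check.nonsplit 3) E hX h3 e rfl rfl rfl hpA E.neg hfix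
      exact R.pair_of_choice h2 hndvd (sigma_id E hE) Check.c3m_sep Check.c3m_gens
        [(Check.c3m_0, Check.c3m_0L), (Check.c3m_1, Check.c3m_1L)]
        (by
          intro p hp
          simp only [List.mem_cons, List.not_mem_nil, or_false] at hp
          rcases hp with rfl | rfl
          · exact hCL_of_good m0 stm.1 Check.c3m_0_ok
          · exact hCL_of_good m1 stm.2 Check.c3m_1_ok) Check.c3m_choice
    · obtain ⟨S, f, h1, h4, h5, h6⟩ := plane_of_check search2_three rich_three
      exact F.exists_pair_plane hX h2 hpA e hfix S f h1 h4 h5 h6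
    · obtain ⟨S, f, h1, h4, h5, h6⟩ := plane_of_check search2_four rich_four
      exact F.exists_pair_plane hX h2 hpA e hfix S f h1 h4 h5 h6

end Cfsg.Agent.BT62
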